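import Cfsg.Agent.PQ.SS.Defs
import Cfsg.Agent.KZ.DatX.Three
import Cfsg.Agent.KZ.DatX.Weyl
import Cfsg.Agent.H70.SzAutThm

/-!
# PQ, the data of the exceptional groups (helper98)

`has_2B2`, `row_2B2`; `Ty` with `tyXG2 … tyXE8`; `Ty.dual`, `Ty.hi`, `czl`, `ker_xs`, `not_dvd_ker`, `not_dvd_index`;
`dual_G2 … dual_E8`.
-/

set_option autoImplicit false
set_option linter.unusedSectionVars false

namespace Cfsg.Agent.PQ.SS

open CoxeterSystem Cfsg Cfsg.Lie Cfsg.Lie.ChevalleyDatum Matrix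
open Cfsg.Agent.ChevalleyStructure Cfsg.Agent.ChevalleyStructure.Elts Cfsg.Agent.ChevalleyStructure.CoxeterGeom
  Cfsg.Agent.ChevalleyStructure.CoxeterGeomTypes Cfsg.Agent.ChevalleyStructure.NPerm
open Cfsg.Agent.Tits.Roots Cfsg.Agent.Nodes Cfsg.Agent.Nodes.RGDChev Cfsg.Agent.Nodes.BNOf
open Cfsg.Agent.KFacts.RgdChevCoord Cfsg.Agent.BpExc.TowChev Cfsg.Agent.GpExc.Field Cfsg.Agent.BpExc
  Cfsg.Agent.BpExc.TorChev
open Cfsg.Agent.DL Cfsg.Agent.DL.Ex Cfsg.Agent.DL.PP Cfsg.Agent.DL.Uni Cfsg.Agent.KZ.Lie Cfsg.Agent.KZ.DatX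

/-! ### the Suzuki groups -/

theorem spcD_Bm (m : ℕ) : Tw.SpcD chevB2 2 Tw.brB (fun r => m + Tw.lgB r) (Equiv.swap (0 : Fin 2) 1) (2 * m + 1) :=
  have h : (Tw.swB : Fin 2 → Fin 2) = Equiv.swap (0 : Fin 2) 1 := by decide
  h ▸ Tw.spcD_B2 m

/-- the special isogenies of `B₂` -/
noncomputable def gdBm (k : Type) [Field k] [CharP k 2] [IsAlgClosed k] (m : ℕ) :
    Gd hpB2 2 (Tw.szA k m) (Equiv.swap 0 1) fun i => m + (![1, 0] : Fin 2 → ℕ) i :=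
  gdC (Tw.spc_B2 k m) (spcD_Bm m) posB fun i => congrArg (m + ·) (exB i)

theorem has_2B2 {K : Type} [Field K] [Fintype K] {m : ℕ} (hm : 1 ≤ m) (hK : Fintype.card K = 2 ^ (2 * m + 1)) :
    Has hpB2 2 ((2 : ℤ) ^ m • GamB) (AdmF 2) 1 ↥(Lie.Sz K (2 ^ (m + 1))) := by
  obtain ⟨_, _, hk⟩ := Tw.setup' Nat.prime_two (Nat.succ_ne_zero _) hK
  have E := Tw.emb_B2 (algebraMap K (AlgebraicClosure K)) hK
  have O : Over (Tw.szA (AlgebraicClosure K) m) ⊤ (TT chevB2 _) (Tw.embB2 (algebraMap K _) (2 ^ (m + 1))) 1 := by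
    refine over_of_range E.inj (le_antisymm ?_ fun y hy => pow_one y ▸ E.pow y hy) (TT_comm hpB2) le_top
    rintro _ ⟨s, rfl⟩
    exact E.mem s
  refine ⟨AlgebraicClosure K, _, _, _, _, ⟨xsT hk ((Tw.spc_B2 _ m).amb (Tw.spcD_B2 m) hk (Nat.succ_pos _)) (gdBm _ m)
    (pm_add 2 _ m _) O (Nat.coprime_one_left _) (fun _ => idx_of_one O rfl) fun σ => ?_⟩⟩
  obtain ⟨g, τ, φ, h1, h2⟩ := H70.SzAutThm.exists_conj_map hm hK σ
  obtain ⟨j, hj⟩ := exists_frob 2 τ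
  refine ⟨_, (O.mem g).2, j, fun s => ?_⟩
  rw [h2, map_mul, map_mul, map_inv]
  congr 2
  obtain ⟨B, h3, h4⟩ := Tw.transfer (fun X => X.map (τ : K →+* K))
    (fun g _ h _ => by rw [Units.val_mul, Matrix.map_mul]) (by simp) (emb hpB2.inList (τ : K →+* K))
    (fun r t => ⟨_, _, Tw.map_uM _ r t, by rw [Tw.toCh_uS, Tw.toCh_uS, emb_xc]⟩) (Tw.szS K _ s)
  have h5 : Tw.szS K _ (φ s) = B := Tw.toSp_inj (Units.ext (by
    rw [h3, Tw.toSp_szS, Tw.toSp_szS]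
    ext a b
    exact h1 s a b))
  have h6 : (emb hpB2.inList (algebraMap K (AlgebraicClosure K))).comp (emb hpB2.inList (τ : K →+* K)) =
      (frobA hpB2.inList 2 j).toMonoidHom.comp (emb hpB2.inList (algebraMap K _)) := by
    refine xr_hom_ext hpB2.inList fun r hr t => ?_
    show emb hpB2.inList _ (emb hpB2.inList _ _) = frobA hpB2.inList 2 j (emb hpB2.inList _ _)
    rw [emb_xr, emb_xr, emb_xr, frobA_xr, RingHom.coe_coe, hj, map_pow]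
  show emb hpB2.inList _ (Tw.toCh K (Tw.szS K _ (φ s))) = _
  rw [h5, h4]
  exact DFunLike.congr_fun h6 _

theorem row_2B2 {S : Type} [Group S] (h : IsoSuzuki S) :
    ∃ m : ℕ, 1 ≤ m ∧ Has hpB2 2 ((2 : ℤ) ^ m • GamB) (AdmF 2) 1 S := by
  obtain ⟨K, _, _, m, hm, hK, ⟨i⟩⟩ := h
  exact ⟨m, hm, (has_2B2 hm hK).congr i⟩

/-! ### the root data -/

/-- `B` is `n` times the inverse of the Cartan matrix, up to the permutation `π`; the last root is the highest one and its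
coefficients divide `c` -/
structure Ty (C : ChevalleyDatum) (l : ℕ) (B : Matrix (Fin l) (Fin l) ℤ) (π : Fin l → Fin l) (n c : ℕ) : Prop where
  s1 : ∀ i j, ∑ a, cartanOf C l i a * B a j = if j = π i then (n : ℤ) else 0
  s2 : ∀ i j, ∑ a, B j a * cartanOf C l (π i) a = if j = i then (n : ℤ) else 0
  pos : C.nroots - 1 < C.nroots
  le : ∀ r < C.nroots, ∀ i, vec C l r i ≤ vec C l (C.nroots - 1) i
  dv : ∀ i, vec C l (C.nroots - 1) i ∣ (c : ℤ)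

section

variable {C : ChevalleyDatum} {n : ℕ} {M : CoxeterMatrix (Fin n)} {hp : IsType C n M} {p : ℕ} [Fact p.Prime] {k : Type}
  [Field k] [CharP k p] [IsAlgClosed k] {Mx B : Matrix (Fin n) (Fin n) ℤ} {π : Fin n → Fin n} {a c l : ℕ}

theorem Ty.dual (T : Ty C n B π a c) (X : XF hp p k Mx) (h : Mxᵀ * B = B * Mx) (hl : l.Prime) (ha : ¬ l ∣ a) :
    Dual X.D l B := by
  have h0 : ¬ (l : ℤ) ∣ a := fun h1 => ha (Int.natCast_dvd_natCast.1 h1)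
  have h4 : ∀ i j : Fin n, (if j = i then (a : ℤ) else 0) = (a : ℤ) * sr i j := fun i j => by
    rw [sr, Pi.single_apply, mul_ite, mul_one, mul_zero]
  refine ⟨fun h1 => h0 ?_, fun i => ⟨π i, a, h0, funext fun j => (T.s1 i j).trans (h4 _ _),
    funext fun j => (T.s2 i j).trans (h4 _ _)⟩, h⟩
  · have h2 : B * (Matrix.of fun b i => cartanOf C n (π i) b) = (a : ℤ) • (1 : Matrix (Fin n) (Fin n) ℤ) := by
      ext j i
      rw [Matrix.mul_apply, Matrix.smul_apply, Matrix.one_apply, smul_ite, smul_eq_mul, mul_one, smul_zero]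
      exact T.s2 i j
    have h3 := congrArg Matrix.det h2
    rw [Matrix.det_mul, Matrix.det_smul, Matrix.det_one, mul_one] at h3
    exact (Nat.prime_iff_prime_int.1 hl).dvd_of_dvd_pow (h3 ▸ h1.mul_right _)

theorem Ty.hi (T : Ty C n B π a c) (X : XF hp p k Mx) (hc : ¬ l ∣ c) : Hi X.D l := by
  refine ⟨vec C n (C.nroots - 1), (X.rt_iff _).2 ⟨_, T.pos, rfl⟩, fun b hb => ?_,
    fun i h => hc (Int.natCast_dvd_natCast.1 (h.trans (T.dv i)))⟩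
  obtain ⟨r, hr, rfl⟩ := (X.rt_iff b).1 hb
  exact T.le r hr

theorem czl (X : XF hp p k Mx) (hl : l.Prime) : CZl X.D l :=
  ⟨1, fun i => Pi.single i 1, hl.not_dvd_one, fun b i => by
    show b ⬝ᵥ Pi.single i 1 = _
    rw [dotProduct_single, mul_one, Nat.cast_one, one_mul]⟩

variable {X : XF hp p k Mx} {Adm : Matrix (Fin n) (Fin n) ℤ → Prop} {d : ℕ} {S : Type} [Group S] (s : XS X Adm d S)

theorem ker_xs [Fintype ↥(GF X.F ⊤)] (f : Fr X.D) (l : ℕ) (B : Matrix (Fin n) (Fin n) ℤ) : Ker f s.sit l B :=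
  fun _ _ _ _ _ _ _ _ _ => s.z1 f _

theorem card_ker_xs : Nat.card s.sit.π.ker = 1 := by
  rw [(MonoidHom.ker_eq_bot_iff _).2 s.sit_π_inj, Subgroup.card_bot]

theorem not_dvd_ker (hl : l.Prime) : ¬ l ∣ Nat.card s.sit.π.ker := by
  rw [card_ker_xs]
  exact hl.not_dvd_one

theorem not_dvd_index (hl : l.Prime) (hd : ¬ l ∣ d) : ¬ l ∣ s.sit.H1.index := fun h => by
  have := X.finite
  have := Fintype.ofFinite ↥(GF X.F ⊤)
  have := s.sit.normal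
  have : Fact l.Prime := ⟨hl⟩
  obtain ⟨x, hx⟩ := exists_prime_orderOf_dvd_card' (G := ↥(GF X.F ⊤) ⧸ s.sit.H1) l h
  obtain ⟨g, rfl⟩ := QuotientGroup.mk_surjective x
  refine hd (hx ▸ orderOf_dvd_of_pow_eq_one ?_)
  rw [← QuotientGroup.mk_pow, QuotientGroup.eq_one_iff]
  exact s.pow_mem g.2

theorem mx_smul {P : Matrix (Fin n) (Fin n) ℤ} (h : Pᵀ * B = B * P) (q : ℤ) : (q • P)ᵀ * B = B * (q • P) := by
  rw [Matrix.transpose_smul, Matrix.smul_mul, Matrix.mul_smul, h]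

theorem mx_one (q : ℤ) : (q • (1 : Matrix (Fin n) (Fin n) ℤ))ᵀ * B = B * (q • 1) :=
  mx_smul (by rw [Matrix.transpose_one, Matrix.one_mul, Matrix.mul_one]) q

end

/-- the dual matrices -/
def bG2 : Matrix (Fin 2) (Fin 2) ℤ := !![3, 2; 2, 1]

/-- the dual matrices -/
def bB2 : Matrix (Fin 2) (Fin 2) ℤ := !![2, 2; 2, 1]

/-- the dual matrices -/
def bD4 : Matrix (Fin 4) (Fin 4) ℤ := !![2, 2, 1, 1; 2, 4, 2, 2; 1, 2, 1, 2; 1, 2, 2, 1]

/-- the dual matrices -/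
def bF4 : Matrix (Fin 4) (Fin 4) ℤ := !![2, 4, 3, 2; 4, 8, 6, 3; 3, 6, 4, 2; 2, 3, 2, 1]

/-- the dual matrices -/
def bE6 : Matrix (Fin 6) (Fin 6) ℤ :=
  !![4, 3, 5, 6, 4, 2; 3, 6, 6, 9, 6, 3; 5, 6, 10, 12, 8, 4; 6, 9, 12, 18, 12, 6; 4, 6, 8, 12, 10, 5; 2, 3, 4, 6, 5, 4]

/-- the dual matrices -/
def bE7 : Matrix (Fin 7) (Fin 7) ℤ :=
  !![4, 4, 6, 8, 6, 4, 2; 4, 7, 8, 12, 9, 6, 3; 6, 8, 12, 16, 12, 8, 4; 8, 12, 16, 24, 18, 12, 6; 6, 9, 12, 18, 15, 10, 5;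
    4, 6, 8, 12, 10, 8, 4; 2, 3, 4, 6, 5, 4, 3]

/-- the dual matrices -/
def bE8 : Matrix (Fin 8) (Fin 8) ℤ :=
  !![4, 5, 7, 10, 8, 6, 4, 2; 5, 8, 10, 15, 12, 9, 6, 3; 7, 10, 14, 20, 16, 12, 8, 4; 10, 15, 20, 30, 24, 18, 12, 6;
    8, 12, 16, 24, 20, 15, 10, 5; 6, 9, 12, 18, 15, 12, 8, 4; 4, 6, 8, 12, 10, 8, 6, 3; 2, 3, 4, 6, 5, 4, 3, 2]

theorem tyXG2 : Ty chevG2 2 bG2 ![1, 0] 1 6 :=
  ⟨by decide +kernel, by decide +kernel, by decide +kernel, by decide +kernel, by decide +kernel⟩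

theorem tyXB2 : Ty chevB2 2 bB2 ![1, 0] 2 2 :=
  ⟨by decide +kernel, by decide +kernel, by decide +kernel, by decide +kernel, by decide +kernel⟩

theorem tyXD4 : Ty chevD4 4 bD4 ![0, 1, 3, 2] 2 2 :=
  ⟨by decide +kernel, by decide +kernel, by decide +kernel, by decide +kernel, by decide +kernel⟩

theorem tyXF4 : Ty chevF4 4 bF4 ![3, 2, 1, 0] 1 12 :=
  ⟨by decide +kernel, by decide +kernel, by decide +kernel, by decide +kernel, by decide +kernel⟩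

theorem tyXE6 : Ty chevE6 6 bE6 id 3 6 :=
  ⟨by decide +kernel, by decide +kernel, by decide +kernel, by decide +kernel, by decide +kernel⟩

theorem tyXE7 : Ty chevE7 7 bE7 id 2 12 :=
  ⟨by decide +kernel, by decide +kernel, by decide +kernel, by decide +kernel, by decide +kernel⟩

theorem tyXE8 : Ty chevE8 8 bE8 id 1 60 :=
  ⟨by decide +kernel, by decide +kernel, by decide +kernel, by decide +kernel, by decide +kernel⟩

theorem mx_G : GamGᵀ * bG2 = bG2 * GamG := by rw [GamG_eq]; decide +kernel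

theorem mx_B : GamBᵀ * bB2 = bB2 * GamB := by rw [GamB_eq]; decide +kernel

theorem mx_F : GamFᵀ * bF4 = bF4 * GamF := by rw [GamF_eq]; decide +kernel

theorem mx_4 : P4ᵀ * bD4 = bD4 * P4 := by rw [P4_eq]; decide +kernel

theorem mx_6 : P6ᵀ * bE6 = bE6 * P6 := by rw [P6_eq]; decide +kernel

section

variable {p : ℕ} [Fact p.Prime] {k : Type} [Field k] [CharP k p] [IsAlgClosed k] {l : ℕ} {q : ℤ} (hl : l.Prime)
include hl

theorem dual_G2 (X : XF hpG2 p k (q • 1)) : Dual X.D l bG2 := tyXG2.dual X (mx_one q) hl hl.not_dvd_one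

theorem dual_2G2 (X : XF hpG2 p k (q • GamG)) : Dual X.D l bG2 := tyXG2.dual X (mx_smul mx_G q) hl hl.not_dvd_one

theorem dual_F4 (X : XF hpF4 p k (q • 1)) : Dual X.D l bF4 := tyXF4.dual X (mx_one q) hl hl.not_dvd_one

theorem dual_2F4 (X : XF hpF4 p k (q • GamF)) : Dual X.D l bF4 := tyXF4.dual X (mx_smul mx_F q) hl hl.not_dvd_one

theorem dual_E8 (X : XF hpE8 p k (q • 1)) : Dual X.D l bE8 := tyXE8.dual X (mx_one q) hl hl.not_dvd_one

theorem dual_E7 (h : l ≠ 2) (X : XF hpE7 p k (q • 1)) : Dual X.D l bE7 :=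
  tyXE7.dual X (mx_one q) hl fun h1 => h ((Nat.prime_dvd_prime_iff_eq hl Nat.prime_two).1 h1)

theorem dual_E6 (h : l ≠ 3) (X : XF hpE6 p k (q • 1)) : Dual X.D l bE6 :=
  tyXE6.dual X (mx_one q) hl fun h1 => h ((Nat.prime_dvd_prime_iff_eq hl Nat.prime_three).1 h1)

theorem dual_2E6 (h : l ≠ 3) (X : XF hpE6 p k (q • P6)) : Dual X.D l bE6 :=
  tyXE6.dual X (mx_smul mx_6 q) hl fun h1 => h ((Nat.prime_dvd_prime_iff_eq hl Nat.prime_three).1 h1)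

theorem dual_3D4 (h : l ≠ 2) (X : XF hpD4 p k (q • P4)) : Dual X.D l bD4 :=
  tyXD4.dual X (mx_smul mx_4 q) hl fun h1 => h ((Nat.prime_dvd_prime_iff_eq hl Nat.prime_two).1 h1)

theorem dual_2B2 (h : l ≠ 2) (X : XF hpB2 p k (q • GamB)) : Dual X.D l bB2 :=
  tyXB2.dual X (mx_smul mx_B q) hl fun h1 => h ((Nat.prime_dvd_prime_iff_eq hl Nat.prime_two).1 h1)

end

end Cfsg.Agent.PQ.SS
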