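import Cfsg.Agent.PQ.SS.Defs
import Cfsg.Agent.H690.OwnD.Mem
import Cfsg.Agent.H143.ChevBlocks

/-!
# PQ: the principal block in the defining characteristic (helper74)

All irreducible characters but the Steinberg character lie in the principal block.
-/

set_option autoImplicit false

namespace Cfsg.Agent.PQ.SS

open Cfsg

variable {S : Type*} [Group S] [Finite S] {r : ℕ} {M : Ideal AlgInt}

/-- a character which is not of defect zero lies in the principal block -/
theorem prin_char (hL : IsLieTypeChar r S) (hM : IsPModular r M) {χ : IrrCharacter S}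
    (h : ¬ r ^ (Nat.card S).factorization r ∣ charDegree (χ : S → ℂ)) : χ ∈ principalBlock M S := by
  have := Fact.mk hM.1
  by_contra h1
  exact h (H690.OwnD.dz_own hL hM h1)

/-- a character of degree prime to the characteristic lies in the principal block -/
theorem prin_of_not_dvd (hL : IsLieTypeChar r S) (hM : IsPModular r M) {χ : IrrCharacter S}
    (h : ¬ r ∣ charDegree (χ : S → ℂ)) : χ ∈ principalBlock M S := by
  have := Fact.mk hM.1
  exact H690.OwnD.mem_own hL hM h

/-- outside the principal block there is only the Steinberg character -/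
theorem deg_of_not_prin (hL : IsLieTypeChar r S) (hM : IsPModular r M) {χ : IrrCharacter S}
    (h : χ ∉ principalBlock M S) : charDegree (χ : S → ℂ) = r ^ (Nat.card S).factorization r := by
  have hp := Fact.mk hM.1
  have := H400.LieSimple.isSimple_of_lie hL
  have hS := H716.SplitAb.hasSplitAb_of_lie hM.1 hL
  have hS' := H330.Gow.hasSplit_of_ab hS
  obtain ⟨ψ, hψ, h1, -⟩ := H330.GowSt.exists_st_of_hasSplit hS'
  have h2 : charDegree ψ = r ^ (Nat.card S).factorization r := Blocks.Basic.charDegree_of_eq h1
  have key : ∀ φ : IrrCharacter S, r ^ (Nat.card S).factorization r ∣ charDegree (φ : S → ℂ) →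
      ¬ r ∣ Nat.card S / charDegree (φ : S → ℂ) := fun φ h3 => (H143.ChevBlocks.not_dvd_iff φ.2).2
    ((hM.1.pow_dvd_iff_le_factorization (Blocks.Basic.charDegree_pos φ.2).ne').1 h3)
  rw [H330.GowOne.unique_of_hasSplitAb hS (H330.Gow.perfect_of_split hS') χ ⟨ψ, hψ⟩
    (key χ (H690.OwnD.dz_own hL hM h)) (key ⟨ψ, hψ⟩ h2.symm.dvd)]
  exact h2

/-- a character of degree divisible by another prime lies in the principal block -/
theorem prin_of_dvd (hL : IsLieTypeChar r S) (hM : IsPModular r M) {χ : IrrCharacter S} {m : ℕ} (hm : m.Prime)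
    (hr : m ≠ r) (h : m ∣ charDegree (χ : S → ℂ)) : χ ∈ principalBlock M S := by
  by_contra h1
  rw [deg_of_not_prin hL hM h1] at h
  exact hr ((Nat.prime_dvd_prime_iff_eq hm hM.1).1 (hm.dvd_of_dvd_pow h))

end Cfsg.Agent.PQ.SS
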