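import Cfsg.Agent.PQ.SS.Defs87
import Cfsg.Agent.KZ.Dat.GlH
import Cfsg.Agent.KZ.Mts.Main

/-!
# PQ/SS, row A (helper76): SEMI for the linear and unitary groups

`AL s Q` : the facts on the data of `GL` (`Q = q`) and `GU` (`Q = -q`); `AL.dual`, `AL.czl`, `AL.good`, `AL.ker`;
`alL`, `alU`; `rowA_of`.
-/

set_option autoImplicit false
set_option linter.unusedSectionVars false

namespace Cfsg.Agent.PQ.SS.RA

open Cfsg Cfsg.Agent.DL Cfsg.Agent.DL.PP Cfsg.Agent.KZ.Lie Cfsg.Agent.KZ.Dat Cfsg.Agent.LV.Blk Matrix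
  Cfsg.Agent.Tits.Roots Cfsg.Agent.ODD.C2 Cfsg.Agent.ODD.C2.GlA Cfsg.Agent.Nodes.RootsA

section

variable {p : ℕ} [Fact p.Prime] {k : Type} [Field k] [CharP k p] {Y : Type} [Group Y] {N : Type} [Fintype N]
  [DecidableEq N] {ρ : Y →* GL N k} {F : MulAut Y} {G : Subgroup Y} [IsAlgClosed k] {D : Datum p ρ F G}
  {Adm : Matrix D.R D.R ℤ → Prop} {S : Type} [Group S]

theorem mon_const {R : Type} [Fintype R] (A : Matrix R R ℤ) {Q : ℤ} (h : A *ᵥ (fun _ => 1) = fun _ => Q) (a : kˣ) :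
    mon A (fun _ => a) = fun _ => a ^ Q := funext fun i => by
  rw [mon_apply, chr_apply, ← congrFun h i]
  simp only [mulVec, dotProduct, mul_one]
  induction (Finset.univ : Finset R) using Finset.cons_induction with
  | empty => simp
  | cons j t hj ih => rw [Finset.prod_cons, Finset.sum_cons, ih, _root_.zpow_add]

/-- scalars act on the Deligne-Lusztig characters by a power of the product of the coordinates of the label -/
theorem cen_act [Fintype ↥(GF F G)] {f : Fr D} (hA : Api f) [Nonempty D.R] {Q : ℤ}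
    (hM : D.Mx *ᵥ (fun _ => 1) = fun _ => Q) (hw : ∀ a x, D.wt a ⬝ᵥ (fun _ => x) = 0) (z : ↥(GF F G)) {t : kˣ}
    (hz : (z : Y) = D.τ fun _ => t) :
    ∃ x : ℤ, ∀ w c g, RW f w c (z * g) = ((∏ i, c i) ^ x : ℂˣ) * RW f w c g := by
  have h1 : ∀ a : kˣ, F (D.τ fun _ => a) = D.τ fun _ => a ^ Q := fun a => by rw [D.F_τ, mon_const _ hM]
  have h2 : ∀ (i : ℕ) (a : kˣ), (F ^ i) (D.τ fun _ => a) = D.τ fun _ => a ^ Q ^ i := fun i a => by
    induction i with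
    | zero => simp
    | succ i ih => rw [Mk.pow_succ_apply, ih, h1, ← _root_.zpow_mul, ← pow_succ]
  have h4 : ∀ (d : ℕ) (a : kˣ), Mk.nrm F d (D.τ fun _ => a) = D.τ fun _ => a ^ ∑ i ∈ Finset.range d, Q ^ i := fun d a => by
    induction d with
    | zero => exact (map_one D.τ).symm.trans (congrArg D.τ (funext fun _ => by simp))
    | succ d ih =>
      rw [Mk.nrm_succ, ih, h2, ← map_mul, Finset.sum_range_succ]
      congr 1
      funext _
      rw [Pi.mul_apply, _root_.zpow_add]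
  obtain ⟨i⟩ := ‹Nonempty D.R›
  have h3 : ∀ d : ℕ, D.Mx ^ d *ᵥ (fun _ => 1) = fun _ => Q ^ d := fun d => by
    induction d with
    | zero => rw [pow_zero, one_mulVec, pow_zero]
    | succ d ih =>
      rw [pow_succ, ← mulVec_mulVec, hM, show (fun _ => Q : D.R → ℤ) = Q • fun _ => 1 from funext fun _ => (mul_one Q).symm,
        mulVec_smul, ih, pow_succ']
      rfl
  set n := ∑ i ∈ Finset.range f.d, Q ^ i with hn
  have h5 : n * (Q - 1) = ((p ^ f.e - 1 : ℕ) : ℤ) := by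
    have h := f.L.pow 1
    rw [D.Wm_one, one_mul] at h
    have h6 := congrFun (h3 f.d) i
    rw [h, smul_mulVec, one_mulVec, Pi.smul_apply, smul_eq_mul, mul_one] at h6
    rw [hn, geom_sum_mul, ← h6, Nat.cast_sub (Nat.one_le_pow _ _ (Fact.out : p.Prime).pos)]
    simp
  have h6 : p ^ f.e - 1 ≠ 0 := Nat.sub_ne_zero_of_lt (Nat.one_lt_pow f.L.e_pos.ne' (Fact.out : p.Prime).one_lt)
  have h7 : Q - 1 ≠ 0 := fun e => h6 (by rw [e, mul_zero] at h5; exact_mod_cast h5.symm)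
  have h8 : t ^ (Q - 1) = 1 := by
    have h : F z = z := z.2.2
    rw [hz, h1] at h
    rw [_root_.zpow_sub, zpow_one, congrFun (D.τ_inj h) i, mul_inv_cancel]
  have : NeZero (p ^ f.e - 1) := ⟨h6⟩
  obtain ⟨y, -, rfl⟩ := f.hζ.eq_pow_of_mem_rootsOfUnity (ξ := t) ((mem_rootsOfUnity _ _).2 (by
    rw [← zpow_natCast, ← h5, mul_comm, _root_.zpow_mul, h8, _root_.one_zpow]))
  rw [← zpow_natCast, ← _root_.zpow_mul, f.hζ.zpow_eq_one_iff_dvd, ← h5, mul_dvd_mul_iff_right h7] at h8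
  obtain ⟨x, hx⟩ := h8
  refine ⟨x, fun w c g => ?_⟩
  rw [hA.cen z (fun _ => x) (fun a => hw a x) (by
    show (z : Y) = Mk.nrm F f.d (D.τ fun _ => f.ζ ^ x)
    rw [h4, hz, ← _root_.zpow_mul, mul_comm x, ← hx, zpow_natCast]), chr_apply, Finset.prod_zpow]

/-- the data of `GL` and `GU` -/
structure AL (s : Sit D Adm S) (Q : ℤ) : Prop where
  ne : Nonempty D.R
  sym : D.Mxᵀ = D.Mx
  mx : D.Mx *ᵥ (fun _ => 1) = fun _ => Q
  rt : ∀ a, D.Rt a → ∃ i j, D.wt a = Pi.single i 1 - Pi.single j 1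
  cw : ∀ i, D.cw i = D.wt (sr i)
  cz : ∃ ϖ : D.I → D.R → ℤ, ∀ b i, D.wt b ⬝ᵥ ϖ i = b i
  cen : ∀ z : ↥s.H0, s.π z = 1 → ∃ t : kˣ, (z : Y) = D.τ fun _ => t
  det : ∀ y ∈ G, ∀ c, y * D.τ c * y⁻¹ ∈ s.H0 → ∏ i, c i = 1

namespace AL

variable {s : Sit D Adm S} {Q : ℤ} (L : AL s Q) {l : ℕ}
include L

theorem dual (hl : l.Prime) : Dual D l 1 where
  det := by
    rw [det_one]
    exact fun h => hl.one_lt.ne' (Nat.dvd_one.1 (by exact_mod_cast h))
  sim i := ⟨i, 1, fun h => hl.one_lt.ne' (Nat.dvd_one.1 (by exact_mod_cast h)), by rw [vecMul_one, one_smul, L.cw],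
    by rw [one_mulVec, one_smul, L.cw]⟩
  mx := by rw [mul_one, one_mul, L.sym]

theorem czl (hl : l.Prime) : CZl D l :=
  let ⟨ϖ, h⟩ := L.cz
  ⟨1, ϖ, hl.not_dvd_one, fun b i => by rw [h, Nat.cast_one, one_mul]⟩

theorem good (hl : l.Prime) : Good D l := fun j v => by
  have h0 : (0 : ℤ) < (l : ℤ) ^ j := pow_pos (by exact_mod_cast hl.pos) j
  refine ⟨1, fun i => v i % (l : ℤ) ^ j, hl.not_dvd_one, fun i => ?_, fun a ha h => ?_⟩
  · rw [Nat.cast_one, one_mul]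
    exact (Int.mod_modEq (v i) _).symm.dvd
  · obtain ⟨i, i', h1⟩ := L.rt a ha
    rw [h1, sub_dotProduct, single_dotProduct, single_dotProduct, one_mul, one_mul] at h ⊢
    have h2 := Int.emod_nonneg (v i) h0.ne'
    have h3 := Int.emod_nonneg (v i') h0.ne'
    have h4 := Int.emod_lt_of_pos (v i) h0
    have h5 := Int.emod_lt_of_pos (v i') h0
    exact Int.eq_zero_of_abs_lt_dvd h (abs_lt.2 ⟨by omega, by omega⟩)

theorem wt_const (a : D.I → ℤ) (x : ℤ) : D.wt a ⬝ᵥ (fun _ => x) = 0 := by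
  rw [D.eq_sum_sr a, map_sum, sum_dotProduct]
  refine Finset.sum_eq_zero fun i _ => ?_
  obtain ⟨i', j', h⟩ := L.rt _ (Tits.Roots.isRoot_sr D.cs D.h i)
  rw [map_zsmul, smul_dotProduct, h, sub_dotProduct, single_dotProduct, single_dotProduct, sub_self, smul_zero]

theorem ker [Fintype ↥(GF F G)] (f : Fr D) : Ker f s l 1 := by
  intro j ζ v y ξ hζ hξ hy h z hz w g
  have := L.ne
  obtain ⟨t, ht⟩ := L.cen z hz
  obtain ⟨x, hx⟩ := cen_act (KZ.Mts.boxApi f s.qs) L.mx L.wt_const ⟨z, s.le z.2⟩ ht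
  have h1 : ∀ {K : Type} [Field K] (a : Kˣ), ∏ i, a ^ v i = a ^ ∑ i, v i := fun a => by
    induction (Finset.univ : Finset D.R) using Finset.cons_induction with
    | empty => simp
    | cons j t hj ih => rw [Finset.prod_cons, Finset.sum_cons, ih, _root_.zpow_add]
  have h2 := L.det y hy _ h
  simp only [coch_apply] at h2
  rw [h1, hζ.zpow_eq_one_iff_dvd] at h2
  obtain ⟨u, hu⟩ := h2
  rw [hx, one_mulVec, h1, hu, _root_.zpow_mul, zpow_natCast, hξ, _root_.one_zpow, _root_.one_zpow, Units.val_one, one_mul]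

theorem semi (hB : BoxSemi) [Fintype ↥(GF F G)] (hl : l.Prime) (hp : l ≠ p) : Semi p l S :=
  let ⟨f⟩ := nonempty_fr D
  (hB f s hl hp (L.dual hl) (L.czl hl) (L.good hl) (L.ker f)).1

end AL

end

attribute [local instance] finite_WA

variable {n p : ℕ} [Fact p.Prime] {k : Type} [Field k] [CharP k p] [IsAlgClosed k] {e : ℕ}
  (hk : ∀ a : k, ∃ j, 0 < j ∧ a ^ p ^ j = a) (he : 0 < e)

theorem al_of {α : MulAut (GL (Fin (n + 1)) k)} {g : (Fin n → ℤ) → Fin n → ℤ} {B : Matrix (Fin (n + 1)) (Fin (n + 1)) ℤ}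
    (Sy : (smA n).Sy (csA n) (isCartan n) α g B) {Adm : _ → Prop} {T : Type} [Group T] (s : Sit (datA hk he Sy) Adm T)
    (hs : ∀ y ∈ s.H0, GeneralLinearGroup.det y = 1) {ε : ℤ} (h1 : Bᵀ = B) (h2 : B *ᵥ (fun _ => 1) = fun _ => ε) :
    AL s (ε * (p ^ e : ℕ)) where
  ne := ⟨(0 : Fin (n + 1))⟩
  sym := by
    show ((p : ℤ) ^ e • B)ᵀ = (p : ℤ) ^ e • B
    rw [transpose_smul, h1]
  mx := by
    show ((p : ℤ) ^ e • B) *ᵥ (fun _ => 1) = fun _ => ε * (p ^ e : ℕ)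
    rw [smul_mulVec, h2, Nat.cast_pow, mul_comm]
    rfl
  rt a ha := let ⟨i, j, _, h, _⟩ := datA_rt' hk he Sy ha; ⟨i, j, h⟩
  cw i := (wtA_sr i).symm
  cz := ⟨_, czA⟩
  cen z hz := let ⟨t, _, h⟩ := cen_A hk he Sy s hs z hz; ⟨t, h⟩
  det y _ c h := by
    have h3 := hs _ h
    rw [map_mul, map_mul, map_inv, mul_inv_cancel_comm] at h3
    exact (datA_det hk he Sy c).symm.trans h3

theorem BA_tr (n : ℕ) : (BA n)ᵀ = BA n := by
  rw [BA_eq, transpose_neg]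
  congr 1
  ext i j
  rw [transpose_apply, spm_apply, spm_apply]
  exact if_congr ⟨fun h => by rw [h]; exact (Fin.rev_rev _).symm, fun h => by rw [h]; exact (Fin.rev_rev _).symm⟩ rfl rfl

theorem BA_one (n : ℕ) : BA n *ᵥ (fun _ => 1) = fun _ => -1 := by
  funext i
  obtain ⟨i, rfl⟩ := (Fin.revPerm (n := n + 1)).surjective i
  rw [BA_eq, neg_mulVec, Pi.neg_apply, spm_mulVec]
  simp

variable {F : Type} [Field F] [Fintype F] (f : F →+* k) {S : Type} [Group S]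

theorem alL (hF : Fintype.card F = p ^ e) (hn : 1 ≤ n) (h4 : n = 1 → 4 ≤ Fintype.card F)
    (i : ProjectiveSpecialLinearGroup (Fin (n + 1)) F ≃* S) :
    AL ((covL f hk he hF hn h4).congr i).sit (1 * (p ^ e : ℕ)) :=
  al_of hk he _ ((covL f hk he hF hn h4).congr i).sit (fun y hy => ((covL_H0 f hk he hF hn h4 y).1 hy).2) transpose_one (one_mulVec _)

theorem alU (hF : Fintype.card F = (p ^ e) ^ 2) (hn : 2 ≤ n) (h2 : ¬ (n = 2 ∧ p ^ e = 2)) (i : PSU (n + 1) F (p ^ e) ≃* S) :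
    AL ((covU f hk he hF hn h2).congr i).sit (-1 * (p ^ e : ℕ)) :=
  al_of hk he _ ((covU f hk he hF hn h2).congr i).sit (fun y hy => ((covU_H0 f hk he hF hn h2 y).1 hy).2) (BA_tr n) (BA_one n)

omit hk he f in
theorem char_eq {r : ℕ} [CharP F r] (f : F →+* k) : r = p :=
  CharP.eq F ‹_› (f.charP f.injective p)

omit hk he f in
/-- **ROW A** -/
theorem _root_.Cfsg.Agent.PQ.SS.rowA_of (hB : BoxSemi) : RowA := by
  rintro r l S _ - hl hr (⟨F, _, _, _, m, h1, h2, ⟨i⟩⟩ | ⟨F, _, _, _, m, q, hF, h1, h2, ⟨i⟩⟩)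
  · obtain ⟨n, rfl⟩ : ∃ n, m = n + 1 := ⟨m - 1, by omega⟩
    obtain ⟨p, _, e, k, _, _, _, f, hk, he, hF⟩ := hasL F
    obtain rfl : r = p := char_eq f
    have := (datL n hk he).amb.finite_GF (GA n k)
    have := Fintype.ofFinite (GF (1 * frP _ r k e) (GA n k))
    exact (alL hk he f hF (by omega) (fun h => h2 (by omega)) i.symm).semi hB hl hr
  · obtain ⟨n, rfl⟩ : ∃ n, m = n + 1 := ⟨m - 1, by omega⟩
    obtain ⟨p, _, e, k, _, _, _, f, hk, he, rfl⟩ := hasU F hF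
    obtain rfl : r = p := char_eq f
    have := (datU n hk he).amb.finite_GF (GA n k)
    have := Fintype.ofFinite (GF (γA n k * frP _ r k e) (GA n k))
    exact (alU hk he f hF (by omega) (fun h => h2 ⟨by omega, h.2⟩) i.symm).semi hB hl hr

end Cfsg.Agent.PQ.SS.RA
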