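import Cfsg.Agent.PQ.SS.Defs

/-!
# PQ, strong converse for the groups of Lie type: the boxes (helper81)

`NW p q S` : one of the two conditions `HZ1` fails.  `Dfn K` : one prime is the characteristic; `Crs K` : cross characteristic.
-/

set_option autoImplicit false

namespace Cfsg.Agent.PQ.SS

open Cfsg Cfsg.Agent.LV.Blk

/-- a member of the principal `p`-block of degree prime to `p` and divisible by `q`, or conversely -/
def NW (p q : ℕ) (S : Type) [Group S] : Prop :=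
  ∀ Mp Mq, IsPModular p Mp → IsPModular q Mq → ¬ (HZ1 p q Mp S ∧ HZ1 q p Mq S)

theorem NW.symm {p q : ℕ} {S : Type} [Group S] (h : NW p q S) : NW q p S :=
  fun Mq Mp hq hp h1 => h Mp Mq hp hq ⟨h1.2, h1.1⟩

theorem NW.of_left {p q : ℕ} {S : Type} [Group S] (h : ∀ M, IsPModular p M → ∃ ψ ∈ principalBlock M S,
    ¬ p ∣ charDegree (ψ : S → ℂ) ∧ q ∣ charDegree (ψ : S → ℂ)) : NW p q S := fun Mp _ hp _ h1 =>
  let ⟨ψ, h2, h3, h4⟩ := h Mp hp
  h1.1 ψ h2 h3 h4

theorem NW.of_wz {r l m : ℕ} {S : Type} [Group S] (h : SemiZ r l S) (hm : m.Prime) (hl : m ≠ l) (hr : m ≠ r)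
    (hw : WZ l m S) : NW l m S :=
  let ⟨x, h1, h2, h3⟩ := hw
  NW.of_left fun M hM =>
    let ⟨ψ, h4, h5, h6⟩ := h M hM x h1 h2
    ⟨ψ, h4, h5, h6 m hm hl hr h3⟩

/-- one of the primes is the characteristic -/
def Dfn (K : ℕ → (S : Type) → [Group S] → Prop) : Prop :=
  ∀ (r q : ℕ) (S : Type) [Group S] [Finite S], IsSimpleGroup S → ¬ IsMulCommutative S → r.Prime → q.Prime → q ≠ r →
    K r S → q ∣ Nat.card S → NW r q S

/-- cross characteristic -/
def Crs (K : ℕ → (S : Type) → [Group S] → Prop) : Prop :=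
  ∀ (r p q : ℕ) (S : Type) [Group S] [Finite S], IsSimpleGroup S → ¬ IsMulCommutative S → r.Prime → p.Prime → q.Prime →
    p < q → p ≠ r → q ≠ r → K r S → p ∣ Nat.card S → q ∣ Nat.card S → ¬ Com p q S → NW p q S

theorem cv87_fam {K : ℕ → (S : Type) → [Group S] → Prop} (h1 : Dfn K) (h2 : Crs K) {r : ℕ} (hr : r.Prime) (S : Type)
    [Group S] [Finite S] (hs : IsSimpleGroup S) (hn : ¬ IsMulCommutative S) (hK : K r S) : Cv87 S := by
  intro p q hp hq hpq Mp Mq hMp hMq h4 h5 h6 h7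
  by_contra h
  refine (?_ : NW p q S) Mp Mq hMp hMq ⟨h6, h7⟩
  by_cases e : p = r
  · subst e
    exact h1 p q S hs hn hp hq hpq.symm hK h5
  by_cases e' : q = r
  · subst e'
    exact (h1 q p S hs hn hq hp hpq hK h4).symm
  rcases hpq.lt_or_gt with h8 | h8
  · exact h2 r p q S hs hn hr hp hq h8 e e' hK h4 h5 h
  · exact (h2 r q p S hs hn hr hq hp h8 e' e hK h5 h4 fun h9 => h h9.symm).symm

/-- the assembly -/
theorem cv87_of (dA : Dfn ClA) (dB : Dfn ClB) (dX : Dfn Ex) (cA : Crs ClA) (cB : Crs ClB) (cX : Crs Ex) :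
    All LieAny Cv87 := by
  rintro S _ _ hs hn ⟨r, hr, h⟩
  rcases lie_cases h with h | h | h
  exacts [cv87_fam dA cA hr S hs hn h, cv87_fam dB cB hr S hs hn h, cv87_fam dX cX hr S hs hn h]

end Cfsg.Agent.PQ.SS
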