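import Cfsg.Agent.PQ.SS.Fm
import Cfsg.Agent.PQ.SS.Defs87
import Cfsg.Agent.KZ.Dat.SpD
import Cfsg.Agent.KZ.Dat.OmS
import Cfsg.Agent.KZ.DatX.Main
import Cfsg.Agent.KZ.Mts.Main

/-!
# PQ/SS, row B (helper35): SEMI for the symplectic and orthogonal groups

`rowB_of : BoxSemi → RowB`.
-/

set_option autoImplicit false
set_option linter.unusedSectionVars false

namespace Cfsg.Agent.PQ.SS.RB

open Cfsg Cfsg.Agent.DL Cfsg.Agent.DL.PP Cfsg.Agent.KZ.Lie Cfsg.Agent.KZ.Dat Cfsg.Agent.KZ.Dat.Om Cfsg.Agent.KZ.DatX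
  Cfsg.Agent.LV.Blk Matrix Cfsg.Agent.Tits.Roots Cfsg.Agent.Nodes Cfsg.Lie
  Cfsg.Agent.ChevalleyStructure.CoxeterGeomTypes

theorem not_dvd_sq {l : ℕ} (hl : l.Prime) (h2 : l ≠ 2) {H : Type} [Group H] [Finite H] (h : ∀ x : H, x ^ 2 = 1) :
    ¬ l ∣ Nat.card H := fun h3 => by
  have : Fact l.Prime := ⟨hl⟩
  obtain ⟨x, hx⟩ := exists_prime_orderOf_dvd_card' l h3
  exact h2 ((Nat.prime_dvd_prime_iff_eq hl Nat.prime_two).1 (hx ▸ orderOf_dvd_of_pow_eq_one (h x)))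

theorem not_dvd_two_pow {l : ℕ} (hl : l.Prime) (h2 : l ≠ 2) (j : ℕ) : ¬ (l : ℤ) ∣ 2 ^ j := fun h =>
  h2 ((Nat.prime_dvd_prime_iff_eq hl Nat.prime_two).1 (hl.dvd_of_dvd_pow (n := j) (by exact_mod_cast h)))

section

variable {p : ℕ} [Fact p.Prime] {k : Type} [Field k] [CharP k p] {Y : Type} [Group Y] {N : Type} [Fintype N]
  [DecidableEq N] {ρ : Y →* GL N k} {F : MulAut Y} {G : Subgroup Y} [IsAlgClosed k] {D : Datum p ρ F G}
  {Adm : Matrix D.R D.R ℤ → Prop} {S T : Type} [Group S] [Group T] {l : ℕ} (hl : l.Prime) (h2 : l ≠ 2)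

/-- transport of a situation -/
def tr (s : Sit D Adm S) (e : S ≃* T) : Sit D Adm T :=
  { s with
    π := e.toMonoidHom.comp s.π
    surj := e.surjective.comp s.surj
    ker := fun h => e.map_eq_one_iff.trans (s.ker h)
    aut := fun σ => by
      obtain ⟨g, hg, α, A, h1, h2, h3⟩ := s.aut (MulAut.congr e.symm σ)
      refine ⟨g, hg, α, A, h1, h2, fun h => ?_⟩
      obtain ⟨h', h4, h5⟩ := h3 h
      exact ⟨h', h4, (congrArg e h5).trans (e.apply_symm_apply _)⟩ }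

include hl h2

theorem semi (hB : BoxSemi) (hp : l ≠ p) (s : Sit D Adm S) (e : T ≃* S) {B : Matrix D.R D.R ℤ} (d : Dual D l B)
    (c : CZl D l) (g : Good D l) (h1 : ∀ g ∈ GF F G, g ^ 2 ∈ s.H0) (h3 : ∀ z, s.π z = 1 → z ^ 2 = 1) :
    Semi p l T ∧ SemiZ p l T := by
  have := Asm.finite_GF D
  have := Fintype.ofFinite ↥(GF F G)
  obtain ⟨f⟩ := nonempty_fr D
  have : Finite (tr s e.symm).H0 := Finite.of_injective _ (Subgroup.inclusion_injective s.le)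
  have h4 : ¬ l ∣ Nat.card (tr s e.symm).π.ker :=
    not_dvd_sq hl h2 fun z => Subtype.ext (h3 z.1 (e.symm.map_eq_one_iff.1 z.2))
  have h5 := hB f (tr s e.symm) hl hp d c g (ker_of_coprime (KZ.Mts.boxApi f s.qs) _ hl h4 B)
  refine ⟨h5.1, h5.2 h4 ?_⟩
  have := (tr s e.symm).normal
  refine not_dvd_sq hl h2 fun x => ?_
  obtain ⟨x, rfl⟩ := QuotientGroup.mk_surjective x
  rw [← QuotientGroup.mk_pow, QuotientGroup.eq_one_iff]
  exact h1 x x.2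

theorem dual_two (sym : D.Mxᵀ = D.Mx) (h : ∀ i, ∃ j : ℕ, (2 : ℤ) • D.cw i = (2 : ℤ) ^ j • D.wt (sr i)) :
    Dual D l ((2 : ℤ) • 1) where
  det := by
    rw [det_smul, det_one, mul_one]
    exact not_dvd_two_pow hl h2 _
  sim i :=
    let ⟨j, h⟩ := h i
    ⟨i, 2 ^ j, not_dvd_two_pow hl h2 j, by rw [vecMul_smul, vecMul_one, h], by rw [smul_mulVec, one_mulVec, h]⟩
  mx := by rw [mul_smul_comm, smul_mul_assoc, mul_one, one_mul, sym]

theorem czl_two (h : ∀ i, ∃ ϖ : D.R → ℤ, ∀ j, D.wt (sr j) ⬝ᵥ ϖ = if j = i then 2 else 0) : CZl D l := by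
  choose ϖ h using h
  refine ⟨2, ϖ, fun h3 => h2 ((Nat.prime_dvd_prime_iff_eq hl Nat.prime_two).1 h3), fun b i => ?_⟩
  conv_lhs => rw [D.eq_sum_sr b, map_sum, sum_dotProduct]
  simp only [map_zsmul, smul_dotProduct, h, smul_eq_mul, mul_ite, mul_zero, Finset.sum_ite_eq', Finset.mem_univ, if_true]
  rw [mul_comm]
  rfl

theorem good_two (h : ∀ a, D.Rt a → ∃ (i j : D.R) (u u' : ℤ), |u| ≤ 1 ∧ |u'| ≤ 1 ∧
    D.wt a = Pi.single i u + Pi.single j u') : Good D l := fun j v => by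
  have h0 : 0 < l ^ j := pow_pos hl.pos j
  refine ⟨1, fun i => (v i).bmod (l ^ j), hl.not_dvd_one, fun i => ?_, fun a ha h3 => ?_⟩
  · rw [Nat.cast_one, one_mul, ← Nat.cast_pow]
    exact Int.dvd_bmod_sub_self
  · obtain ⟨i, i', u, u', h4, h5, h6⟩ := h a ha
    rw [h6, add_dotProduct, single_dotProduct, single_dotProduct] at h3 ⊢
    obtain ⟨m, hm⟩ : Odd (l ^ j) := (hl.odd_of_ne_two h2).pow
    have h7 : ∀ x u : ℤ, |u| ≤ 1 → |u * x.bmod (l ^ j)| ≤ m := fun x u hu => by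
      have h8 := Int.le_bmod (x := x) h0
      have h9 := Int.bmod_le (x := x) h0
      rw [abs_mul]
      refine (mul_le_of_le_one_left (abs_nonneg _) hu).trans (abs_le.2 ⟨by omega, by omega⟩)
    refine Int.eq_zero_of_abs_lt_dvd h3 ((abs_add_le _ _).trans_lt ?_)
    have h8 := h7 (v i) u h4
    have h9 := h7 (v i') u' h5
    have h10 : (l : ℤ) ^ j = 2 * m + 1 := by exact_mod_cast hm
    omega

end

theorem wt_two {m : ℕ} (x y : Fin m × Bool) : ∃ (i j : Fin m) (u u' : ℤ), |u| ≤ 1 ∧ |u'| ≤ 1 ∧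
    TypeC.wt x + TypeC.wt y = Pi.single i u + Pi.single j u' :=
  ⟨x.1, y.1, _, _, by split_ifs <;> decide, by split_ifs <;> decide, rfl⟩

theorem wt_one {m : ℕ} (x : Fin m × Bool) : ∃ (i j : Fin m) (u u' : ℤ), |u| ≤ 1 ∧ |u'| ≤ 1 ∧
    TypeC.wt x = Pi.single i u + Pi.single j u' :=
  ⟨x.1, x.1, if x.2 then 1 else -1, 0, by split_ifs <;> decide, by decide, by rw [Pi.single_zero, add_zero]; rfl⟩

theorem cw_btB {m : ℕ} (i : Fin m) : ODD.C2.cwC i = btB i := by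
  funext j
  have h1 := ODD.C2.dot_cwC i (Pi.single j 1)
  rw [← dot_btB, single_dotProduct, single_dotProduct, one_mul, one_mul] at h1
  exact h1

theorem bt_btB {m : ℕ} (i : Fin m) : TypeC.bt i = btB i ∨ TypeC.bt i = (2 : ℤ) • btB i := by
  by_cases h : (i : ℕ) + 1 < m
  · exact .inl (btB_lt h).symm
  · exact .inr (by rw [(btB_last h).1, (btB_last h).2, two_smul])

theorem czB {m : ℕ} (c : ℤ) (i j : Fin m) :
    btB j ⬝ᵥ (fun a : Fin m => if (a : ℕ) ≤ i then c else 0) = if j = i then c else 0 := by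
  have := i.2
  have := j.2
  rw [dotProduct_comm, dot_btB, TypeC.Cf]
  simp only [Fin.ext_iff]
  split_ifs <;> first | rfl | omega | simp

theorem czC {m : ℕ} (i j : Fin m) :
    TypeC.bt j ⬝ᵥ (fun a : Fin m => if (a : ℕ) ≤ i then (if (i : ℕ) + 1 < m then 2 else 1 : ℤ) else 0) =
      if j = i then 2 else 0 := by
  by_cases h : (j : ℕ) + 1 < m
  · rw [← btB_lt h, czB]
    split_ifs with h1 h3
    · rfl
    · exact absurd (h1 ▸ h) h3
    · rfl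
  · rw [(btB_last h).2, ← (btB_last h).1, add_dotProduct, czB]
    split_ifs with h1 h3
    · exact absurd (h1 ▸ h3) h
    · rfl
    · rfl

theorem czD {n : ℕ} (i j : Fin (n + 2)) :
    TypeD.bt j ⬝ᵥ (fun a : Fin (n + 2) => if (i : ℕ) < n then (if (a : ℕ) ≤ i then (2 : ℤ) else 0)
      else if (i : ℕ) = n ∧ (a : ℕ) = n + 1 then -1 else 1) = if j = i then 2 else 0 := by
  have := i.2
  have := j.2
  rw [dotProduct_comm, ODD.C2.dot_btD, TypeD.Cf]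
  simp only [Fin.ext_iff, TypeD.pd]
  split_ifs <;> first | rfl | omega

theorem sym_smul {m : ℕ} {B : Matrix (Fin m) (Fin m) ℤ} (h : Bᵀ = B) (c : ℤ) : (c • B)ᵀ = c • B := by
  rw [transpose_smul, h]

theorem smC {m : ℕ} (i : Fin m) : ∃ j : ℕ, (2 : ℤ) • ODD.C2.cwC i = (2 : ℤ) ^ j • TypeC.ee (sr i) := by
  rw [TypeC.ee_sr, cw_btB]
  rcases bt_btB i with h | h
  · exact ⟨1, by rw [h, pow_one]⟩
  · exact ⟨0, by rw [h, pow_zero, one_smul]⟩

theorem smB {m : ℕ} (i : Fin m) : ∃ j : ℕ, (2 : ℤ) • TypeC.bt i = (2 : ℤ) ^ j • eeB (sr i) := by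
  rw [eeB_sr]
  rcases bt_btB i with h | h
  · exact ⟨1, by rw [h, pow_one]⟩
  · exact ⟨2, by rw [h, smul_smul, pow_two]⟩

section Cl

variable {p : ℕ} [Fact p.Prime] {k : Type} [Field k] [CharP k p] [IsAlgClosed k]
  (hk : ∀ a : k, ∃ j, 0 < j ∧ a ^ p ^ j = a) {e : ℕ} (he : 0 < e) {l : ℕ} (hl : l.Prime) (h2 : l ≠ 2)
  {S T : Type} [Group S] [Group T] (hB : BoxSemi) (hp : l ≠ p) (i : T ≃* S)
include hl h2 hB hp i

theorem semiC {n : ℕ} {Adm : _ → Prop} (s : Sit (datC n hk he) Adm S) (h1 : ∀ g ∈ GF (FC n k p e) (GC n k), g ^ 2 ∈ s.H0)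
    (h3 : ∀ z, s.π z = 1 → z ^ 2 = 1) : Semi p l T ∧ SemiZ p l T := by
  refine semi hl h2 hB hp s i (dual_two hl h2 ?_ fun i => ?_) (czl_two hl h2 fun i => ?_)
    (good_two hl h2 fun a ha => ?_) h1 h3
  · exact sym_smul transpose_one _
  · exact smC i
  · exact ⟨_, fun j => (congrArg (· ⬝ᵥ _) (TypeC.ee_sr j)).trans (czC i j)⟩
  · obtain ⟨x, y, -, h⟩ := (rtC_iff hk he).1 ha
    rw [h]
    exact wt_two x y

theorem semiB {n : ℕ} (h0 : (2 : k) ≠ 0) {Adm : _ → Prop} (s : Sit (datB n h0 hk he) Adm S)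
    (h1 : ∀ g ∈ GF ((osB n).sy_id.F k p e) ((osB n).G k), g ^ 2 ∈ s.H0)
    (h3 : ∀ z, s.π z = 1 → z ^ 2 = 1) : Semi p l T ∧ SemiZ p l T := by
  refine semi hl h2 hB hp s i (dual_two hl h2 ?_ fun i => ?_) (czl_two hl h2 fun i => ?_)
    (good_two hl h2 fun a ha => ?_) h1 h3
  · exact sym_smul transpose_one _
  · exact (smB i).imp fun j h => (congrArg ((2 : ℤ) • ·) (datB_cw h0 hk he i)).trans h
  · exact ⟨_, fun j => (congrArg (· ⬝ᵥ _) (eeB_sr j)).trans (czB 2 i j)⟩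
  · rcases (rtB_iff h0 hk he).1 ha with ⟨x, y, -, h⟩ | ⟨x, h⟩
    · rw [h]
      exact wt_two x y
    · rw [h]
      exact wt_one x

theorem semiD {n : ℕ} {s : Fin (n + 2) × Bool → Fin (n + 2) × Bool} {γ : (Fin (n + 2) → ℤ) → Fin (n + 2) → ℤ}
    {B : Matrix (Fin (n + 2)) (Fin (n + 2)) ℤ} (Sy : (osD n).Sy s γ B) (hs : Bᵀ = B) {Adm : _ → Prop}
    (t : Sit (datD Sy hk he) Adm S) (h1 : ∀ g ∈ GF (Sy.F k p e) ((osD n).G k), g ^ 2 ∈ t.H0)
    (h3 : ∀ z, t.π z = 1 → z ^ 2 = 1) : Semi p l T ∧ SemiZ p l T := by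
  refine semi hl h2 hB hp t i (dual_two hl h2 ?_ fun i => ?_) (czl_two hl h2 fun i => ?_)
    (good_two hl h2 fun a ha => ?_) h1 h3
  · exact sym_smul hs _
  · exact ⟨1, congrArg₂ (· • ·) (pow_one (2 : ℤ)).symm ((datD_cw Sy hk he i).trans (TypeD.ee_sr i).symm)⟩
  · exact ⟨_, fun j => (congrArg (· ⬝ᵥ _) (TypeD.ee_sr j)).trans (czD i j)⟩
  · obtain ⟨x, y, -, h⟩ := (rtD_iff Sy hk he).1 ha
    rw [h]
    exact wt_two x y

omit hk he i in
theorem semiX {C : ChevalleyDatum} {m : ℕ} {M : CoxeterMatrix (Fin m)} {hC : RGDChev.IsType C m M} {c : ℤ} {Adm : _ → Prop} {d : ℕ}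
    (h : Has hC p (c • 1) Adm d S) (hd : d ∣ 2) (B : Matrix (Fin m) (Fin m) ℤ) {j : ℕ} (h1 : B.det = 2 ^ j)
    (h3 : ∀ i, ∃ j < 2, cartanOf C m i ᵥ* B = (2 : ℤ) ^ j • Pi.single i 1 ∧ B *ᵥ cartanOf C m i = (2 : ℤ) ^ j • Pi.single i 1)
    {t : ℕ} (ht : t < C.nroots) (h4 : ∀ r < C.nroots, ∀ i, RGDChev.vec C m r i ≤ RGDChev.vec C m t i)
    (h5 : ∀ i, ∃ j < 2, RGDChev.vec C m t i = 2 ^ j) : Semi p l S ∧ SemiZ p l S := by
  obtain ⟨k, _, _, _, X, ⟨s⟩⟩ := h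
  have hc : CZl X.D l := ⟨1, fun i : Fin m => Pi.single i 1, hl.not_dvd_one, fun (b : Fin m → ℤ) (i : Fin m) =>
    (dotProduct_single b 1 i).trans (mul_comm _ _)⟩
  refine semi hl h2 hB hp s.sit (MulEquiv.refl S) (B := B) ⟨h1 ▸ not_dvd_two_pow hl h2 j, fun i => ?_, ?_⟩ hc
    (boxHi X.D hl hc ⟨_, (X.rt_iff _).2 ⟨t, ht, rfl⟩, fun a ha => ?_, fun i => ?_⟩) (fun g hg => ?_) fun z hz => ?_
  · obtain ⟨j, -, h6, h7⟩ := h3 i
    exact ⟨i, 2 ^ j, not_dvd_two_pow hl h2 j, h6, h7⟩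
  · show (c • (1 : Matrix (Fin m) (Fin m) ℤ))ᵀ * B = B * c • 1
    rw [transpose_smul, transpose_one, smul_mul_assoc, mul_smul_comm, one_mul, mul_one]
  · obtain ⟨r, hr, rfl⟩ := (X.rt_iff a).1 ha
    exact h4 r hr
  · obtain ⟨j, -, h6⟩ := h5 i
    exact h6 ▸ not_dvd_two_pow hl h2 j
  · obtain ⟨u, hu⟩ := hd
    rw [hu, pow_mul]
    exact pow_mem (s.pow_mem hg) u
  · rw [s.sit_π_inj (hz.trans (map_one _).symm), one_pow]

end Cl

/-- **ROW B** -/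
theorem _root_.Cfsg.Agent.PQ.SS.rowB_of (hB : BoxSemi) : RowB := by
  intro r l S _ hr hl hp h h2
  have : Fact r.Prime := ⟨hr⟩
  rcases h with h | h | h | h
  · obtain ⟨F, _, _, _, n, h1, -, ⟨i⟩⟩ := h
    obtain ⟨k, _, _, _, hk, e, he, f, hF⟩ := hasC r F
    by_cases h3 : n = 2 ∧ r = 2
    · obtain ⟨rfl, rfl⟩ := h3
      exact semiX hl h2 hB hp ((has_PSp4 hF).congr i) (one_dvd _) !![2, 1; 1, 1] (j := 0) (by decide +kernel)
        (by decide +kernel) (t := 7) (by decide) (by decide +kernel) (by decide +kernel)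
    · have h4 := S2693.result (F := F) h1 fun a b => h3 ⟨a, b⟩
      exact semiC hk he hl h2 hB hp i (sitC_of f hk he hF h4)
        (fun g hg => (sitC_H0 f hk he hF h4).ge (pow_mem hg 2)) (sitC_ker f hk he hF h4)
  · obtain ⟨F, _, _, _, n, h1, h3, ⟨i⟩⟩ := h
    obtain ⟨k, _, _, _, hk, e, he, f, hF⟩ := hasC r F
    obtain ⟨t, h4, h5⟩ := sitB f hF hk he (two_ne hF h3 he) h3 h1
    exact semiB hk he hl h2 hB hp i _ t h4 h5
  · obtain ⟨F, _, _, _, n, h1, ⟨i⟩⟩ := h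
    obtain ⟨k, _, _, _, hk, e, he, f, hF⟩ := hasC r F
    rcases h1.eq_or_lt with rfl | h1
    · exact semiX hl h2 hB hp ((has_plus8 hF).congr i) (Nat.gcd_dvd_left _ _)
        !![2, 2, 1, 1; 2, 4, 2, 2; 1, 2, 2, 1; 1, 2, 1, 2] (j := 2) (by decide +kernel)
        (by decide +kernel) (t := 23) (by decide) (by decide +kernel) (by decide +kernel)
    · obtain ⟨n, rfl⟩ : ∃ m, n = m + 2 := ⟨n - 2, by omega⟩
      obtain ⟨t, h4, h5⟩ := sitP f hF hk he (n := n) (by omega)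
      exact semiD hk he hl h2 hB hp i _ transpose_one t h4 h5
  · obtain ⟨F, _, _, _, n, a, b, h1, h3, ⟨i⟩⟩ := h
    obtain ⟨k, _, _, _, hk, e, he, f, hF⟩ := hasC r F
    obtain ⟨n, rfl⟩ : ∃ m, n = m + 2 := ⟨n - 2, by omega⟩
    obtain ⟨t, h4, h5⟩ := sitM f hF hk he (n := n) (by omega) h3
    exact semiD hk he hl h2 hB hp i _ (diagonal_transpose _) t h4 h5

end Cfsg.Agent.PQ.SS.RB
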