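import Cfsg.Agent.PQ.SS.BadA

/-!
# PQ, bad primes: the families (helper59)

`allD_G2`, `allD_F4`, `allD_E6`, `allD_twE6`, `allD_E8`, `allD_2F4` : the centraliser of a Sylow `3`-subgroup is a `3`-group;
`allD_E8_five` : the same for `5` in `E₈`; `someD_E7`.
-/

set_option autoImplicit false
set_option linter.unusedSectionVars false
set_option linter.unusedVariables false

namespace Cfsg.Agent.PQ.SS.Bad

open CoxeterSystem Cfsg Cfsg.Lie Cfsg.Lie.ChevalleyDatum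
open Cfsg.Agent.ChevalleyStructure Cfsg.Agent.ChevalleyStructure.Elts Cfsg.Agent.ChevalleyStructure.CoxeterGeom
  Cfsg.Agent.ChevalleyStructure.CoxeterGeomTypes Cfsg.Agent.ChevalleyStructure.NPerm
open Cfsg.Agent.Tits.Roots Cfsg.Agent.Tits.Core Cfsg.Agent.Nodes Cfsg.Agent.Nodes.Reps Cfsg.Agent.Nodes.BNOf
  Cfsg.Agent.Nodes.RGDChev
open Cfsg.Agent.KFacts.RgdField Cfsg.Agent.KFacts.RgdChevCoord Cfsg.Agent.BpExc.TorCent Cfsg.Agent.BpExc.TorChev
open Cfsg.Agent.GpExc.Field Cfsg.Agent.BpExc.Tow Cfsg.Agent.BpExc.TowChev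
  Cfsg.Agent.BpExc.LangFr Cfsg.Agent.BpExc Cfsg.Agent.H129.TorusChar
open Cfsg.Agent.H630.NH Cfsg.Agent.H630.Exc Cfsg.Agent.H130.WeylCk Cfsg.Agent.H130.PolyL Cfsg.Agent.H130.WeylTab

universe u v

theorem ord_three {Q : ℤ} (h : ¬ ((3 : ℕ) : ℤ) ∣ Q) : orderOf (Q : ZMod 3) = 1 ∨ orderOf (Q : ZMod 3) = 2 :=
  (Nat.dvd_prime Nat.prime_two).1 (ord_dvd Nat.prime_three h)

theorem ord_five {Q : ℤ} (h : ¬ ((5 : ℕ) : ℤ) ∣ Q) :
    (orderOf (Q : ZMod 5) = 1 ∨ orderOf (Q : ZMod 5) = 2) ∨ orderOf (Q : ZMod 5) = 4 := by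
  have h1 : orderOf (Q : ZMod 5) ∣ 4 := ord_dvd Nat.prime_five h
  have h2 : ∀ n < 5, n ∣ 4 → (n = 1 ∨ n = 2) ∨ n = 4 := by decide
  exact h2 _ (Nat.lt_succ_of_le (Nat.le_of_dvd (by norm_num) h1)) h1

theorem not_dvd_one {r : ℕ} (hr : r.Prime) : ¬ r ∣ 1 := fun h => hr.one_lt.ne' (Nat.dvd_one.1 h)

section Untw

variable (r : ℕ) [Fact r.Prime] (F : Type u) [Field F] [Fintype F] [CharP F r] {s : ℕ} (hs : s.Prime)

include hs

theorem allD_G2 (h3 : 3 ≠ r) (hs3 : 3 ≠ s) : AllD 3 s ↥(chevG2.group F) := by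
  obtain ⟨k, _, _, f, p, hpp, hkp, e, hk, hka, he0, hcF⟩ := H378.TorFin.exists_closure F
  have hkr : CharP k r := charP_of_injective_ringHom f.injective r
  obtain rfl : r = p := CharP.eq k hkr hkp
  have cs := CoxeterMatrix.G₂.toCoxeterSystem
  have hW := finite_W g2T cs
  have hcF' : Fintype.card F = r ^ e := by rw [← Nat.card_eq_fintype_card, hcF]
  have hX : Finite ↥(chevG2.group F) := inferInstance
  have S := setup_untw g2T cs hk f he0 hcF' invC_G2 one_ne_zero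
  have h1 : (1 : ℤ) = 1 ∨ (1 : ℤ) = -1 := Or.inl rfl
  have hQ : ((r ^ e : ℕ) : ℤ) = 1 * (r ^ e : ℕ) := (one_mul _).symm
  rw [Nat.gcd_one_left] at S
  exact allD_sum12 g2T cs S (hasTor_G2 cs) Nat.prime_three hs hs3 h3 (not_dvd_one Nat.prime_three) (by norm_num) h1 hQ
    (ord_three (not_dvd_Q Fact.out Nat.prime_three h3 h1 hQ)) lists_G2 (j := 1) sum_G2_three

theorem allD_F4 (h3 : 3 ≠ r) (hs3 : 3 ≠ s) : AllD 3 s ↥(chevF4.group F) := by
  obtain ⟨k, _, _, f, p, hpp, hkp, e, hk, hka, he0, hcF⟩ := H378.TorFin.exists_closure F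
  have hkr : CharP k r := charP_of_injective_ringHom f.injective r
  obtain rfl : r = p := CharP.eq k hkr hkp
  have cs := CoxeterMatrix.F₄.toCoxeterSystem
  have hW := finite_W f4T cs
  have hcF' : Fintype.card F = r ^ e := by rw [← Nat.card_eq_fintype_card, hcF]
  have hX : Finite ↥(chevF4.group F) := inferInstance
  have S := setup_untw f4T cs hk f he0 hcF' invC_F4 one_ne_zero
  have h1 : (1 : ℤ) = 1 ∨ (1 : ℤ) = -1 := Or.inl rfl
  have hQ : ((r ^ e : ℕ) : ℤ) = 1 * (r ^ e : ℕ) := (one_mul _).symm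
  rw [Nat.gcd_one_left] at S
  exact allD_sum12 f4T cs S (hasTor_F4 cs) Nat.prime_three hs hs3 h3 (not_dvd_one Nat.prime_three) (by norm_num) h1 hQ
    (ord_three (not_dvd_Q Fact.out Nat.prime_three h3 h1 hQ)) lists_F4 (j := 1) sum_F4_three

theorem allD_E8 (h3 : 3 ≠ r) (hs3 : 3 ≠ s) : AllD 3 s ↥(chevE8.group F) := by
  obtain ⟨k, _, _, f, p, hpp, hkp, e, hk, hka, he0, hcF⟩ := H378.TorFin.exists_closure F
  have hkr : CharP k r := charP_of_injective_ringHom f.injective r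
  obtain rfl : r = p := CharP.eq k hkr hkp
  have cs := CoxeterMatrix.E₈.toCoxeterSystem
  have hW := finite_W e8T cs
  have hcF' : Fintype.card F = r ^ e := by rw [← Nat.card_eq_fintype_card, hcF]
  have hX : Finite ↥(chevE8.group F) := inferInstance
  have S := setup_untw e8T cs hk f he0 hcF' invC_E8 one_ne_zero
  have h1 : (1 : ℤ) = 1 ∨ (1 : ℤ) = -1 := Or.inl rfl
  have hQ : ((r ^ e : ℕ) : ℤ) = 1 * (r ^ e : ℕ) := (one_mul _).symm
  rw [Nat.gcd_one_left] at S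
  exact allD_sum12 e8T cs S (hasTor_E8 cs) Nat.prime_three hs hs3 h3 (not_dvd_one Nat.prime_three) (by norm_num) h1 hQ
    (ord_three (not_dvd_Q Fact.out Nat.prime_three h3 h1 hQ)) lists_E8 (j := 1) sum_E8_three

theorem allD_E8_five (h5 : 5 ≠ r) (hs5 : 5 ≠ s) : AllD 5 s ↥(chevE8.group F) := by
  obtain ⟨k, _, _, f, p, hpp, hkp, e, hk, hka, he0, hcF⟩ := H378.TorFin.exists_closure F
  have hkr : CharP k r := charP_of_injective_ringHom f.injective r
  obtain rfl : r = p := CharP.eq k hkr hkp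
  have cs := CoxeterMatrix.E₈.toCoxeterSystem
  have hW := finite_W e8T cs
  have hcF' : Fintype.card F = r ^ e := by rw [← Nat.card_eq_fintype_card, hcF]
  have hX : Finite ↥(chevE8.group F) := inferInstance
  have S := setup_untw e8T cs hk f he0 hcF' invC_E8 one_ne_zero
  have h1 : (1 : ℤ) = 1 ∨ (1 : ℤ) = -1 := Or.inl rfl
  have hQ : ((r ^ e : ℕ) : ℤ) = 1 * (r ^ e : ℕ) := (one_mul _).symm
  rw [Nat.gcd_one_left] at S
  have hQr := not_dvd_Q (p := r) (e := e) Fact.out Nat.prime_five h5 h1 hQ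
  rcases ord_five hQr with hn | hn
  · exact allD_sum12 e8T cs S (hasTor_E8 cs) Nat.prime_five hs hs5 h5 (not_dvd_one Nat.prime_five) (by norm_num) h1 hQ
      hn lists_E8 (j := 1) sum_E8_five
  · have hreg := regAt_of_ck' e8T cs lists_E8 reg_E8_4 (by decide) (by decide) (by decide +kernel) Nat.prime_five
      (by norm_num) hQr hn
    have hw := rep_pow_eq_one e8T cs lists_E8 _ 5 4 reg_E8_4.2.2.1
    exact allD_sum_ck e8T cs S Nat.prime_five hs hs5 h5 (not_dvd_one Nat.prime_five) (by norm_num) h1 hQ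
      (hasTor_E8 cs 1 h1 _) (by norm_num) hw ((dvd_pow_sub_one_iff 4).2 (by rw [hn])) hreg lists_E8 (j := 1)
      sum_E8_five4

theorem someD_E7 (h3 : 3 ≠ r) (hsr : s ≠ r) (hs3 : 3 < s) (hd : s ∣ Nat.card ↥(chevE7.group F)) :
    SomeD 3 s ↥(chevE7.group F) := by
  obtain ⟨k, _, _, f, p, hpp, hkp, e, hk, hka, he0, hcF⟩ := H378.TorFin.exists_closure F
  have hkr : CharP k r := charP_of_injective_ringHom f.injective r
  obtain rfl : r = p := CharP.eq k hkr hkp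
  have cs := CoxeterMatrix.E₇.toCoxeterSystem
  have hW := finite_W e7T cs
  have hcF' : Fintype.card F = r ^ e := by rw [← Nat.card_eq_fintype_card, hcF]
  have hX : Finite ↥(chevE7.group F) := inferInstance
  have S := setup_untw e7T cs hk f he0 hcF' invC_E7 two_ne_zero
  have h1 : (1 : ℤ) = 1 ∨ (1 : ℤ) = -1 := Or.inl rfl
  have hQ : ((r ^ e : ℕ) : ℤ) = 1 * (r ^ e : ℕ) := (one_mul _).symm
  have hd2 : ∀ t : ℕ, 2 < t → ¬ t ∣ Nat.gcd 2 (Nat.card F - 1) := fun t ht h =>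
    absurd (Nat.le_of_dvd two_pos (h.trans (Nat.gcd_dvd_left _ _))) (by omega)
  obtain ⟨ε, Q, hε, hQ', h3Q, -⟩ := exists_eps h1 hQ Nat.prime_three rfl
    (ord_three (not_dvd_Q Fact.out Nat.prime_three h3 h1 hQ))
  by_cases hsQ : (s : ℤ) ∣ Q - 1
  · exact someD_count_ck e7T cs S Nat.prime_three hs hs3.ne h3 hsr (hd2 3 (by norm_num)) (hd2 s (by omega))
      (by norm_num) (by omega) hε hQ' (hasTor_E7 cs ε hε _) h3Q hsQ lists_E7 (j := 1) count_E7_three hs3.le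
  · exact (allD_reg e7T cs S Nat.prime_three hs hs3.ne h3 (hd2 3 (by norm_num)) (by norm_num) hε hQ'
      (hasTor_E7 cs ε hε _) h3Q hsQ).someD hs hd

end Untw

/-! ### `E₆`, `²E₆` -/

theorem allD_E6_gen {W : Type*} [Group W] (cs : CoxeterSystem CoxeterMatrix.E₆ W) {k : Type u} [Field k] {p e : ℕ}
    [hpF : Fact p.Prime] [CharP k p] {σ : MulAut ↥(chevE6.group k)} {g : (Fin 6 → ℤ) ≃+ (Fin 6 → ℤ)} {X : Type v}
    [Group X] {e0 : X →* ↥(chevE6.group k)} {d : ℕ} (S : Setup e6T cs p e σ g e0 d) [IsAlgClosed k] [Finite W] [Finite X]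
    (hcm : CommIn σ e0) {ε Q : ℤ} (hε : ε = 1 ∨ ε = -1) (hQ : Q = ε * (p ^ e : ℕ)) (hT : ∀ w1, HasTor e6T cs g ε w1)
    (h3d : 3 ∣ d → (3 : ℤ) ∣ Q - 1) {s : ℕ} (hs : s.Prime) (h3 : 3 ≠ p) (hs3 : 3 ≠ s) : AllD 3 s X := by
  have hr := Nat.prime_three
  by_cases h : (3 : ℤ) ∣ Q - 1
  · have h1 : cs.wordProd ([4, 0, 5, 1, 4, 0, 2] ++ [3, 0, 1, 3, 2, 4, 0, 3] ++
        ([4, 0, 5, 1, 4, 0, 2] : List (Fin 6)).reverse ++ ([3, 0, 1, 3, 2, 4, 0, 3] : List (Fin 6)).reverse) =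
        cs.wordProd [4, 0, 5, 1, 4, 0, 2] * cs.wordProd [3, 0, 1, 3, 2, 4, 0, 3] * (cs.wordProd [4, 0, 5, 1, 4, 0, 2])⁻¹ *
          (cs.wordProd [3, 0, 1, 3, 2, 4, 0, 3])⁻¹ := by
      rw [wordProd_append, wordProd_append, wordProd_append, wordProd_reverse, wordProd_reverse]
    have h2 := rep_pow_eq_one e6T cs lists_E6 _ 1 3 sum_E6_comm.2.2.1
    have h4 := sum_of_ck e6T cs lists_E6 sum_E6_comm
    rw [pow_one, h1] at h2
    simp only [pow_one] at h4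
    rw [h1] at h4
    refine allD_comm e6T cs S hcm hr hs hs3 h3 (by norm_num) hε hQ (hT 1) h
      (a := cs.wordProd [4, 0, 5, 1, 4, 0, 2]) (b := cs.wordProd [3, 0, 1, 3, 2, 4, 0, 3]) (j := 1) ?_ ?_
    · apply rep_injective cs e6T.isCartan
      rw [map_pow, pow_one, h2, map_one]
    · exact h4
  · have hQr := not_dvd_Q (p := p) (e := e) Fact.out hr h3 hε hQ
    have hn : orderOf (Q : ZMod 3) = 2 := (ord_three hQr).resolve_left fun h1 => h (by
      have := (dvd_pow_sub_one_iff (r := 3) (Q := Q) 1).2 (by rw [h1])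
      rwa [pow_one] at this)
    have hreg := regAt_of_ck' e6T cs lists_E6 reg_E6_2 (by decide) (by decide) (by decide +kernel) hr (by norm_num) hQr hn
    have hw := rep_pow_eq_one e6T cs lists_E6 _ 6 2 reg_E6_2.2.2.1
    exact allD_sum_ck e6T cs S hr hs hs3 h3 (fun h1 => h (h3d h1)) (by norm_num) hε hQ (hT _)
      (by norm_num) hw ((dvd_pow_sub_one_iff 2).2 (by rw [hn])) hreg lists_E6 (j := 1) sum_E6_three

theorem allD_E6 (r : ℕ) [Fact r.Prime] (F : Type u) [Field F] [Fintype F] [CharP F r] {s : ℕ} (hs : s.Prime)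
    (h3 : 3 ≠ r) (hs3 : 3 ≠ s) : AllD 3 s ↥(chevE6.group F) := by
  obtain ⟨k, _, _, f, p, hpp, hkp, e, hk, hka, he0, hcF⟩ := H378.TorFin.exists_closure F
  have hkr : CharP k r := charP_of_injective_ringHom f.injective r
  obtain rfl : r = p := CharP.eq k hkr hkp
  have cs := CoxeterMatrix.E₆.toCoxeterSystem
  have hW := finite_W e6T cs
  have hcF' : Fintype.card F = r ^ e := by rw [← Nat.card_eq_fintype_card, hcF]
  have hX : Finite ↥(chevE6.group F) := inferInstance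
  have S := setup_untw e6T cs hk f he0 hcF' invC_E6 three_ne_zero
  have h1 : (1 : ℤ) = 1 ∨ (1 : ℤ) = -1 := Or.inl rfl
  have hQ : ((r ^ e : ℕ) : ℤ) = 1 * (r ^ e : ℕ) := (one_mul _).symm
  have hpos : 0 < r ^ e := pow_pos hpp.out.pos _
  refine allD_E6_gen cs S ?_ h1 hQ (hasTor_one e6T cs) ?_ hs h3 hs3
  · refine commIn_of (TT chevE6 k) (TT_comm e6T) S.fix (fun y hy => ?_) (fun y hy a ha => ?_)
    · obtain ⟨x, t, ht, e1⟩ := H129.TorusUntw.fix_split e6T f hcF' hy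
      exact ⟨x, t, ht, e1⟩
    · exact H378.TorFin.conj_range e6T f r hcF (by rw [phi_eq_phi, hy]) ha
  · rw [hcF]
    have e1 : ((r ^ e : ℕ) : ℤ) - 1 = ((r ^ e - 1 : ℕ) : ℤ) := by
      rw [Nat.cast_sub hpos]; rfl
    rw [e1]
    intro h
    exact_mod_cast h.trans (Nat.gcd_dvd_right _ _)

open Cfsg.Agent.H129.TwE6Fr (tau_split tau_normal) in
theorem allD_twE6 (r : ℕ) [Fact r.Prime] (F : Type u) [Field F] [Fintype F] [CharP F r] {q : ℕ}
    (hq : IsPrimePow q) (hF : Fintype.card F = q ^ 2) {s : ℕ} (hs : s.Prime) (h3 : 3 ≠ r) (hs3 : 3 ≠ s) :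
    AllD 3 s ↥(twistedE6 F q) := by
  obtain ⟨k, _, _, f, p, hpp, hkp, e', hk, hka, he0', hcF⟩ := H378.TorFin.exists_closure F
  have hkr : CharP k r := charP_of_injective_ringHom f.injective r
  obtain rfl : r = p := CharP.eq k hkr hkp
  obtain ⟨e, he0, hqe⟩ : ∃ e, 0 < e ∧ q = r ^ e := by
    obtain ⟨r', e, hr', he, rfl⟩ := hq
    have h1 : r' ∣ r ^ e' := by
      rw [← hcF, Nat.card_eq_fintype_card, hF]
      exact (dvd_pow_self r' he.ne').trans (dvd_pow_self _ two_ne_zero)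
    have h2 : r' = r := (Nat.prime_dvd_prime_iff_eq hr'.nat_prime hpp.out).1 (hr'.nat_prime.dvd_of_dvd_pow h1)
    exact ⟨e, he, by rw [h2]⟩
  have cs := CoxeterMatrix.E₆.toCoxeterSystem
  have hW := finite_W e6T cs
  have hX : Finite ↥(twistedE6 F q) := inferInstance
  have S := setup_twE6 cs hk f he0 hqe hq hF
  have h1 : (-1 : ℤ) = 1 ∨ (-1 : ℤ) = -1 := Or.inr rfl
  have hQ : (-(q : ℤ)) = -1 * (r ^ e : ℕ) := by rw [hqe]; ring
  refine allD_E6_gen cs S ?_ h1 hQ (hasTor_tw cs) ?_ hs h3 hs3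
  · refine commIn_of (TT chevE6 k) (TT_comm e6T) S.fix (fun y hy => ?_) (fun y hy a ha => ?_)
    · obtain ⟨x, t, ht, -, e1⟩ := tau_split f hqe hq hF hy
      exact ⟨x, t, ht, e1⟩
    · exact tau_normal f hqe hq hF hy ha
  · have e1 : (-(q : ℤ)) - 1 = -((q + 1 : ℕ) : ℤ) := by push_cast; ring
    rw [e1, dvd_neg]
    intro h
    exact_mod_cast h.trans (Nat.gcd_dvd_right _ _)

/-! ### `²F₄` -/

section TwF

open Cfsg.Agent.H129.TorusUntw Cfsg.Agent.H493.F4End Cfsg.Agent.H493.F4Tor Cfsg.Agent.H129.WData Cfsg.Agent.H759.TwF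

section

variable {K : Type u} [Field K] [Fintype K] [CharP K 2] {m : ℕ} (hK : Fintype.card K = 2 ^ (2 * m + 1))
  {k : Type u} [Field k] [IsAlgClosed k] [CharP k 2] (f : K →+* k) (hk : LocFin k) {W : Type*} [Group W] [Finite W]
  (cs : CoxeterSystem CoxeterMatrix.F₄ W) {hN : NSys CoxeterMatrix.F₄ (TT chevF4 k) (nc hp k)} {w : W}
  {n z : ↥(chevF4.group k)} (hn : Rp cs hN w n) (hz : n = z⁻¹ * ste k m z)

include hK hz hk hn f

theorem allD_TB {r s' : ℕ} (hrp : r.Prime) (hsp : s'.Prime) (hrs : r ≠ s')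
    (hroot : ∀ a, IsRoot cs hp.isCartan a → ∃ t ∈ TT chevF4 k, t ^ r = 1 ∧ H759.TwF.InT cs m w t ∧ cX hp t a ≠ 1)
    {Y : (Fin 4 → ℤ) →+ (Fin 4 → ℤ)} {N : ℕ} (hN0 : 0 < N)
    (hY : ∀ x, Y (rep cs hp.isCartan w x - Tt (2 ^ m) x) = N • x) {s s1 : W}
    (h1 : ∀ x, rep cs hp.isCartan s (Tt (2 ^ m) x) = Tt (2 ^ m) (rep cs hp.isCartan s1 x))
    (h2 : s * w = w * s1) {j : ℕ} (hsr : s ^ r ^ j = 1)
    (hfree : ∀ t ∈ TT chevF4 k, t ^ s' = 1 → (∀ x, cX hp t (rep cs hp.isCartan s x) = cX hp t x) → t = 1) :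
    AllD r s' ↥(twistedF4 K (2 ^ m)) := by
  have : Fact r.Prime := ⟨hrp⟩
  have : Fact s'.Prime := ⟨hsp⟩
  have : Fact (Nat.Prime 2) := ⟨Nat.prime_two⟩
  obtain ⟨x, hx, hxs⟩ := exists_rep hK f hk cs hn hz hN0 hY h1 h2 hrp hsr
  refine allD_of r _ (isPGroup_E hp cs (eF_injective (m := m) f) hx hxs) ?_
  intro y hy hyc
  have hyT := mem_torus hK f hk cs hn hz hrp hsp hrs hroot hy
    (fun a ha => hyc a (Subgroup.mem_sup_right ha))
  have h1 : z⁻¹ * eF m f y * z = 1 := by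
    refine hfree _ hyT ?_ ?_
    · have h1 : (z⁻¹ * eF m f y * z) ^ s' = z⁻¹ * eF m f y ^ s' * z := by
        have h2 := conj_pow (i := s') (a := z⁻¹) (b := eF m f y)
        rwa [inv_inv] at h2
      rw [h1, ← map_pow, ← hy, pow_orderOf_eq_one, map_one, mul_one, inv_mul_cancel]
    · refine fix_of_rp hp cs hk 2 hxs hyT ?_
      have h2 := hyc x (Subgroup.mem_sup_left (Subgroup.mem_zpowers x))
      calc z⁻¹ * eF m f x * z * (z⁻¹ * eF m f y * z) = z⁻¹ * (eF m f (x * y)) * z := by rw [map_mul]; group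
        _ = z⁻¹ * (eF m f (y * x)) * z := by rw [h2]
        _ = _ := by rw [map_mul]; group
  have h5 := eq_one_of_conj f h1
  rw [h5, orderOf_one] at hy
  exact hsp.one_lt.ne hy

end

theorem allD_2F4 {K : Type u} [Field K] [Fintype K] {m : ℕ} (hK : Fintype.card K = 2 ^ (2 * m + 1)) {s : ℕ}
    (hsp : s.Prime) (hs3 : s ≠ 3) : AllD 3 s ↥(twistedF4 K (2 ^ m)) := by
  classical
  have : Fact (Nat.Prime 2) := ⟨Nat.prime_two⟩
  have hc2 : CharP K 2 := F4Fixed.charP_two hK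
  obtain ⟨p, e, hpF, hpc, hpk, he, hpe, hk⟩ := exists_closure hK
  have hp2 : p = 2 := CharP.eq K hpc hc2
  subst hp2
  let k := AlgebraicClosure K
  let f : K →+* k := algebraMap K k
  let cs := CoxeterMatrix.F₄.toCoxeterSystem
  have hW : Finite CoxeterMatrix.F₄.Group := H493.PGF4.finW
  have hN : NSys CoxeterMatrix.F₄ (TT chevF4 k) (nc hp k) := nsys_of_locFin hp cs hk 2
  obtain ⟨n, hn⟩ := exists_rp cs hN (TD.w cs tdB)
  obtain ⟨z, hz⟩ := H493.F4Lang.lang_ste m n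
  have hpos := NN_pos m 1
  obtain ⟨N, hNe⟩ := Int.eq_ofNat_of_zero_le hpos.le
  have h3 : (((3 : ℕ) : ℕ) : ℤ) ∣ pe (2 ^ m) tdB.N := (three_dvd_iff m 1).2 (Or.inl rfl)
  have hN0 : 0 < N := by
    have : (0 : ℤ) < (N : ℤ) := by
      have h4 : pe (2 ^ m) (NN 1) = (N : ℤ) := hNe
      rw [← h4]; exact hpos
    exact_mod_cast this
  refine allD_TB hK f hk cs hn hz Nat.prime_three hsp (Ne.symm hs3)
    (hroot cs okT_B.1 okT_B.2.1 okT_B.2.2.2 Nat.prime_three (by norm_num) (Or.inl rfl) h3)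
    (Y := Mh (2 ^ m) tdB.Y) (N := N) hN0 (fun x => ?_) (s := sS cs) (s1 := sS1 cs) (sig_Tt cs _) (sig_w cs) (j := 1)
    (sig_pow cs) (sig_free cs hsp hs3)
  rw [Yw cs okT_B.1 ok3_B]
  have h4 : pe (2 ^ m) tdB.N = (N : ℤ) := hNe
  rw [h4, natCast_zsmul]

end TwF

end Cfsg.Agent.PQ.SS.Bad
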