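import Cfsg.Agent.PQ.SS.Defs
import Cfsg.Agent.PQ.SS.BadB
import Cfsg.Agent.KZ.DatX.Main
import Cfsg.Agent.KZ.DatX.Weyl
import Cfsg.Agent.S1163

/-!
# PQ, the bad primes of the exceptional groups (helper59)

`bad3 : Bad3`, `bad5 : Bad5`, `bad35_of : BoxCore → Bad35`.
-/

set_option autoImplicit false
set_option linter.unusedSectionVars false

namespace Cfsg.Agent.PQ.SS

open Cfsg Cfsg.Lie Cfsg.Agent.DL Cfsg.Agent.DL.PP Cfsg.Agent.KZ.Lie Cfsg.Agent.LV.Blk Cfsg.Agent.KZ.DatX Matrix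
  Cfsg.Agent.ChevalleyStructure.CoxeterGeomTypes Cfsg.Agent.Tits.Roots Cfsg.Agent.Nodes Cfsg.Agent.Nodes.RGDChev

namespace Bad

theorem SomeD.px {r s : ℕ} {S : Type} [Group S] (h : SomeD r s S) : PX s r S :=
  let ⟨y, h1, h2⟩ := h
  ⟨y, ⟨1, by rw [pow_one, ← h1, pow_orderOf_eq_one]⟩, h2⟩

theorem not_three_dvd_sz {K : Type} [Group K] (h : IsoSuzuki K) : ¬ 3 ∣ Nat.card K := by
  obtain ⟨F, _, _, m, hm, hF, ⟨e⟩⟩ := h
  rw [Nat.card_congr e.toEquiv, (S1163.result hm hF).1]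
  have h1 : 2 ^ (2 * m + 1) % 3 = 2 := by
    have : 2 ^ (2 * m + 1) = 4 ^ m * 2 := by rw [pow_succ, pow_mul]; norm_num
    rw [this, Nat.mul_mod, Nat.pow_mod]
    norm_num
  obtain ⟨k, hk⟩ : ∃ k, 2 ^ (2 * m + 1) = 3 * k + 2 := ⟨2 ^ (2 * m + 1) / 3, by omega⟩
  rw [hk]
  intro h3
  rcases (Nat.Prime.dvd_mul Nat.prime_three).mp h3 with h4 | h4
  · rcases (Nat.Prime.dvd_mul Nat.prime_three).mp h4 with h5 | h5
    · have := Nat.prime_three.dvd_of_dvd_pow h5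
      omega
    · omega
  · have h6 : (3 * k + 2) ^ 2 + 1 = 3 * (3 * k ^ 2 + 4 * k + 1) + 2 := by ring
    omega

/-- in `E₈` the centraliser of a Sylow `5`-subgroup is a `5`-group -/
theorem allD_five {r m : ℕ} {S : Type} [Group S] (hr : r.Prime) (hm : m.Prime) (h5 : 5 ≠ r) (hm5 : 5 ≠ m) (h : E8c r S) :
    AllD 5 m S := by
  have : Fact r.Prime := ⟨hr⟩
  obtain ⟨F, _, _, _, ⟨e⟩⟩ := h
  exact (allD_E8_five r F hm h5 hm5).congr e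

/-- the inverse of the Cartan matrix -/
def invE8 : Matrix (Fin 8) (Fin 8) ℤ :=
  !![4, 5, 7, 10, 8, 6, 4, 2; 5, 8, 10, 15, 12, 9, 6, 3; 7, 10, 14, 20, 16, 12, 8, 4; 10, 15, 20, 30, 24, 18, 12, 6;
    8, 12, 16, 24, 20, 15, 10, 5; 6, 9, 12, 18, 15, 12, 8, 4; 4, 6, 8, 12, 10, 8, 6, 3; 2, 3, 4, 6, 5, 4, 3, 2]

theorem invE8_l : ∀ i : Fin 8, cartanOf chevE8 8 i ᵥ* invE8 = Pi.single i 1 := by decide +kernel

theorem invE8_r : ∀ i : Fin 8, invE8 *ᵥ cartanOf chevE8 8 i = Pi.single i 1 := by decide +kernel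

theorem invE8_det {l : ℕ} (hl : l.Prime) : ¬ (l : ℤ) ∣ invE8.det := fun h => by
  have h1 : Matrix.of (cartanOf chevE8 8) * invE8 = 1 := by
    ext i j
    exact (congrFun (invE8_l i) j).trans (by rw [Matrix.one_apply, Pi.single_apply, eq_comm]; simp [eq_comm])
  have h2 := congrArg Matrix.det h1
  rw [det_mul, det_one] at h2
  have h3 : (l : ℤ) ∣ 1 := h2 ▸ h.mul_left _
  exact hl.one_lt.ne' (Nat.dvd_one.1 (by exact_mod_cast h3))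

theorem coef_E8 : ∀ r < chevE8.nroots, 3 ∣ RGDChev.vec chevE8 8 r 7 → RGDChev.vec chevE8 8 r 7 = 0 := by decide +kernel

variable {p : ℕ} [Fact p.Prime] {k : Type} [Field k] [CharP k p] [IsAlgClosed k]

theorem dual_E8 {c : ℤ} (X : XF hpE8 p k (c • 1)) {l : ℕ} (hl : l.Prime) : Dual X.D l invE8 where
  det := invE8_det hl
  sim i := ⟨i, 1, fun h => hl.one_lt.ne' (Nat.dvd_one.1 (by exact_mod_cast h)),
    (invE8_l i).trans (one_smul ℤ _).symm, (invE8_r i).trans (one_smul ℤ _).symm⟩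
  mx := by
    show (c • (1 : Matrix (Fin 8) (Fin 8) ℤ))ᵀ * invE8 = invE8 * (c • 1)
    rw [transpose_smul, transpose_one, smul_mul_assoc, mul_smul_comm, one_mul, mul_one]

theorem czl_XF {C : ChevalleyDatum} {n : ℕ} {M : CoxeterMatrix (Fin n)} {hp : IsType C n M}
    {Mx : Matrix (Fin n) (Fin n) ℤ} (X : XF hp p k Mx) {l : ℕ} (hl : l.Prime) : CZl X.D l :=
  ⟨1, fun i => Pi.single i 1, fun h => hl.one_lt.ne' (Nat.dvd_one.1 h), fun b i => by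
    show b ⬝ᵥ Pi.single i 1 = _
    rw [dotProduct_single, mul_one, Nat.cast_one, one_mul]⟩

theorem scal_dvd {R : Type} [Fintype R] [DecidableEq R] {n c : ℤ} (h : n ∣ c - 1) (v : R → ℤ) (i : R) :
    n ∣ ((c • (1 : Matrix R R ℤ) - 1) *ᵥ v) i := by
  rw [sub_mulVec, smul_mulVec, one_mulVec, Pi.sub_apply, Pi.smul_apply, smul_eq_mul, ← sub_one_mul]
  exact h.mul_right _

/-- elements in `Form` -/
theorem exists_form {Y : Type} [Group Y] {N : Type} [Fintype N] [DecidableEq N] {ρ : Y →* GL N k} {F : MulAut Y}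
    {G : Subgroup Y} (D : Datum p ρ F G) {l j : ℕ} (hl : l.Prime) (hp : l ≠ p) {w : D.W} {v : D.R → ℤ}
    (hv : ∀ i, (l : ℤ) ^ j ∣ ((D.Wm w * D.Mx - 1) *ᵥ v) i) (hL : Lev D l j v) :
    ∃ x : ↥(GF F G), Form D l x ∧ x ^ l ^ j = 1 ∧ (x = 1 → ∀ i, (l : ℤ) ^ j ∣ v i) := by
  obtain ⟨ζ, hζ⟩ := exists_primL (k := k) hl hp j
  have hy := yw_mem D w
  have hw := yw_rp D w
  have hx : yw D w * D.τ (coch v ζ) * (yw D w)⁻¹ ∈ GF F G :=
    ⟨(D.conj hy ⟨w, hw⟩).T_le_G (τ_mem_cj _ _), by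
      show F _ = _ * _ * _
      rw [F_cj_τ hw, (mon_coch_iff hζ _ _).2 (by exact_mod_cast hv)]⟩
  refine ⟨⟨_, hx⟩, ⟨j, ζ, v, _, hζ, hy, ⟨w, hw⟩, rfl, hL⟩, Subtype.ext ?_, fun h i => ?_⟩
  · show (yw D w * D.τ (coch v ζ) * (yw D w)⁻¹) ^ l ^ j = 1
    rw [conj_pow, ← map_pow, ← map_pow, hζ.pow_eq_one, map_one, map_one, mul_one, mul_inv_cancel]
  · have h4 : D.τ (coch v ζ) = D.τ 1 := by
      rw [map_one]
      exact conj_eq_one_iff.1 (congrArg Subtype.val h)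
    exact_mod_cast (hζ.zpow_eq_one_iff_dvd _).1 (congrFun (D.τ_inj h4) i)

end Bad

open Bad

/-- **The bad prime `3`.** -/
theorem bad3 : Bad3 := by
  intro r m S _ _ hr hm h3 hmr h5 hE hD h3S hmS
  have : Fact r.Prime := ⟨hr⟩
  have hm3 : 3 ≠ m := by omega
  rcases hE with ⟨F, _, _, _, ⟨-, ⟨e⟩⟩ | ⟨⟨e⟩⟩ | ⟨⟨e⟩⟩ | ⟨⟨e⟩⟩ | ⟨⟨e⟩⟩⟩ | ⟨K, _, _, _, q, hq, ⟨hK, ⟨e⟩⟩ | h⟩ | ⟨-, h⟩ |
    ⟨-, K, _, _, n, -, hK, ⟨e⟩⟩ | ⟨h, -⟩
  · exact (((allD_G2 r F hm h3 hm3).congr e).someD hm hmS).px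
  · exact (((allD_F4 r F hm h3 hm3).congr e).someD hm hmS).px
  · exact (((allD_E6 r F hm h3 hm3).congr e).someD hm hmS).px
  · exact ((someD_E7 r F hm h3 hmr (by omega) (Nat.card_congr e.toEquiv ▸ hmS)).congr e).px
  · exact (((allD_E8 r F hm h3 hm3).congr e).someD hm hmS).px
  · exact (((allD_twE6 r K hq hK hm h3 hm3).congr e).someD hm hmS).px
  · exact absurd ⟨K, _, _, ‹_›, q, hq, h⟩ hD
  · exact absurd h3S (not_three_dvd_sz h)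
  · exact (((allD_2F4 hK hm hm3.symm).congr e).someD hm hmS).px
  · exact absurd h.symm h3

/-- **The bad prime `5`.** -/
theorem bad5 : Bad5 := fun _ _ _ _ _ hr hm h5 _ h7 hE hmS =>
  ((allD_five hr hm h5 (by omega) hE).someD hm hmS).px

/-- **The pair `3`, `5` in `E₈`.** -/
theorem bad35_of (hc : BoxCore) : Bad35 := by
  intro r S _ _ hr h3 h5 hE M hM
  have : Fact r.Prime := ⟨hr⟩
  have hA : AllD 5 3 S := allD_five hr Nat.prime_three h5 (by norm_num) hE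
  obtain ⟨F, _, _, _, ⟨e⟩⟩ := hE
  obtain ⟨n, -, hF⟩ := FiniteField.card F r
  obtain ⟨k, _, _, _, X, ⟨s⟩⟩ := (has_E8 hF).congr e
  obtain ⟨f⟩ := nonempty_fr X.D
  have := X.finite
  have := Fintype.ofFinite ↥(GF X.F ⊤)
  obtain ⟨w, ε, hw, hε⟩ : ∃ (w : X.D.W) (ε : ℤ), X.D.Wm w = ε • 1 ∧ (3 : ℤ) ∣ ε * (r : ℤ) ^ (n : ℕ) - 1 := by
    have h1 : ¬ (3 : ℤ) ∣ (r : ℤ) ^ (n : ℕ) := fun h => h3 ((Nat.prime_dvd_prime_iff_eq Nat.prime_three hr).1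
      (Nat.prime_three.dvd_of_dvd_pow (by exact_mod_cast h)))
    by_cases h2 : (3 : ℤ) ∣ (r : ℤ) ^ (n : ℕ) - 1
    · exact ⟨1, 1, X.D.Wm_one.trans (one_smul ℤ _).symm, by rwa [one_mul]⟩
    · obtain ⟨w, hw⟩ := X.exists_neg_E8
      exact ⟨w, -1, hw.trans (neg_one_smul ℤ _).symm, by omega⟩
  obtain ⟨x, hx, hx3, hx1⟩ := exists_form X.D Nat.prime_three h3 (j := 1) (w := w) (v := (Pi.single 7 1 : Fin 8 → ℤ))
    (fun i => by
      have h1 : X.D.Wm w * X.D.Mx = (ε * (r : ℤ) ^ (n : ℕ)) • 1 := by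
        rw [hw, smul_one_mul, mul_smul]
        rfl
      rw [h1]
      exact scal_dvd (by rw [pow_one]; exact hε) _ i)
    (fun a ha => by
      obtain ⟨t, ht, rfl⟩ := (X.rt_iff a).1 ha
      show (3 : ℤ) ^ 1 ∣ RGDChev.vec chevE8 8 t ⬝ᵥ Pi.single 7 1 → RGDChev.vec chevE8 8 t ⬝ᵥ Pi.single 7 1 = 0
      rw [dotProduct_single, mul_one, pow_one]
      exact coef_E8 t ht)
  obtain ⟨ψ, hψ, i, j, h1, -⟩ := hc f s.sit Nat.prime_three h3 hM (dual_E8 X Nat.prime_three) (czl_XF X Nat.prime_three)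
    (fun _ _ _ _ _ _ _ _ _ => s.z1 f _) x (s.H0_eq.ge x.2) hx
  refine ⟨ψ, hψ, ?_⟩
  have e' : S ≃* ↥(GF X.F ⊤) := (MonoidHom.ofInjective s.ov.inj).trans (MulEquiv.subgroupCongr s.ov.range_eq)
  have h2 : 5 ∣ cls x := hA.congr e'.symm _ (orderOf_eq_prime hx3 fun h =>
    absurd (show (3 : ℤ) ^ 1 ∣ 1 from hx1 h (7 : Fin 8)) (by norm_num))
  rw [← h1] at h2
  refine (Nat.prime_five.dvd_mul.1 h2).resolve_right fun h4 => ?_
  rcases Nat.prime_five.dvd_mul.1 h4 with h6 | h6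
  · exact absurd (Nat.prime_five.dvd_of_dvd_pow h6) (by norm_num)
  · exact h5 ((Nat.prime_dvd_prime_iff_eq Nat.prime_five hr).1 (Nat.prime_five.dvd_of_dvd_pow h6))

end Cfsg.Agent.PQ.SS
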