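import Cfsg.Agent.PQ.SS.Defs

/-!
# PQ, converse for the groups of Lie type: good primes, the form of an element, descent (helper54)

* `boxHi : BoxHi`, `boxForm : BoxForm`, `boxSemi_of : BoxCore → BoxSemi`.
-/

set_option autoImplicit false
set_option linter.unusedSectionVars false

namespace Cfsg.Agent.PQ.SS

open Cfsg Cfsg.Agent.DL Cfsg.Agent.DL.PP Cfsg.Agent.DL.Uni Cfsg.Agent.DL.Asm Cfsg.Agent.KZ.Lie Cfsg.Agent.LV.Blk
  Cfsg.Agent.Nodes.Reps Matrix Cfsg.Agent.ChevalleyStructure.CoxeterGeom Cfsg.Agent.Tits.Roots Cfsg.Agent.Nodes.Coroot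

/-! ### class sizes -/

section Cls

variable {A B : Type*} [Group A] [Group B]

theorem cls_map_dvd (f : A →* B) (hf : Function.Surjective f) (x : A) : cls (f x) ∣ cls x := by
  refine (Subgroup.index_dvd_of_le ?_).trans ((Subgroup.centralizer ({x} : Set A)).index_map_dvd hf)
  rintro _ ⟨g, hg, rfl⟩
  rw [SetLike.mem_coe, Subgroup.mem_centralizer_singleton_iff] at hg
  rw [Subgroup.mem_centralizer_singleton_iff, ← map_mul, ← map_mul, hg]

theorem cls_sub (K : Subgroup A) (x : K) : cls x = (Subgroup.centralizer ({(x : A)} : Set A)).relIndex K := by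
  rw [cls, Subgroup.relIndex]
  congr 1
  ext g
  rw [Subgroup.mem_subgroupOf, Subgroup.mem_centralizer_singleton_iff, Subgroup.mem_centralizer_singleton_iff,
    Subtype.ext_iff, Subgroup.coe_mul, Subgroup.coe_mul]

theorem relIndex_dvd_index [Finite A] (C K : Subgroup A) [K.Normal] : C.relIndex K ∣ C.index := by
  have h1 := Subgroup.relIndex_sup_right C K
  have h2 := Subgroup.relIndex_mul_index (show K ≤ C ⊔ K from le_sup_right)
  have h3 := Subgroup.relIndex_mul_index (show C ⊓ K ≤ K from inf_le_right)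
  have h4 := Subgroup.relIndex_mul_index (show C ⊓ K ≤ C from inf_le_left)
  rw [Subgroup.inf_relIndex_right] at h3
  rw [Subgroup.inf_relIndex_left] at h4
  rw [h1] at h2
  refine ⟨(C ⊔ K).index, Nat.eq_of_mul_eq_mul_left (Nat.pos_of_ne_zero (K.subgroupOf C).index_ne_zero_of_finite) ?_⟩
  change K.relIndex C * _ = K.relIndex C * _
  rw [h4, ← h3, ← h2]
  ring

theorem cls_sub_dvd [Finite A] (K : Subgroup A) [K.Normal] (x : K) : cls x ∣ cls (x : A) := by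
  rw [cls_sub]
  exact relIndex_dvd_index _ K

theorem cls_dvd_sub (K : Subgroup A) (x : K) : cls (x : A) ∣ cls x * K.index := by
  rw [cls_sub, ← Subgroup.inf_relIndex_right, Subgroup.relIndex_mul_index inf_le_right]
  exact Subgroup.index_dvd_of_le inf_le_left

theorem cls_map_eq {l : ℕ} (hl : l.Prime) (f : A →* B) (hf : Function.Surjective f)
    (hc : ∀ z, f z = 1 → ∀ g, g * z = z * g) (hk : ¬ l ∣ Nat.card f.ker) {x : A} (hx : IsL l x) :
    cls (f x) = cls x := by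
  rw [cls, cls, ← Subgroup.index_comap_of_surjective _ hf]
  congr 1
  ext g
  rw [Subgroup.mem_comap, Subgroup.mem_centralizer_singleton_iff, Subgroup.mem_centralizer_singleton_iff]
  refine ⟨fun h => ?_, fun h => by rw [← map_mul, ← map_mul, h]⟩
  obtain ⟨j, hj⟩ := hx
  have h1 : f (g * x * g⁻¹ * x⁻¹) = 1 := by rw [map_mul, map_mul, map_mul, h, map_inv, map_inv]; group
  have h2 : Commute (g * x * g⁻¹ * x⁻¹) x := (hc _ h1 x).symm
  have h3 : (g * x * g⁻¹ * x⁻¹) ^ l ^ j = 1 := by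
    have h4 := h2.mul_pow (l ^ j)
    rw [hj, mul_one, inv_mul_cancel_right, conj_pow, hj, mul_one, mul_inv_cancel] at h4
    exact h4.symm
  have h5 : (⟨_, h1⟩ : f.ker) = 1 := (pow_eq_one_iff_of_coprime ((hl.coprime_iff_not_dvd.2 hk).pow_left j)).1
    ⟨Subtype.ext h3, pow_card_eq_one'⟩
  have h6 : g * x * g⁻¹ * x⁻¹ = 1 := congrArg Subtype.val h5
  calc g * x = g * x * g⁻¹ * x⁻¹ * (x * g) := by group
    _ = x * g := by rw [h6, one_mul]

theorem cls_pow {l n : ℕ} (hl : l.Prime) (hn : ¬ l ∣ n) {x : A} (hx : IsL l x) : cls (x ^ n) = cls x := by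
  obtain ⟨j, hj⟩ := hx
  obtain ⟨u, hu⟩ := exists_pow_eq_self_of_coprime (x := x) (n := n)
    (Nat.Coprime.coprime_dvd_right (orderOf_dvd_of_pow_eq_one hj) ((hl.coprime_iff_not_dvd.2 hn).symm.pow_right j))
  rw [cls, cls]
  congr 1
  ext g
  rw [Subgroup.mem_centralizer_singleton_iff, Subgroup.mem_centralizer_singleton_iff]
  refine ⟨fun h => ?_, fun h => (Commute.pow_right h n :)⟩
  rw [← hu]
  exact (Commute.pow_right h u :)

end Cls

/-! ### good primes -/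

section Hi

variable {p : ℕ} [Fact p.Prime] {k : Type} [Field k] [CharP k p] {Y : Type} [Group Y] {N : Type} [Fintype N]
  [DecidableEq N] {ρ : Y →* GL N k} {F : MulAut Y} {G : Subgroup Y} (D : Datum p ρ F G)

/-- every linear form is congruent to a point of a closed alcove around the origin -/
theorem exists_small (l : (D.I → ℤ) →+ ℤ) {n : ℤ} (hn : 0 < n) :
    ∃ f : (D.I → ℤ) →+ ℤ, ∀ a, D.Rt a → l a - n * f a ≤ n := by
  let E : ((D.I → ℤ) →+ ℤ) → ℤ := fun f => ∑ c ∈ PP.Phi D, (l c - n * f c) ^ 2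
  have hE : ∀ f, 0 ≤ E f := fun f => Finset.sum_nonneg fun _ _ => sq_nonneg _
  obtain ⟨f, hf⟩ : ∃ f, ∀ f', E f ≤ E f' := by
    refine ⟨Function.argmin (fun f => (E f).toNat), fun f' => ?_⟩
    have h1 := Function.argmin_le (fun f => (E f).toNat) f'
    have h2 := hE f'
    have h3 := hE (Function.argmin (fun f => (E f).toNat))
    omega
  refine ⟨f, fun a ha => ?_⟩
  have h1 := hf (f + ell D.cs D.h ha)
  have h2 : E (f + ell D.cs D.h ha) = E f - n * (2 * ∑ c ∈ PP.Phi D, cp D c a * (l c - n * f c)) +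
      n ^ 2 * ∑ c ∈ PP.Phi D, cp D c a ^ 2 := by
    simp only [E, Finset.mul_sum, ← Finset.sum_sub_distrib, ← Finset.sum_add_distrib]
    refine Finset.sum_congr rfl fun c _ => ?_
    rw [AddMonoidHom.add_apply, ell_apply]
    ring
  have h3 : 2 * ∑ c ∈ PP.Phi D, cp D c a * (l c - n * f c) = (∑ c ∈ PP.Phi D, cp D c a ^ 2) * (l a - n * f a) := by
    have h4 := two_sum D ((Int.castAddHom ℝ).comp (l - n • f)) ha
    simp only [AddMonoidHom.comp_apply, Int.coe_castAddHom, AddMonoidHom.sub_apply, AddMonoidHom.smul_apply,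
      smul_eq_mul] at h4
    exact_mod_cast h4
  rw [h2, h3] at h1
  have h4 := sum_sq_pos D ha
  by_contra h5
  have := mul_pos (mul_pos hn h4) (sub_pos.2 (not_le.1 h5))
  nlinarith

theorem map_nonneg' {f : (D.I → ℤ) →+ ℤ} (hf : ∀ i, 0 ≤ f (sr i)) {a : D.I → ℤ} (ha : 0 ≤ a) : 0 ≤ f a := by
  rw [D.map_eq_sum]
  exact Finset.sum_nonneg fun i _ => mul_nonneg (ha i) (hf i)

theorem coord_eq_zero {f : (D.I → ℤ) →+ ℤ} (hf : ∀ i, 0 ≤ f (sr i)) {a : D.I → ℤ} (ha : 0 ≤ a) (h : f a = 0) {i : D.I}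
    (hi : f (sr i) ≠ 0) : a i = 0 := by
  rw [D.map_eq_sum] at h
  exact (mul_eq_zero.1 ((Finset.sum_eq_zero_iff_of_nonneg fun i _ => mul_nonneg (ha i) (hf i)).1 h i
    (Finset.mem_univ i))).resolve_right hi

/-- a dominant point of the alcove -/
theorem exists_lev_dom {θ : D.I → ℤ} (hle : ∀ a, D.Rt a → a ≤ θ) (l : (D.I → ℤ) →+ ℤ) {n : ℤ} (hn : 0 < n)
    (hl : ∀ i, 0 ≤ l (sr i)) (hθ : l θ ≤ n) : ∃ (m : ℤ) (g : (D.I → ℤ) →+ ℤ), (m = 1 ∨ ∃ i, m = θ i) ∧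
      ∀ a, D.Rt a → n ∣ l a → m * l a = n * g a := by
  have key : ∀ (m : ℤ) (g : (D.I → ℤ) →+ ℤ), (∀ a, D.Rt a → 0 ≤ a → l a = 0 → g a = 0) →
      (∀ a, D.Rt a → 0 ≤ a → l a = n → l (θ - a) = 0 → l θ = n → m = g a) →
      ∀ a, D.Rt a → n ∣ l a → m * l a = n * g a := fun m g h0 h1 => by
    have h2 : ∀ a, D.Rt a → 0 ≤ a → n ∣ l a → m * l a = n * g a := fun a ha hp hd => by
      have h3 := map_nonneg' D hl hp
      have h4 := map_nonneg' D hl (sub_nonneg.2 (hle a ha))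
      rcases h3.eq_or_lt with h5 | h5
      · rw [h0 a ha hp h5.symm, ← h5, mul_zero, mul_zero]
      · have h6 := Int.le_of_dvd h5 hd
        rw [map_sub] at h4
        have h7 : l a = n := by omega
        rw [← h1 a ha hp h7 (by rw [map_sub]; omega) (by omega), h7, mul_comm]
    intro a ha hd
    rcases ha.pos_or_neg with h | h
    · exact h2 a ha h hd
    · have h3 := h2 _ ha.neg (neg_nonneg.2 h) (by rw [map_neg]; exact hd.neg_right)
      rw [map_neg, map_neg] at h3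
      linarith
  rcases hθ.eq_or_lt with h | h
  · obtain ⟨i, hi⟩ : ∃ i, l (sr i) ≠ 0 := by
      by_contra h1
      push Not at h1
      rw [D.map_eq_sum, Finset.sum_eq_zero fun i _ => by rw [h1, mul_zero]] at h
      exact hn.ne h
    exact ⟨θ i, Pi.evalAddMonoidHom _ i, .inr ⟨i, rfl⟩, key _ _ (fun a _ hp h1 => coord_eq_zero D hl hp h1 hi)
      fun a ha _ _ h1 _ => sub_eq_zero.1 (coord_eq_zero D hl (sub_nonneg.2 (hle a ha)) h1 hi)⟩
  · exact ⟨1, 0, .inl rfl, key _ _ (fun _ _ _ _ => rfl) fun _ _ _ _ _ h1 => absurd h1 h.ne⟩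

theorem exists_lev {θ : D.I → ℤ} (hθ : D.Rt θ) (hle : ∀ a, D.Rt a → a ≤ θ) (l : (D.I → ℤ) →+ ℤ) {n : ℤ} (hn : 0 < n) :
    ∃ (m : ℤ) (g : (D.I → ℤ) →+ ℤ), (m = 1 ∨ ∃ i, m = θ i) ∧ ∀ a, D.Rt a → n ∣ l a → m * l a = n * g a := by
  obtain ⟨f, hf⟩ := exists_small D l hn
  obtain ⟨w, hw⟩ := CF.exists_dominant D (l - n • f)
  obtain ⟨m, g, h1, h2⟩ := exists_lev_dom D hle ((l - n • f).comp (rep D.cs D.h w).toAddMonoidHom) hn hw
    (hf _ (hθ.act w))
  refine ⟨m, m • f + g.comp (rep D.cs D.h w⁻¹).toAddMonoidHom, h1, fun a ha hd => ?_⟩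
  have h3 : ((l - n • f).comp (rep D.cs D.h w).toAddMonoidHom) (D.act w⁻¹ a) = l a - n * f a :=
    congrArg (fun b => l b - n * f b) (act_act_inv D w a)
  have h4 := h2 _ (ha.act w⁻¹) (h3 ▸ hd.sub (dvd_mul_right _ _))
  have h5 : m * (l a - n * f a) = n * g (D.act w⁻¹ a) := h3 ▸ h4
  show m * l a = n * (m * f a + g (D.act w⁻¹ a))
  linarith

end Hi

theorem boxHi : BoxHi := by
  intro p _ k _ _ Y _ N _ _ ρ F G _ D l hl ⟨n, ϖ, hn, hϖ⟩ ⟨θ, hθ, hle, hd⟩ j v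
  have hl' : Prime (l : ℤ) := Nat.prime_iff_prime_int.1 hl
  let lam : (D.I → ℤ) →+ ℤ :=
    { toFun := fun b => D.wt b ⬝ᵥ v
      map_zero' := by rw [map_zero, zero_dotProduct]
      map_add' := fun a b => by rw [map_add, add_dotProduct] }
  obtain ⟨m, g, h1, h2⟩ := exists_lev D hθ hle lam (n := (l : ℤ) ^ j) (pow_pos (by exact_mod_cast hl.pos) j)
  have h3 : 0 ≤ m := by
    rcases h1 with rfl | ⟨i, rfl⟩
    exacts [zero_le_one, ((sr_nonneg i).trans (hle _ (isRoot_sr _ _ i))) i]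
  have h4 : ¬ (l : ℤ) ∣ n * m := fun h => (hl'.dvd_or_dvd h).elim (fun h => hn (by exact_mod_cast h)) fun h => by
    rcases h1 with rfl | ⟨i, rfl⟩
    exacts [hl'.not_dvd_one h, hd i h]
  obtain ⟨m, rfl⟩ := Int.eq_ofNat_of_zero_le h3
  refine ⟨n * m, ((n : ℤ) * m) • v - (l : ℤ) ^ j • ∑ i, g (sr i) • ϖ i, fun h => h4 (by exact_mod_cast h), fun i => ?_,
    fun a ha h => ?_⟩
  · rw [Pi.sub_apply, Pi.smul_apply, Pi.smul_apply, smul_eq_mul, smul_eq_mul, Nat.cast_mul, sub_sub_cancel_left]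
    exact (dvd_mul_right _ _).neg_right
  · have h5 : D.wt a ⬝ᵥ (((n : ℤ) * m) • v - (l : ℤ) ^ j • ∑ i, g (sr i) • ϖ i) =
        n * m * lam a - (l : ℤ) ^ j * (n * g a) := by
      rw [dotProduct_sub, dotProduct_smul, dotProduct_smul, dotProduct_sum, smul_eq_mul, smul_eq_mul, D.map_eq_sum g,
        Finset.mul_sum Finset.univ _ (n : ℤ)]
      congr 2
      exact Finset.sum_congr rfl fun i _ => by rw [dotProduct_smul, hϖ, smul_eq_mul]; ring
    rw [h5] at h ⊢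
    have h6 := h2 a ha (hl'.pow_dvd_of_dvd_mul_left j h4 ((dvd_sub_left (dvd_mul_right _ _)).1 h))
    rw [mul_assoc, h6]
    ring

theorem boxForm : BoxForm := by
  intro p _ k _ _ Y _ N _ _ ρ F G _ D l hl hp hG x hx ⟨j, hj⟩
  obtain ⟨T, hT, hxT⟩ := (sys' D).toral hx fun h => hp ((Nat.prime_dvd_prime_iff_eq Fact.out hl).1
    ((Fact.out : p.Prime).dvd_of_dvd_pow (h.trans (orderOf_dvd_of_pow_eq_one hj)))).symm
  obtain ⟨y, hy, w, hw, rfl⟩ := exists_y hT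
  obtain ⟨c, hc⟩ := (D.mem_T _).1 (mem_cj.1 hxT)
  obtain rfl : x = y * D.τ c * y⁻¹ := by rw [hc]; group
  obtain ⟨ζ, hζ⟩ := exists_primL (k := k) hl hp j
  have : NeZero (l ^ j) := ⟨(pow_pos hl.pos j).ne'⟩
  have h1 : c ^ l ^ j = 1 := D.τ_inj (by
    rw [conj_pow, mul_inv_eq_one, mul_eq_left] at hj
    rw [map_pow, hj, map_one])
  have h2 : ∀ i, ∃ e : ℕ, ζ ^ e = c i := fun i => by
    obtain ⟨e, -, he⟩ := hζ.eq_pow_of_mem_rootsOfUnity (ξ := c i) (congrFun h1 i)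
    exact ⟨e, he⟩
  choose v hv using h2
  obtain ⟨n, v', hn, h3, h4⟩ := hG j fun i => v i
  refine ⟨n, hn, j, ζ, v', y, hζ, hy, ⟨w, hw⟩, ?_, h4⟩
  rw [conj_pow, ← map_pow]
  congr 3
  funext i
  obtain ⟨e, he⟩ := h3 i
  rw [coch_apply, Pi.pow_apply, ← hv, eq_add_of_sub_eq he, _root_.zpow_add, _root_.zpow_mul, ← Nat.cast_pow, zpow_natCast,
    hζ.pow_eq_one, _root_.one_zpow, one_mul, ← Nat.cast_mul, zpow_natCast, pow_mul']

theorem boxSemi_of (hC : BoxCore) : BoxSemi := by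
  intro p _ k _ _ Y _ N _ _ ρ F G _ D f _ Adm S _ s l B hl hp hD hZ hG hK
  have := s.normal
  have key : ∀ M, IsPModular l M → ∀ x : S, IsL l x → ∃ ψ ∈ principalBlock M S, ∃ y : s.H1, IsL l y ∧
      cls (s.π1 y) = cls x ∧ charDegree (ψ : S → ℂ) ∣ cls (y : GF F G) ∧
      ∀ m : ℕ, m.Prime → m ≠ l → m ≠ p → m ∣ cls x → m ∣ charDegree (ψ : S → ℂ) := fun M hM x hx => by
    obtain ⟨y, rfl⟩ := s.π1_surj x
    obtain ⟨y', ⟨j, hj⟩, e⟩ := exists_isL hl s.π1 hx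
    rw [← e] at hx ⊢
    obtain ⟨n, hn, hF⟩ := boxForm D hl hp hG _ (y' : GF F G).2 ⟨j, congrArg (fun z => z.1.1) hj⟩
    obtain ⟨ψ, hψ, a, b, h1, -⟩ := hC f s hl hp hM hD hZ hK ((y' ^ n : s.H1) : GF F G) (y' ^ n).2 hF
    have h2 : cls (s.π1 (y' ^ n)) = cls (s.π1 y') := by rw [map_pow, cls_pow hl hn hx]
    refine ⟨ψ, hψ, y' ^ n, ⟨j, by rw [← pow_mul, mul_comm, pow_mul, hj, one_pow]⟩, h2, ⟨_, h1.symm⟩,
      fun m hm hml hmp hd => ?_⟩
    have h3 := (h2 ▸ hd).trans ((cls_map_dvd s.π1 s.π1_surj _).trans (cls_sub_dvd s.H1 _))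
    rw [← h1] at h3
    refine (hm.dvd_mul.1 h3).resolve_right fun h => (hm.dvd_mul.1 h).elim (fun h => hml ?_) fun h => hmp ?_
    · exact (Nat.prime_dvd_prime_iff_eq hm hl).1 (hm.dvd_of_dvd_pow h)
    · exact (Nat.prime_dvd_prime_iff_eq hm Fact.out).1 (hm.dvd_of_dvd_pow h)
  refine ⟨fun M hM x hx => ?_, fun hk hi M hM x hx hc => ?_⟩
  · obtain ⟨ψ, hψ, -, -, -, -, h⟩ := key M hM x hx
    exact ⟨ψ, hψ, h⟩
  · obtain ⟨ψ, hψ, y, hy, h1, h2, h⟩ := key M hM x hx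
    refine ⟨ψ, hψ, fun h3 => (hl.dvd_mul.1 (h3.trans (h2.trans (cls_dvd_sub s.H1 y)))).elim (fun h4 => hc ?_) hi, h⟩
    rwa [← h1, cls_map_eq hl s.π1 s.π1_surj (fun z hz g => Subtype.ext (s.π1_cen z hz g)) (card_ker s ▸ hk) hy]

end Cfsg.Agent.PQ.SS
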