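import Cfsg.Agent.PQ.SS.XF

/-!
# PQ, SEMI for the exceptional groups (helper98)

`rowX_of : BoxSemi → BoxHi → RowX`; `ex_has` lists the data of the exceptional groups.
-/

set_option autoImplicit false

namespace Cfsg.Agent.PQ.SS

open Cfsg Cfsg.Lie Matrix Cfsg.Agent.ChevalleyStructure.CoxeterGeomTypes Cfsg.Agent.Nodes.RGDChev Cfsg.Agent.DL
  Cfsg.Agent.KZ.Lie Cfsg.Agent.KZ.DatX

theorem semi_has (hS : BoxSemi) (hH : BoxHi) {C : ChevalleyDatum} {n : ℕ} {M : CoxeterMatrix (Fin n)} {hp : IsType C n M}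
    {p : ℕ} [Fact p.Prime] {Mx B : Matrix (Fin n) (Fin n) ℤ} {π : Fin n → Fin n} {a c l d : ℕ}
    {Adm : Matrix (Fin n) (Fin n) ℤ → Prop} {S : Type} [Group S] (T : Ty C n B π a c) (h : Has hp p Mx Adm d S)
    (hM : Mxᵀ * B = B * Mx) (hl : l.Prime) (hlp : l ≠ p) (ha : ¬ l ∣ a) (hc : ¬ l ∣ c) (hd : ¬ l ∣ d) :
    Semi p l S ∧ SemiZ p l S := by
  obtain ⟨k, _, _, _, X, ⟨s⟩⟩ := h
  have := X.finite
  have := Fintype.ofFinite ↥(GF X.F ⊤)
  obtain ⟨f⟩ := nonempty_fr X.D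
  have h1 := hS f s.sit hl hlp (T.dual X hM hl ha) (czl X hl) (hH X.D hl (czl X hl) (T.hi X hc)) (ker_xs s f l B)
  exact ⟨h1.1, h1.2 (not_dvd_ker s hl) (not_dvd_index s hl hd)⟩

theorem card_eq_pow (F : Type) [Field F] [Fintype F] (r : ℕ) [Fact r.Prime] [CharP F r] :
    ∃ e, Fintype.card F = r ^ e :=
  let ⟨e, h⟩ := FiniteField.card F r
  ⟨e, h.2⟩

theorem tw_pow {K : Type} [Field K] [Fintype K] (r : ℕ) [Fact r.Prime] [CharP K r] {q j : ℕ} (hj : j ≠ 0)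
    (hK : Fintype.card K = q ^ j) : ∃ e, q = r ^ e := by
  obtain ⟨e, he⟩ := card_eq_pow K r
  obtain ⟨i, -, hi⟩ := (Nat.dvd_prime_pow Fact.out).1 (he ▸ hK ▸ dvd_pow_self q hj : q ∣ r ^ e)
  exact ⟨i, hi⟩

variable {r : ℕ} [Fact r.Prime] {S : Type} [Group S]

theorem d4_has (h : D4c r S) : ∃ e : ℕ, Has hpD4 r ((r : ℤ) ^ e • P4) (AdmF r) 1 S := by
  obtain ⟨K, _, _, _, q, -, hK, ⟨i⟩⟩ := h
  obtain ⟨e, rfl⟩ := tw_pow r three_ne_zero hK
  exact ⟨e, (has_3D4 hK).congr i⟩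

theorem e8_has (h : E8c r S) : ∃ e : ℕ, Has hpE8 r ((r : ℤ) ^ e • 1) (AdmF r) 1 S := by
  obtain ⟨F, _, _, _, ⟨i⟩⟩ := h
  obtain ⟨e, he⟩ := card_eq_pow F r
  exact ⟨e, (has_E8 he).congr i⟩

/-- the data of the exceptional groups -/
theorem ex_has (h : Ex r S) : ∃ e : ℕ,
    Has hpG2 r ((r : ℤ) ^ e • 1) (fun _ => True) 1 S ∨ Has hpF4 r ((r : ℤ) ^ e • 1) (fun _ => True) 1 S ∨
    Has hpE6 r ((r : ℤ) ^ e • 1) (fun _ => True) (Nat.gcd 3 (r ^ e - 1)) S ∨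
    Has hpE7 r ((r : ℤ) ^ e • 1) (fun _ => True) (Nat.gcd 2 (r ^ e - 1)) S ∨ E8c r S ∨
    Has hpE6 r ((r : ℤ) ^ e • P6) (fun _ => True) (Nat.gcd 3 (r ^ e + 1)) S ∨ D4c r S ∨
    (r = 2 ∧ Has hpB2 r ((r : ℤ) ^ e • GamB) (fun _ => True) 1 S) ∨
    (r = 2 ∧ Has hpF4 r ((r : ℤ) ^ e • GamF) (fun _ => True) 1 S) ∨
    (r = 3 ∧ Has hpG2 r ((r : ℤ) ^ e • GamG) (fun _ => True) 1 S) := by
  rcases h with ⟨F, _, _, _, h⟩ | ⟨K, _, _, _, q, hq, ⟨hK, ⟨i⟩⟩ | h⟩ | ⟨rfl, h⟩ | ⟨rfl, h⟩ | ⟨rfl, h⟩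
  · obtain ⟨e, he⟩ := card_eq_pow F r
    refine ⟨e, ?_⟩
    rcases h with ⟨h3, ⟨i⟩⟩ | ⟨⟨i⟩⟩ | ⟨⟨i⟩⟩ | ⟨⟨i⟩⟩ | h
    · by_cases h : r = 3
      · subst h
        exact .inl (((has_G2three he).congr i).mono fun _ _ => trivial)
      · exact .inl (((has_G2 he h h3).congr i).mono fun _ _ => trivial)
    · by_cases h : r = 2
      · subst h
        exact .inr (.inl (((has_F4two he).congr i).mono fun _ _ => trivial))
      · exact .inr (.inl (((has_F4 he h).congr i).mono fun _ _ => trivial))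
    · exact .inr (.inr (.inl (((has_E6 he).congr i).mono fun _ _ => trivial)))
    · exact .inr (.inr (.inr (.inl (((has_E7 he).congr i).mono fun _ _ => trivial))))
    · exact .inr (.inr (.inr (.inr (.inl ⟨F, _, inferInstance, inferInstance, h⟩))))
  · obtain ⟨e, rfl⟩ := tw_pow r two_ne_zero hK
    exact ⟨e, .inr (.inr (.inr (.inr (.inr (.inl (((has_2E6 hK).congr i).mono fun _ _ => trivial))))))⟩
  · exact ⟨0, .inr (.inr (.inr (.inr (.inr (.inr (.inl ⟨K, _, _, inferInstance, q, hq, h⟩))))))⟩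
  · obtain ⟨m, -, h⟩ := row_2B2 h
    exact ⟨m, .inr (.inr (.inr (.inr (.inr (.inr (.inr (.inl ⟨rfl, h.mono fun _ _ => trivial⟩)))))))⟩
  · obtain ⟨m, -, h⟩ := row_2F4 h
    exact ⟨m, .inr (.inr (.inr (.inr (.inr (.inr (.inr (.inr (.inl ⟨rfl, h.mono fun _ _ => trivial⟩))))))))⟩
  · obtain ⟨m, -, h⟩ := row_2G2 h
    exact ⟨m, .inr (.inr (.inr (.inr (.inr (.inr (.inr (.inr (.inr ⟨rfl, h.mono fun _ _ => trivial⟩))))))))⟩

theorem not_dvd_of_le {l a : ℕ} (hl : l.Prime) (h5 : 5 ≤ l) (h : a ∣ 12) : ¬ l ∣ a := fun h1 => by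
  have h2 : l ∣ 2 ^ 2 * 3 := h1.trans h
  rcases (Nat.Prime.dvd_mul hl).1 h2 with h3 | h3
  · have := Nat.le_of_dvd two_pos (hl.dvd_of_dvd_pow h3)
    omega
  · have := Nat.le_of_dvd three_pos h3
    omega

/-- **SEMI for the exceptional groups** -/
theorem rowX_of (hS : BoxSemi) (hH : BoxHi) : RowX := by
  intro r l S _ hr hl hlr h
  have : Fact r.Prime := ⟨hr⟩
  have d4 : D4c r S → l ≠ 2 → Semi r l S ∧ SemiZ r l S := fun h h2 => by
    obtain ⟨e, h⟩ := d4_has h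
    have h3 : ¬ l ∣ 2 := fun h1 => h2 ((Nat.prime_dvd_prime_iff_eq hl Nat.prime_two).1 h1)
    exact semi_has hS hH tyXD4 h (mx_smul mx_4 _) hl hlr h3 h3 hl.not_dvd_one
  rcases h with ⟨h, h5, h7⟩ | ⟨h, rfl⟩
  swap
  · exact d4 h (by decide)
  have nd : ∀ {a : ℕ}, a ∣ 12 → ¬ l ∣ a := not_dvd_of_le hl h5
  obtain ⟨e, h | h | h | h | h | h | h | ⟨-, h⟩ | ⟨-, h⟩ | ⟨-, h⟩⟩ := ex_has h
  · exact semi_has hS hH tyXG2 h (mx_one _) hl hlr (nd (by decide)) (nd (by decide)) (nd (by decide))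
  · exact semi_has hS hH tyXF4 h (mx_one _) hl hlr (nd (by decide)) (nd (by decide)) (nd (by decide))
  · exact semi_has hS hH tyXE6 h (mx_one _) hl hlr (nd (by decide)) (nd (by decide))
      (nd ((Nat.gcd_dvd_left _ _).trans (by decide)))
  · exact semi_has hS hH tyXE7 h (mx_one _) hl hlr (nd (by decide)) (nd (by decide))
      (nd ((Nat.gcd_dvd_left _ _).trans (by decide)))
  · obtain ⟨e, h1⟩ := e8_has h
    refine semi_has hS hH tyXE8 h1 (mx_one _) hl hlr (nd (by decide)) (fun h2 => ?_) (nd (by decide))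
    rcases (Nat.Prime.dvd_mul hl).1 (show l ∣ 12 * 5 from h2) with h3 | h3
    · exact nd dvd_rfl h3
    · have := Nat.le_of_dvd (by decide) h3
      have := h7 h
      omega
  · exact semi_has hS hH tyXE6 h (mx_smul mx_6 _) hl hlr (nd (by decide)) (nd (by decide))
      (nd ((Nat.gcd_dvd_left _ _).trans (by decide)))
  · exact d4 h (by omega)
  · exact semi_has hS hH tyXB2 h (mx_smul mx_B _) hl hlr (nd (by decide)) (nd (by decide)) (nd (by decide))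
  · exact semi_has hS hH tyXF4 h (mx_smul mx_F _) hl hlr (nd (by decide)) (nd (by decide)) (nd (by decide))
  · exact semi_has hS hH tyXG2 h (mx_smul mx_G _) hl hlr (nd (by decide)) (nd (by decide)) (nd (by decide))

end Cfsg.Agent.PQ.SS
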