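import Cfsg.Agent.PQ.SS.AWr
import Cfsg.Agent.H201.RowSU
import Cfsg.Agent.KZ.Dat.GlH

/-!
# PQ/SS, row A (helper76): the witnesses in `GL_n` and `GU_n`

`TA r Q G` : the family of the groups `GL_n(Q)`; `TA.main`; `taL`, `taU`.
-/

set_option autoImplicit false
set_option linter.unusedSectionVars false

namespace Cfsg.Agent.PQ.SS.RA

open Subgroup Matrix Cfsg.Agent.H201.MatSys Cfsg.Agent.H201.MatSpec Cfsg.Agent.H201.RowSU Cfsg.Agent.H201.BlockSys
  Cfsg.Agent.H201.BlockSys.Sys Cfsg.Agent.LieClassical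

variable {F : Type} [Field F]

section un

variable {ι o : Type} [Fintype ι] [DecidableEq ι] [Fintype o] [DecidableEq o] (σ : F →+* F)

/-- unitary matrices -/
def Un (A : Matrix ι ι F) : Prop := Aᵀ * A.map σ = 1

variable {σ}

theorem Un.sub {A : Matrix ι ι F} (h : Un σ A) (e : o ≃ ι) : Un σ (A.submatrix e e) := by
  show (A.submatrix e e)ᵀ * (A.map σ).submatrix e e = 1
  rw [transpose_submatrix, submatrix_mul_equiv, show Aᵀ * A.map σ = 1 from h, submatrix_one_equiv]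

theorem un_bd {t : o → Matrix ι ι F} (h : ∀ j, Un σ (t j)) : Un σ (blockDiagonal t) := by
  show (blockDiagonal t)ᵀ * (blockDiagonal t).map σ = 1
  rw [blockDiagonal_transpose, blockDiagonal_map _ _ (map_zero σ), ← blockDiagonal_mul, ← blockDiagonal_one]
  exact congrArg _ (funext h)

theorem un_perm (π : Equiv.Perm ι) : Un σ (π.permMatrix F) := by
  show (π.permMatrix F)ᵀ * (π.permMatrix F).map σ = 1
  rw [show (π.permMatrix F).map σ = π.permMatrix F from PEquiv.map_toMatrix σ _, transpose_permMatrix, ← permMatrix_mul,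
    mul_inv_cancel, permMatrix_one]

theorem un_scalar {u : F} (h : u * σ u = 1) : Un σ (scalar ι u) := by
  show (diagonal fun _ => u)ᵀ * (diagonal fun _ => u).map σ = 1
  rw [diagonal_transpose, diagonal_map (map_zero σ), diagonal_mul_diagonal, h, diagonal_one]

theorem sp_scalar {K : Type*} [Field K] (φ : F →+* K) (u : F) : sp φ (scalar ι u) ⊆ {φ u} := fun z hz => by
  rw [mem_sp_iff_det, scalar_apply, diagonal_map (map_zero φ), smul_one_eq_diagonal, diagonal_sub, det_diagonal,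
    Finset.prod_const] at hz
  exact sub_eq_zero.1 (pow_eq_zero_iff'.1 hz).1

end un

/-- the family of the groups `GL_n(Q)` -/
structure TA (r : ℕ) (Q : ℤ) (G : ∀ n, Subgroup (GL (Fin n) F)) : Prop where
  un : ∃ (b : Prop) (σ : F →+* F), ∀ n g, g ∈ G n ↔ (b → Un σ (g : Matrix (Fin n) (Fin n) F))
  ne : ∀ i : ℕ, i ≠ 0 → Q ^ i ≠ 1
  nd : ∀ s : ℕ, s.Prime → s ≠ r → ¬ (s : ℤ) ∣ Q
  dec : ∀ a b : ℕ, (natFm (fun n => Fin n) G).Dec a b (a + b)
  cl : ∀ (n : ℕ) (x : G n), ∀ z ∈ sp (algebraMap F (AlgebraicClosure F)) ((x : GL (Fin n) F) : Matrix (Fin n) (Fin n) F),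
    ∀ c ∈ ({Q} : Set ℤ), z ^ c ∈ sp (algebraMap F (AlgebraicClosure F)) ((x : GL (Fin n) F) : Matrix (Fin n) (Fin n) F)
  ord : ∀ n : ℕ, ∃ k : ℕ, Nat.card (G n) = r ^ k * (PP Q n).natAbs
  det : ∀ (n : ℕ) (x : G n), GeneralLinearGroup.det (x : GL (Fin n) F) ^ (Q - 1) = 1

namespace TA

variable [Finite F] {r : ℕ} [Fact r.Prime] [CharP F r] {Q : ℤ} {G : ∀ n, Subgroup (GL (Fin n) F)} (T : TA r Q G)
  {l m n : ℕ}

/-- the system -/
noncomputable def sys : Sys.{0, 0} r :=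
  natSys (fun n => Fin n) G r 1 (fun n => by simp) Q T.ne T.nd T.dec {Q} T.cl (fun s hs _ hr => by
    have := Fact.mk hs
    rw [card_Hs_singleton (T.nd s hs hr), one_mul]) T.ord

theorem dim_eq (n : ℕ) : T.sys.dim n = n := Fintype.card_fin n

/-- block diagonal matrices -/
noncomputable def bb (a b : ℕ) : G a × G b →* G (a + b) := T.sys.β (T.dec a b)

/-- the index -/
noncomputable def ix (a b : ℕ) : ℕ := idx (S := T.sys) (T.dec a b)

omit T in
/-- eigenvalues -/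
def EE (x : G n) : Set (AlgebraicClosure F) :=
  sp (algebraMap F (AlgebraicClosure F)) ((x : GL (Fin n) F) : Matrix (Fin n) (Fin n) F)

theorem cls_bb {a b : ℕ} {x : G a} {y : G b} (h : Disjoint (EE x) (EE y)) :
    cls (T.bb a b (x, y)) = T.ix a b * (cls x * cls y) := cls_β (S := T.sys) (T.dec a b) h

theorem bb_pow {a b : ℕ} {x : G a} {y : G b} (hx : x ^ l = 1) (hy : y ^ l = 1) : T.bb a b (x, y) ^ l = 1 :=
  β_pow (S := T.sys) (T.dec a b) hx hy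

theorem EE_bb {a b : ℕ} (x : G a) (y : G b) : EE (T.bb a b (x, y)) = EE x ∪ EE y := T.sys.E_β (T.dec a b) x y

theorem det_bb {a b : ℕ} (x : G a) (y : G b) : GeneralLinearGroup.det (T.bb a b (x, y) : GL (Fin (a + b)) F) =
    GeneralLinearGroup.det (x : GL (Fin a) F) * GeneralLinearGroup.det (y : GL (Fin b) F) :=
  detHom_β (fun n => Fin n) G (T.dec a b) x y

theorem wr {d : ℕ} (hd : 0 < d) : Wr T.sys d := by
  intro (c : ℕ) k (hk : k ≤ c / d) (x : G d)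
  obtain ⟨b, σ, h⟩ := T.un
  obtain ⟨c', rfl⟩ := Nat.exists_eq_add_of_le ((Nat.mul_le_mul_left d hk).trans (Nat.mul_div_le c d))
  have : Nonempty (Fin d) := ⟨⟨0, hd⟩⟩
  have h0 : ∀ A, Un σ A → Un σ ((bcEquiv (finProdFinEquiv (m := d) (n := k))).hom A) := fun A hA =>
    (congrArg (Un σ) (bcEquiv_hom _ A)).mpr (hA.sub _)
  obtain ⟨y, h1, h2, h3⟩ := wr_mat (bcEquiv (finProdFinEquiv (m := d) (n := k))) (A := G d) (B := G (d * k))
    (fun t ht => (h _ _).2 fun hb => h0 _ (un_bd fun j => (h _ _).1 (ht j) hb))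
    (fun π => (h _ _).2 fun hb => h0 _ (un_perm _)) x
  rw [Fintype.card_fin] at h3
  refine ⟨d * k, c', T.dec _ _, Nat.mul_div_cancel_left k hd, ?_, y, h2, ?_, h3⟩
  · show c' / d + k = (d * k + c') / d
    rw [Nat.mul_add_div hd, add_comm]
  · show EE y ⊆ EE x
    rw [EE, h1]
    exact sp_bd _ _ _

include T

theorem det_eq (hl : l.Prime) (h : ¬ (l : ℤ) ∣ Q - 1) {x : G n} (hx : x ^ l = 1) :
    GeneralLinearGroup.det (x : GL (Fin n) F) = 1 :=
  (pow_eq_one_iff_of_coprime (hl.coprime_iff_not_dvd.2 fun h1 => h (Int.natCast_dvd.2 h1))).1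
    ⟨by rw [← _root_.map_pow, ← coe_pow, hx, coe_one, map_one], pow_natAbs_eq_one.2 (T.det n x)⟩

theorem dvd_ix (hl : l.Prime) (hr : l ≠ r) (h : (l : ℤ) ∣ Q - 1) (a b : ℕ) : l ∣ T.ix a b ↔ l ∣ (a + b).choose a := by
  obtain ⟨g, h1, h2⟩ := gauss Q a b
  have h3 : Nat.card (G (a + b)) = Nat.card (G a) * Nat.card (G b) * T.ix a b := card_idx (S := T.sys) (T.dec a b)
  obtain ⟨i, hi⟩ := T.ord a
  obtain ⟨j, hj⟩ := T.ord b
  obtain ⟨k, hk⟩ := T.ord (a + b)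
  have h0 : ∀ n, (PP Q n).natAbs ≠ 0 := fun n =>
    Int.natAbs_ne_zero.2 (Finset.prod_ne_zero_iff.2 fun i _ => sub_ne_zero.2 (T.ne _ i.succ_ne_zero))
  rw [hi, hj, hk, ← h1, Int.natAbs_mul, Int.natAbs_mul] at h3
  have h4 : r ^ k * g.natAbs = r ^ (i + j) * T.ix a b :=
    Nat.eq_of_mul_eq_mul_left (Nat.pos_of_ne_zero (mul_ne_zero (h0 a) (h0 b))) (by rw [pow_add]; linear_combination h3)
  have h5 : ∀ k, l.Coprime (r ^ k) := fun k => ((Nat.coprime_primes hl Fact.out).2 hr).pow_right k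
  rw [← (h5 (i + j)).dvd_mul_left, ← h4, (h5 k).dvd_mul_left, ← Int.natCast_dvd, (h2.of_dvd h).dvd_iff,
    Int.natCast_dvd_natCast]

/-- scalars of order `l` -/
theorem exists_sc (hl : l.Prime) (h : (l : ℤ) ∣ Q - 1) : ∃ s : ∀ n, ℤ → G n, (∀ n i, s n i ^ l = 1) ∧
    (∀ n i, cls (s n i) = 1) ∧ (∀ a b i j, ¬ (l : ℤ) ∣ i - j → Disjoint (EE (s a i)) (EE (s b j))) ∧
    (∀ a i, ¬ (l : ℤ) ∣ i → 1 ∉ EE (s a i)) ∧
    ∃ ζ : Fˣ, ζ ^ l = 1 ∧ ∀ n i, GeneralLinearGroup.det (s n i : GL (Fin n) F) = ζ ^ (i * n) := by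
  have := Fact.mk hl
  obtain ⟨b, σ, hb⟩ := T.un
  obtain ⟨k, hk⟩ := T.ord 1
  obtain ⟨x, hx⟩ := exists_prime_orderOf_dvd_card' (G := G 1) l (hk ▸ (Int.natCast_dvd.1 (by simpa [PP] using h)).mul_left _)
  set ζ := GeneralLinearGroup.det (x : GL (Fin 1) F)
  have h1 : ((x : GL (Fin 1) F) : Matrix (Fin 1) (Fin 1) F) = scalar (Fin 1) (ζ : F) := by
    ext i j
    rw [Subsingleton.elim i 0, Subsingleton.elim j 0]
    exact (det_fin_one _).symm
  have h2 : b → (ζ : F) * σ ζ = 1 := fun h2 => by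
    have h3 := congrArg Matrix.det ((hb 1 x).1 x.2 h2)
    rwa [det_mul, det_transpose, ← σ.mapMatrix_apply, ← σ.map_det, det_one] at h3
  have h3 : orderOf ζ = l := by
    rw [← hx, ← orderOf_coe x, show (x : GL (Fin 1) F) = GeneralLinearGroup.scalar (Fin 1) ζ from Units.ext h1]
    exact (orderOf_injective _ (fun a b h => Units.ext (scalar_inj.1 (congrArg Units.val h))) ζ).symm
  have h4 : ζ ^ l = 1 := orderOf_dvd_iff_pow_eq_one.1 h3.dvd
  let s : ∀ n, ℤ → G n := fun n i => ⟨GeneralLinearGroup.scalar (Fin n) (ζ ^ i), by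
    rw [map_zpow]
    exact zpow_mem ((hb _ _).2 fun h4 => un_scalar (h2 h4)) i⟩
  have h5 : ∀ a i, EE (s a i) ⊆ {algebraMap F (AlgebraicClosure F) (ζ ^ i : Fˣ)} := fun a i => sp_scalar _ _
  have h6 : ∀ i j : ℤ, algebraMap F (AlgebraicClosure F) (ζ ^ i : Fˣ) = algebraMap F _ (ζ ^ j : Fˣ) → (l : ℤ) ∣ i - j :=
    fun i j e => by
      rw [← h3, orderOf_dvd_sub_iff_zpow_eq_zpow]
      exact Units.ext ((algebraMap F _).injective e)
  refine ⟨s, fun n i => Subtype.ext ?_, fun n i => cls_of_cen fun g => Subtype.ext (Units.ext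
    (scalar_commute _ (fun _ => Commute.all _ _) _).symm), fun a b i j h7 => Set.disjoint_left.2 fun z h8 h9 =>
    h7 (h6 _ _ ((h5 a i h8).symm.trans (h5 b j h9))), fun a i h7 h8 => h7 ?_, ζ, h4, fun n i => Units.ext ?_⟩
  · show GeneralLinearGroup.scalar (Fin n) (ζ ^ i) ^ l = 1
    rw [← _root_.map_pow, ← zpow_natCast, ← _root_.zpow_mul, mul_comm, _root_.zpow_mul, zpow_natCast, h4, _root_.one_zpow,
      map_one]
  · rw [← sub_zero i]
    exact h6 _ _ ((h5 a i h8).symm.trans (by rw [zpow_zero, Units.val_one, map_one]))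
  · show (scalar (Fin n) ((ζ ^ i : Fˣ) : F)).det = _
    rw [scalar_apply, det_diagonal, Finset.prod_const, Finset.card_univ, Fintype.card_fin, _root_.zpow_mul, zpow_natCast,
      Units.val_pow_eq_pow_val]

theorem two (hl : l.Prime) (hr : l ≠ r) (h : (l : ℤ) ∣ Q - 1) (hm : m.Prime) (hr' : m ≠ r) (h' : (m : ℤ) ∣ Q - 1) {k : ℕ}
    (hk : k ≤ n) (h1 : ¬ l ∣ n.choose k) (h2 : m ∣ n.choose k) :
    ∃ x : G n, GeneralLinearGroup.det (x : GL (Fin n) F) = 1 ∧ Wt l m x := by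
  obtain ⟨b, rfl⟩ := Nat.exists_eq_add_of_le hk
  obtain ⟨s, h3, h4, h5, -, ζ, h6, h7⟩ := T.exists_sc hl h
  obtain ⟨i, j, h8, u, h9⟩ : ∃ i j : ℤ, ¬ (l : ℤ) ∣ i - j ∧ (l : ℤ) ∣ i * k + j * b := by
    by_cases h8 : l ∣ k + b
    · refine ⟨1, 0, fun h => hl.not_dvd_one (by rw [sub_zero] at h; exact_mod_cast h), ?_⟩
      rw [one_mul, zero_mul, add_zero, Int.natCast_dvd_natCast]
      rcases k with _ | k
      · exact dvd_zero l
      · refine (hl.dvd_mul.1 ?_).resolve_left h1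
        rw [add_right_comm] at h8 ⊢
        rw [← Nat.add_one_mul_choose_eq]
        exact h8.mul_right _
    · exact ⟨b, -k, fun h => h8 (by rw [sub_neg_eq_add, add_comm] at h; exact_mod_cast h), 0, by ring⟩
  have h10 := T.cls_bb (h5 k b i j h8)
  rw [h4, h4, mul_one, mul_one] at h10
  refine ⟨_, ?_, T.bb_pow (h3 k i) (h3 b j), fun h11 => h1 ((T.dvd_ix hl hr h k b).1 (h10 ▸ h11)),
    h10 ▸ (T.dvd_ix hm hr' h' k b).2 h2⟩
  rw [T.det_bb, h7, h7, ← _root_.zpow_add, h9, _root_.zpow_mul, zpow_natCast, h6, _root_.one_zpow]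

theorem thr (hl : l.Prime) (hr : l ≠ r) (h : (l : ℤ) ∣ Q - 1) (hm : m.Prime) (hr' : m ≠ r) (h' : (m : ℤ) ∣ Q - 1)
    (hk : m ≤ n % l) : ∃ x : G n, GeneralLinearGroup.det (x : GL (Fin n) F) = 1 ∧ Wt l m x := by
  obtain ⟨h1, h2, h11⟩ := three hm hl hk
  have h0 := Nat.mod_lt n hl.pos
  have h12 := hm.two_le
  obtain ⟨a, rfl⟩ : ∃ a, m = a + 1 := ⟨m - 1, by omega⟩
  obtain ⟨b, rfl⟩ : ∃ b, n = a + (1 + b) := ⟨n - (a + 1), by have := Nat.mod_le n l; omega⟩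
  rw [Nat.add_sub_cancel] at h1 h2 h11
  rw [Nat.add_sub_cancel_left] at h2 h11
  obtain ⟨s, h3, h4, h5, -, ζ, -, h7⟩ := T.exists_sc hl h
  have h8 : ∀ i : ℕ, 0 < i → i < l → ¬ (l : ℤ) ∣ i := fun i h1 h2 h => by
    have := Nat.le_of_dvd h1 (Int.natCast_dvd_natCast.1 h)
    omega
  have h9 := T.cls_bb (h5 1 b (-a) 0 (by
    rw [sub_zero, Int.dvd_neg]
    exact h8 a (by omega) (by omega)))
  have h10 := T.cls_bb (x := s a 1) (y := T.bb 1 b (s 1 (-a), s b 0)) (by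
    rw [T.EE_bb, Set.disjoint_union_right]
    exact ⟨h5 _ _ _ _ (by simpa [add_comm] using h8 (a + 1) (by omega) (by omega)),
      h5 _ _ _ _ (by simpa using h8 1 (by omega) (by omega))⟩)
  rw [h9, h4, h4, h4, mul_one, mul_one, one_mul] at h10
  refine ⟨_, ?_, T.bb_pow (h3 a 1) (T.bb_pow (h3 1 (-a)) (h3 b 0)), fun h13 => ?_, ?_⟩
  · rw [T.det_bb, T.det_bb, h7, h7, h7]
    simp
  · rw [h10, hl.dvd_mul, T.dvd_ix hl hr h, T.dvd_ix hl hr h] at h13
    exact h13.elim h1 h2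
  · rw [h10, hm.dvd_mul, T.dvd_ix hm hr' h', T.dvd_ix hm hr' h']
    exact h11

theorem M_one (hl : l.Prime) : T.sys.M l = (1 : ℕ) ↔ (l : ℤ) ∣ Q - 1 := by
  have := Fact.mk hl
  have h := H749.dvd_pow_sub_one_iff (p := l) (x := Q) 1
  rw [pow_one, Nat.dvd_one] at h
  exact h.symm

/-- **the witnesses** -/
theorem main {p q : ℕ} (hp : p.Prime) (hq : q.Prime) (hpq : p < q) (hr : p ≠ r) (hr' : q ≠ r) (hn : 2 ≤ n)
    (dp : p ∣ Nat.card (G n)) (dq : q ∣ Nat.card (G n)) :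
    (∃ A : Subgroup (G n), (∀ x ∈ A, ∀ y ∈ A, x * y = y * x) ∧ ¬ p ∣ A.index ∧ ¬ q ∣ A.index) ∨
      ∃ x : G n, GeneralLinearGroup.det (x : GL (Fin n) F) = 1 ∧ (Wt p q x ∨ Wt q p x) := by
  have gq : Sys.Good r q := ⟨hq, by have := hp.two_le; omega, hr'⟩
  have h0 := dim_pos (S := T.sys) gq
  by_cases h1 : (p : ℤ) ∣ Q - 1 ∧ (q : ℤ) ∣ Q - 1
  · by_cases h2 : n < p
    · obtain ⟨A, h3, h4⟩ := gamma (S := T.sys) (m := (1 : ℕ)) ⊤ (fun x _ y _ => Subtype.ext (Units.ext (Matrix.ext fun i j => by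
        rw [Subsingleton.elim i 0, Subsingleton.elim j 0]
        exact ((mul_apply.trans (Fin.sum_univ_one _)).trans (mul_comm _ _)).trans (mul_apply.trans (Fin.sum_univ_one _)).symm)))
        n {p, q} (by
          rintro s (rfl | rfl)
          exacts [⟨⟨hp, by omega, hr⟩, (T.M_one hp).2 h1.1, (Nat.div_one n).trans_lt h2,
              fun h => hp.not_dvd_one (h.trans (index_top (G := G 1)).dvd)⟩,
            ⟨gq, (T.M_one hq).2 h1.2, (Nat.div_one n).trans_lt (h2.trans hpq),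
              fun h => hq.not_dvd_one (h.trans (index_top (G := G 1)).dvd)⟩]) ⟨p, .inl rfl⟩
      exact .inl ⟨A, h3, h4 p (.inl rfl), h4 q (.inr rfl)⟩
    refine .inr ?_
    by_cases h3 : n % q < p
    · obtain ⟨k, hk, h4 | h4⟩ := lucas2 hp hq hpq (not_lt.1 h2) h3
      · exact (T.two hp hr h1.1 hq hr' h1.2 hk h4.1 h4.2).imp fun x hx => ⟨hx.1, .inl hx.2⟩
      · exact (T.two hq hr' h1.2 hp hr h1.1 hk h4.1 h4.2).imp fun x hx => ⟨hx.1, .inr hx.2⟩
    · exact (T.thr hq hr' h1.2 hp hr h1.1 (not_lt.1 h3)).imp fun x hx => ⟨hx.1, .inr hx.2⟩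
  by_cases h2 : p = 2
  · subst h2
    have h2 : ((2 : ℕ) : ℤ) ∣ Q - 1 := by
      have := T.nd 2 hp hr
      omega
    have h3 : ¬ (q : ℤ) ∣ Q - 1 := fun h => h1 ⟨h2, h⟩
    have h4 : 1 < T.sys.dim (T.sys.M q) := lt_of_le_of_ne h0 fun e => h3 ((T.M_one hq).1 ((T.dim_eq _).symm.trans e.symm))
    obtain ⟨x, h5, h6, h7⟩ := exists_cen hq dq
    obtain ⟨s, h8, -, -, h9, -⟩ := T.exists_sc hp h2
    refine .inr ⟨x, T.det_eq hq h3 h6, .inr ⟨h6, h7, by_contra fun h10 => h5 ?_⟩⟩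
    refine alpha' (S := T.sys) hp (h8 1 1) (h9 1 1 (by decide)) (eq_one_of_dim_lt gq ((T.dim_eq 1).trans_lt h4)) id
      (fun (c : ℕ) (hc : c ≠ 0) => ?_) (fun (c : ℕ) (hc : c = 0) => eq_one_of_dim_lt gq
        (((T.dim_eq c).trans hc).trans_lt h0)) n x h6 h10
    obtain ⟨c', rfl⟩ := Nat.exists_eq_add_of_le (Nat.pos_of_ne_zero hc)
    exact ⟨c', T.dec 1 c', Nat.lt_one_add_iff.2 le_rfl⟩
  have gp : Sys.Good r p := ⟨hp, h2, hr⟩
  have h3 := dim_pos (S := T.sys) gp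
  have h4 : ∀ {l}, l.Prime → 1 < T.sys.dim (T.sys.M l) → ¬ (l : ℤ) ∣ Q - 1 := fun hl h4 h5 =>
    h4.ne' (by rw [(T.M_one hl).2 h5]; exact T.dim_eq 1)
  rcases lt_trichotomy (T.sys.dim (T.sys.M p)) (T.sys.dim (T.sys.M q)) with h5 | h5 | h5
  · obtain ⟨x, hx⟩ := wt_of_lt gp gq h5 n dq
    exact .inr ⟨x, T.det_eq hq (h4 hq (by omega)) hx.1, .inr hx⟩
  · have h6 : T.sys.M p = T.sys.M q := (T.dim_eq _).symm.trans (h5.trans (T.dim_eq _))
    have h7 : 1 < T.sys.dim (T.sys.M q) := lt_of_le_of_ne h0 fun e => by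
      have h8 : T.sys.M q = (1 : ℕ) := (T.dim_eq _).symm.trans e.symm
      exact h1 ⟨(T.M_one hp).1 (h6.trans h8), (T.M_one hq).1 h8⟩
    rcases same gp gq hpq h6 (T.wr (h0.trans_eq (T.dim_eq _))) n ((dvd_iff gq).1 dq) with h8 | ⟨x, hx⟩ | ⟨x, hx⟩
    exacts [.inl h8, .inr ⟨x, T.det_eq hp (h4 hp (by omega)) hx.1, .inl hx⟩, .inr ⟨x, T.det_eq hq (h4 hq h7) hx.1, .inr hx⟩]
  · obtain ⟨x, hx⟩ := wt_of_lt gq gp h5 n dp
    exact .inr ⟨x, T.det_eq hp (h4 hp (by omega)) hx.1, .inl hx⟩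

end TA

variable [Fintype F] (r : ℕ) [Fact r.Prime] [CharP F r]

theorem taL : TA r (Fintype.card F : ℤ) fun n => (⊤ : Subgroup (GL (Fin n) F)) := by
  obtain ⟨k, hr, hk⟩ := FiniteField.card F r
  have hF1 : 1 < Fintype.card F := Fintype.one_lt_card
  refine ⟨⟨False, RingHom.id F, fun _ _ => ⟨fun _ => False.elim, fun _ => trivial⟩⟩, fun i hi h => ?_, fun s hs hsr hd => ?_,
    fun a b => ⟨bcEquiv finSumFinEquiv, fun x y => ⟨fun _ => mem_top _, fun _ => ⟨mem_top _, mem_top _⟩⟩⟩, ?_,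
    fun n => ⟨k * ∑ i ∈ Finset.range n, i, ?_⟩, fun n x => ?_⟩
  · exact (Nat.one_lt_pow hi hF1).ne' (by exact_mod_cast h)
  · rw [Int.natCast_dvd_natCast, hk] at hd
    exact hsr ((Nat.prime_dvd_prime_iff_eq hs hr).1 (hs.dvd_of_dvd_pow hd))
  · rintro n x z hz c (rfl : c = _)
    rw [zpow_natCast]
    exact sp_frob _ hz
  · rw [card_top, card_GL_field, Fin.prod_univ_eq_prod_range (fun i => Fintype.card F ^ n - Fintype.card F ^ i),
      KZ.Dat.prod_gl, pow_mul, ← hk, PP, ← Int.natAbsHom_apply, map_prod]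
    simp only [Int.natAbsHom_apply, KZ.Dat.abs_L (Fintype.card_pos (α := F))]
  · rw [← Nat.cast_one, ← Nat.cast_sub hF1.le, zpow_natCast, ← Nat.card_eq_fintype_card, ← Nat.card_units]
    exact pow_card_eq_one'

theorem taU {q : ℕ} (hF : Fintype.card F = q ^ 2) : TA r (-(q : ℤ)) fun n => GU n F q := by
  have hq := GUOrder.two_le hF
  obtain ⟨k, hk⟩ := exists_pow hF r
  refine ⟨⟨True, GUOrder.frob hF, fun _ g => (mem_iff hF g).trans ⟨fun h _ => h, fun h => h trivial⟩⟩, fun i hi h => ?_,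
    fun s hs hsr hd => ?_, dec hF, closure_exp hF r, fun n => ⟨k * (n * (n - 1) / 2), ?_⟩, fun n x => ?_⟩
  · have h1 := congrArg Int.natAbs h
    rw [Int.natAbs_pow, Int.natAbs_neg, Int.natAbs_natCast, Int.natAbs_one] at h1
    exact (Nat.one_lt_pow hi (by omega)).ne' h1
  · rw [Int.dvd_neg, Int.natCast_dvd_natCast, hk] at hd
    exact hsr ((Nat.prime_dvd_prime_iff_eq hs Fact.out).1 (hs.dvd_of_dvd_pow hd))
  · rw [S0277.result hF n, natAbs_prod q hq n, hk, ← pow_mul]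
    rfl
  · rw [← neg_add', _root_.zpow_neg, inv_eq_one, ← Nat.cast_succ, zpow_natCast]
    rcases Nat.eq_zero_or_pos n with rfl | hn
    · rw [show GeneralLinearGroup.det (x : GL (Fin 0) F) = 1 from Units.ext det_isEmpty, one_pow]
    · exact (GUOrder.range_detGU hF hn).le ⟨x, rfl⟩

end Cfsg.Agent.PQ.SS.RA
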