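import Cfsg.Agent.PQ.SS.A
import Cfsg.Agent.PQ.SS.ATy
import Cfsg.Agent.PQ.SS.Fm

/-!
# PQ/SS, row A (helper76): `Crs ClA`
-/

set_option autoImplicit false
set_option linter.unusedSectionVars false

namespace Cfsg.Agent.PQ.SS.RA

open Cfsg Cfsg.Agent.DL Cfsg.Agent.DL.PP Cfsg.Agent.KZ.Lie Cfsg.Agent.KZ.Dat Cfsg.Agent.LV.Blk Matrix
  Cfsg.Agent.ODD.C2 Cfsg.Agent.ODD.C2.GlA Cfsg.Agent.Nodes.RootsA

section gen

variable {a b : ℕ} {X Z : Type*} [Group X] [Group Z]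

/-- an abelian subgroup of index prime to `a` and `b` -/
def Ab (a b : ℕ) (X : Type*) [Group X] : Prop :=
  ∃ A : Subgroup X, (∀ x ∈ A, ∀ y ∈ A, x * y = y * x) ∧ ¬ a ∣ A.index ∧ ¬ b ∣ A.index

theorem Ab.map (h : Ab a b X) (f : X →* Z) (hf : Function.Surjective f) : Ab a b Z := by
  obtain ⟨A, h1, h2, h3⟩ := h
  refine ⟨A.map f, ?_, fun h => h2 (h.trans (A.index_map_dvd hf)), fun h => h3 (h.trans (A.index_map_dvd hf))⟩
  rintro _ ⟨x, hx, rfl⟩ _ ⟨y, hy, rfl⟩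
  rw [← map_mul, h1 x hx y hy, map_mul]

theorem Ab.sub [Finite X] (h : Ab a b X) (K : Subgroup X) [K.Normal] : Ab a b K :=
  let ⟨A, h1, h2, h3⟩ := h
  ⟨A.subgroupOf K, fun x hx y hy => Subtype.ext (h1 x hx y hy), fun h => h2 (h.trans (relIndex_dvd_index A K)),
    fun h => h3 (h.trans (relIndex_dvd_index A K))⟩

theorem Ab.com [Finite X] (h : Ab a b X) (ha : a.Prime) (hb : b.Prime) : Com a b X := by
  have := Fact.mk ha
  have := Fact.mk hb
  obtain ⟨A, h1, h2, h3⟩ := h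
  obtain ⟨P, hP⟩ := H573.exists_sylow_le_of_index A h2
  obtain ⟨Q, hQ⟩ := H573.exists_sylow_le_of_index A h3
  exact ⟨P, Q, fun x hx y hy => h1 x (hP hx) y (hQ hy)⟩

theorem Wt.map {x : X} (h : Wt a b x) (e : X ≃* Z) : Wt a b (e x) := by
  have h1 : cls (e x) = cls x := Nat.dvd_antisymm (cls_map_dvd e.toMonoidHom e.surjective x)
    (by simpa using cls_map_dvd e.symm.toMonoidHom e.symm.surjective (e x))
  exact ⟨by rw [← map_pow, h.1, map_one], h1 ▸ h.2.1, h1 ▸ h.2.2⟩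

end gen

section

variable {p : ℕ} [Fact p.Prime] {k : Type} [Field k] [CharP k p] {Y : Type} [Group Y] {N : Type} [Fintype N]
  [DecidableEq N] {ρ : Y →* GL N k} {F : MulAut Y} {G : Subgroup Y} [IsAlgClosed k] {D : Datum p ρ F G}
  {Adm : Matrix D.R D.R ℤ → Prop} {S : Type} [Group S] [Fintype ↥(GF F G)] {l m : ℕ}

/-- a witness in `G ^ F` gives a member of the principal block -/
theorem nw_of_wt (hC : BoxCore) (f : Fr D) (s : Sit D Adm S) {B : Matrix D.R D.R ℤ} (hl : l.Prime) (hp : l ≠ p)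
    (hm : m.Prime) (hml : m ≠ l) (hmp : m ≠ p) (h1 : Dual D l B) (h2 : CZl D l) (h3 : Good D l) (h4 : Ker f s l B)
    {x : ↥(GF F G)} (hx : (x : Y) ∈ s.H0) (h : Wt l m x) : NW l m S := NW.of_left fun M hM => by
  have h5 : IsL l x := ⟨1, by rw [pow_one, h.1]⟩
  obtain ⟨n, hn, h6⟩ := boxForm D hl hp h3 x x.2 ⟨1, by rw [pow_one]; exact congrArg Subtype.val h.1⟩
  obtain ⟨ψ, h7, i, j, h8, -⟩ := hC f s hl hp hM h1 h2 h4 (x ^ n) (pow_mem hx n) h6
  rw [cls_pow hl hn h5] at h8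
  refine ⟨ψ, h7, fun h9 => h.2.1 (h8 ▸ h9.mul_right _), (hm.dvd_mul.1 (h8 ▸ h.2.2)).resolve_right fun h9 => ?_⟩
  exact (hm.dvd_mul.1 h9).elim (fun h10 => hml ((Nat.prime_dvd_prime_iff_eq hm hl).1 (hm.dvd_of_dvd_pow h10)))
    fun h10 => hmp ((Nat.prime_dvd_prime_iff_eq hm Fact.out).1 (hm.dvd_of_dvd_pow h10))

theorem AL.crs (hC : BoxCore) {s : Sit D Adm S} {Q : ℤ} (L : AL s Q) {X : Type} [Group X] (e : X ≃* ↥(GF F G))
    (hl : l.Prime) (hm : m.Prime) (hlm : l ≠ m) (hp : l ≠ p) (hp' : m ≠ p)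
    (h : l ∣ Nat.card X → m ∣ Nat.card X → Ab l m X ∨ ∃ x : X, (e x : Y) ∈ s.H0 ∧ (Wt l m x ∨ Wt m l x))
    (h1 : l ∣ Nat.card S) (h2 : m ∣ Nat.card S) (h3 : ¬ Com l m S) : NW l m S := by
  have := s.normal
  have : Finite S := Finite.of_surjective _ s.π1_surj
  obtain ⟨f⟩ := nonempty_fr D
  have h4 : Nat.card S ∣ Nat.card X := (Subgroup.card_dvd_of_surjective _ s.π1_surj).trans
    ((Subgroup.card_subgroup_dvd_card _).trans (Nat.card_congr e.toEquiv).symm.dvd)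
  rcases h (h1.trans h4) (h2.trans h4) with h5 | ⟨x, hx, h5 | h5⟩
  · exact absurd ((((h5.map e.toMonoidHom e.surjective).sub s.H1).map _ s.π1_surj).com hl hm) h3
  · exact nw_of_wt hC f s hl hp hm hlm.symm hp' (L.dual hl) (L.czl hl) (L.good hl) (L.ker f) hx (h5.map e)
  · exact (nw_of_wt hC f s hm hp' hl hlm hp (L.dual hm) (L.czl hm) (L.good hm) (L.ker f) hx (h5.map e)).symm

end

attribute [local instance] finite_WA

/-- **cross characteristic, linear and unitary groups** -/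
theorem _root_.Cfsg.Agent.PQ.SS.crsA_of (hC : BoxCore) : Crs ClA := by
  rintro r l m S _ _ - - - hl hm hlm hr hr' (⟨F, _, _, _, n, h1, h2, ⟨i⟩⟩ | ⟨F, _, _, _, n, q, hF, h1, h2, ⟨i⟩⟩)
  · obtain ⟨n, rfl⟩ : ∃ n', n = n' + 1 := ⟨n - 1, by omega⟩
    obtain ⟨p, _, e, k, _, _, _, f, hk, he, hF⟩ := hasL F
    obtain rfl : r = p := char_eq f
    have := (datL n hk he).amb.finite_GF (GA n k)
    have := Fintype.ofFinite (GF (1 * frP _ r k e) (GA n k))
    refine (alL hk he f hF (by omega) (fun h => h2 (by omega)) i.symm).crs hC (Subgroup.topEquiv.trans (eqvL f hF)) hl hm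
      hlm.ne hr hr' fun h3 h4 => ((taL r).main hl hm hlm hr hr' h1 h3 h4).imp_right fun ⟨x, h5, h6⟩ => ⟨x, ?_, h6⟩
    exact (mem_ιL f hF _).2 ⟨Subtype.prop _, (det_glmap f x.1).trans (by rw [h5, map_one])⟩
  · obtain ⟨n, rfl⟩ : ∃ n', n = n' + 1 := ⟨n - 1, by omega⟩
    obtain ⟨p, _, e, k, _, _, _, f, hk, he, rfl⟩ := hasU F hF
    obtain rfl : r = p := char_eq f
    have := (datU n hk he).amb.finite_GF (GA n k)
    have := Fintype.ofFinite (GF (γA n k * frP _ r k e) (GA n k))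
    refine (alU hk he f hF (by omega) (fun h => h2 ⟨by omega, h.2⟩) i.symm).crs hC (eqvU f hk he hF) hl hm
      hlm.ne hr hr' fun h3 h4 => ((taU r hF).main hl hm hlm hr hr' (by omega) h3 h4).imp_right fun ⟨x, h5, h6⟩ => ⟨x, ?_, h6⟩
    refine (mem_ιU f hk he hF _).2 ⟨Subtype.prop _, ?_⟩
    show GeneralLinearGroup.det (lz n hk he * GeneralLinearGroup.map f x * (lz n hk he)⁻¹) = 1
    rw [map_mul, map_mul, map_inv, mul_inv_cancel_comm, det_glmap, h5, map_one]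

end Cfsg.Agent.PQ.SS.RA
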