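import Cfsg.Agent.PQ.SS.BWr
import Cfsg.Agent.ClassicalGeometry.SymmNormalForm

/-!
# PQ/SS, classical groups (helper35): the prime two

In odd characteristic no element of odd prime order centralises a Sylow `2`-subgroup of `Sp` or `Ω`: `pa_sp`, `pa_om`.
-/

set_option autoImplicit false
set_option linter.unusedSectionVars false

namespace Cfsg.Agent.PQ.SS.RB

open Cfsg Cfsg.Agent.H17.CR Subgroup Equiv
open scoped commutatorElement

theorem eq_one_of_sq {G : Type} [Group G] {q : ℕ} (hq : Odd q) {z : G} (h1 : z ^ q = 1) (h2 : z ^ 2 = 1) : z = 1 := by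
  obtain ⟨k, rfl⟩ := hq
  rwa [pow_succ, pow_mul, h2, one_pow, one_mul] at h1

/-- the elements which centralise or invert `i` -/
def nz {G : Type} [Group G] (i : G) : Subgroup G where
  carrier := {g | g * i * g⁻¹ = i ∨ g * i * g⁻¹ = i⁻¹}
  one_mem' := .inl (by rw [one_mul, inv_one, mul_one])
  mul_mem' := by
    intro a b ha hb
    have h : ∀ x : G, a * b * x * (a * b)⁻¹ = a * (b * x * b⁻¹) * a⁻¹ := fun x => by group
    have h' : a * i⁻¹ * a⁻¹ = (a * i * a⁻¹)⁻¹ := by group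
    show _ ∨ _
    rw [h]
    rcases hb with hb | hb <;> rw [hb]
    · exact ha
    · rw [h']
      rcases ha with ha | ha <;> rw [ha]
      exacts [.inr rfl, .inl (inv_inv i)]
  inv_mem' := by
    intro a ha
    rcases ha with ha | ha
    · exact .inl (by conv_lhs => rw [← ha]
                     group)
    · exact .inr (by conv_lhs => rw [← inv_inv i, ← ha]
                     group)

theorem nz_sq {G : Type} [Group G] {i g : G} (h : g ∈ nz i) : g ^ 2 * i = i * g ^ 2 := by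
  have h1 : g ^ 2 * i = g * (g * i * g⁻¹) * g⁻¹ * g ^ 2 := by
    simp only [pow_two, mul_assoc, inv_mul_cancel_left, inv_mul_cancel, mul_one]
  have h2 : g * i⁻¹ * g⁻¹ = (g * i * g⁻¹)⁻¹ := by group
  rcases h with h | h
  · rw [h1, h, h]
  · rw [h1, h, h2, h, inv_inv]

variable {F : Type} [Field F] [Fintype F] {X Y : Spc F} {q : ℕ}

theorem pa_prod {A : Subgroup X.G} (hA : IsPGroup 2 A) {a : X.G} (ha : a ∈ A) (hfix : ∀ u, a.1 u = u → u = 0)
    (h0 : ∀ z : X.G, z ^ q = 1 → (∀ a ∈ A, a * z = z * a) → z = 1) (h : PA 2 q Y.G) : PA 2 q (X.prod Y).G := by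
  obtain ⟨B, hB, h1⟩ := h
  refine ⟨(A.prod B).map (emb X Y), IsPGroup.map ?_ _, fun z hz hc => ?_⟩
  · rintro ⟨⟨x, y⟩, hx, hy⟩
    obtain ⟨k, hk⟩ := hA ⟨x, hx⟩
    obtain ⟨l, hl⟩ := hB ⟨y, hy⟩
    refine ⟨k + l, Subtype.ext (Prod.ext ?_ ?_)⟩
    · show x ^ 2 ^ (k + l) = 1
      rw [pow_add, pow_mul, show x ^ 2 ^ k = 1 from congrArg Subtype.val hk, one_pow]
    · show y ^ 2 ^ (k + l) = 1
      rw [pow_add, mul_comm, pow_mul, show y ^ 2 ^ l = 1 from congrArg Subtype.val hl, one_pow]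
  · obtain ⟨x, y, rfl, -, -⟩ := exists_of_comm (NI.one_right hfix : NI a.1 (1 : Y.G).1) (NI.one_left hfix)
      (hc (emb X Y (a, 1)) ⟨(a, 1), ⟨ha, one_mem B⟩, rfl⟩).symm
    have h3 : (x, y) ^ q = 1 := emb_injective (by rw [map_pow, map_one, hz])
    have h4 : ∀ w ∈ A.prod B, w * (x, y) = (x, y) * w := fun w hw =>
      emb_injective (by rw [map_mul, map_mul]; exact hc _ ⟨w, hw, rfl⟩)
    rw [h0 x (congrArg Prod.fst h3) fun b hb => congrArg Prod.fst (h4 (b, 1) ⟨hb, one_mem _⟩),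
      h1 y (congrArg Prod.snd h3) fun b hb => congrArg Prod.snd (h4 (1, b) ⟨one_mem _, hb⟩)]
    rfl

/-- the symplectic plane -/
abbrev sp1 (F : Type) [Field F] [Fintype F] : Spc F where
  V := F × F
  f u v := u.1 * v.2 - u.2 * v.1

theorem isSp_sp1 : IsSp 1 (sp1 F) := by
  refine ⟨LinearMap.mk₂ F (fun u v : F × F => u.1 * v.2 - u.2 * v.1) (fun _ _ _ => ?_) (fun _ _ _ => ?_)
    (fun _ _ _ => ?_) (fun _ _ _ => ?_), fun _ _ => rfl, fun u => ?_, fun u hu => Prod.ext ?_ ?_, ?_⟩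
  · simp only [Prod.fst_add, Prod.snd_add]
    ring
  · simp only [Prod.smul_fst, Prod.smul_snd, smul_eq_mul]
    ring
  · simp only [Prod.fst_add, Prod.snd_add]
    ring
  · simp only [Prod.smul_fst, Prod.smul_snd, smul_eq_mul]
    ring
  · show u.1 * u.2 - u.2 * u.1 = 0
    ring
  · have h : u.1 * 1 - u.2 * 0 = 0 := hu (0, 1)
    show u.1 = 0
    linear_combination h
  · have h : u.1 * 0 - u.2 * 1 = 0 := hu (1, 0)
    show u.2 = 0
    linear_combination -h
  · show Module.finrank F (F × F) = 2 * 1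
    rw [Module.finrank_prod, Module.finrank_self]

/-- a matrix of determinant one -/
def m2 (a b c d : F) (h : a * d - b * c = 1) : (sp1 F).G :=
  ⟨{ toFun := fun u => (a * u.1 + b * u.2, c * u.1 + d * u.2)
     invFun := fun u => (d * u.1 - b * u.2, a * u.2 - c * u.1)
     map_add' := fun u v => Prod.ext (show a * (u.1 + v.1) + b * (u.2 + v.2) = a * u.1 + b * u.2 + (a * v.1 + b * v.2) by ring)
       (show c * (u.1 + v.1) + d * (u.2 + v.2) = c * u.1 + d * u.2 + (c * v.1 + d * v.2) by ring)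
     map_smul' := fun t u => Prod.ext (show a * (t * u.1) + b * (t * u.2) = t * (a * u.1 + b * u.2) by ring)
       (show c * (t * u.1) + d * (t * u.2) = t * (c * u.1 + d * u.2) by ring)
     left_inv := fun u => Prod.ext
       (show d * (a * u.1 + b * u.2) - b * (c * u.1 + d * u.2) = u.1 by linear_combination u.1 * h)
       (show a * (c * u.1 + d * u.2) - c * (a * u.1 + b * u.2) = u.2 by linear_combination u.2 * h)
     right_inv := fun u => Prod.ext
       (show a * (d * u.1 - b * u.2) + b * (a * u.2 - c * u.1) = u.1 by linear_combination u.1 * h)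
       (show c * (d * u.1 - b * u.2) + d * (a * u.2 - c * u.1) = u.2 by linear_combination u.2 * h) },
    fun u v => show (a * u.1 + b * u.2) * (c * v.1 + d * v.2) - (c * u.1 + d * u.2) * (a * v.1 + b * v.2) =
      u.1 * v.2 - u.2 * v.1 by linear_combination (u.1 * v.2 - u.2 * v.1) * h⟩

theorem sq_one (h2 : (2 : F) ≠ 0) {a b : F} (h : a * -a - b * b = 1) (h' : (0 : F) * 0 - -1 * 1 = 1) (z : (sp1 F).G)
    (hi : z * m2 0 (-1) 1 0 h' = m2 0 (-1) 1 0 h' * z) (hj : z * m2 a b b (-a) h = m2 a b b (-a) h * z) : z ^ 2 = 1 := by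
  have h1 : ∀ x y : F, z.1 (x, y) = x • z.1 (1, 0) + y • z.1 (0, 1) := fun x y => by
    rw [← map_smul, ← map_smul, ← map_add]
    exact congrArg _ (Prod.ext (by simp) (by simp))
  have h3 : z.1 (0 * 1 + -1 * 0, 1 * 1 + 0 * 0) = (_, _) := congrArg (fun g : (sp1 F).G => g.1 (1, 0)) hi
  have h4 : z.1 (a * 1 + b * 0, b * 1 + -a * 0) = (_, _) := congrArg (fun g : (sp1 F).G => g.1 (1, 0)) hj
  have h5 : (z.1 (1, 0)).1 * (z.1 (0, 1)).2 - (z.1 (1, 0)).2 * (z.1 (0, 1)).1 = 1 * 1 - 0 * 0 := z.2 (1, 0) (0, 1)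
  rw [h1] at h3 h4
  have h6 : ∀ u : F × F, (z ^ 2).1 u = z.1 (z.1 (u.1, u.2)) := fun u => by rw [pow_two]; rfl
  refine Subtype.ext (LinearEquiv.ext fun u => (h6 u).trans ?_)
  rw [h1 u.1 u.2, map_add, map_smul, map_smul]
  have h7 := h1 (z.1 (1, 0)).1 (z.1 (1, 0)).2
  have h8 := h1 (z.1 (0, 1)).1 (z.1 (0, 1)).2
  rw [Prod.mk.eta] at h7 h8
  rw [h7, h8]
  generalize z.1 (1, 0) = s at *
  generalize z.1 (0, 1) = t at *
  obtain ⟨α, γ⟩ := s
  obtain ⟨β, δ⟩ := t
  simp only [Prod.smul_mk, Prod.mk_add_mk, smul_eq_mul, Prod.mk.injEq] at h3 h4 h5 ⊢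
  obtain ⟨g1, g2⟩ := h3
  obtain ⟨g3, g4⟩ := h4
  obtain rfl : γ = 0 := (mul_eq_zero.1 (show 2 * γ = 0 by
    linear_combination (-2 * γ) * h + b * (g3 - b * g1) - a * (g4 - b * g2))).resolve_left h2
  obtain rfl : β = 0 := by linear_combination g1
  obtain rfl : δ = α := by linear_combination g2
  exact Prod.ext (show _ = u.1 by linear_combination u.1 * h5) (show _ = u.2 by linear_combination u.2 * h5)

/-- **symplectic groups** -/
theorem pa_sp (h2 : (2 : F) ≠ 0) (hq : Odd q) (n : ℕ) : ∀ {X : Spc F}, IsSp n X → PA 2 q X.G := by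
  induction n with
  | zero =>
    intro X ⟨B, _, _, _, h⟩
    have : FiniteDimensional F X.V := Module.Finite.of_finite
    have : Subsingleton X.V := Module.finrank_zero_iff.1 h
    exact ⟨⊥, IsPGroup.of_bot, fun z _ _ => Subtype.ext (LinearEquiv.ext fun u => Subsingleton.elim _ _)⟩
  | succ n ih =>
    intro X hX
    obtain ⟨e⟩ := (isSp_sp1.prod (isSp_std (F := F) n)).iso (add_comm n 1 ▸ hX)
    have : NeZero (ringChar F) := ⟨CharP.char_ne_zero_of_finite F _⟩
    obtain ⟨a, b, h3⟩ : ∃ a b : F, a * -a - b * b = 1 := by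
      obtain ⟨a, b, h⟩ := CharP.sq_add_sq F (ringChar F) (-1)
      push_cast at h
      exact ⟨a, b, by linear_combination -h⟩
    have h4 : (0 : F) * 0 - -1 * 1 = 1 := by ring
    have h5 : m2 0 (-1) 1 0 h4 * m2 a b b (-a) h3 * (m2 0 (-1) 1 0 h4)⁻¹ = (m2 a b b (-a) h3)⁻¹ :=
      Subtype.ext (LinearEquiv.ext fun u => Prod.ext
        (show 0 * (a * (0 * u.1 - -1 * u.2) + b * (0 * u.2 - 1 * u.1)) +
          -1 * (b * (0 * u.1 - -1 * u.2) + -a * (0 * u.2 - 1 * u.1)) = -a * u.1 - b * u.2 by ring)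
        (show 1 * (a * (0 * u.1 - -1 * u.2) + b * (0 * u.2 - 1 * u.1)) +
          0 * (b * (0 * u.1 - -1 * u.2) + -a * (0 * u.2 - 1 * u.1)) = a * u.2 - b * u.1 by ring))
    have h6 : m2 a b b (-a) h3 * m2 0 (-1) 1 0 h4 * (m2 a b b (-a) h3)⁻¹ = (m2 0 (-1) 1 0 h4)⁻¹ :=
      Subtype.ext (LinearEquiv.ext fun u => Prod.ext
        (show a * (0 * (-a * u.1 - b * u.2) + -1 * (a * u.2 - b * u.1)) +
          b * (1 * (-a * u.1 - b * u.2) + 0 * (a * u.2 - b * u.1)) = 0 * u.1 - -1 * u.2 by linear_combination u.2 * h3)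
        (show b * (0 * (-a * u.1 - b * u.2) + -1 * (a * u.2 - b * u.1)) +
          -a * (1 * (-a * u.1 - b * u.2) + 0 * (a * u.2 - b * u.1)) = 0 * u.2 - 1 * u.1 by linear_combination -u.1 * h3))
    have h7 : m2 0 (-1) 1 0 h4 ∈ nz (m2 0 (-1) 1 0 h4) ⊓ nz (m2 a b b (-a) h3) := ⟨.inl (mul_inv_cancel_right _ _), .inr h5⟩
    have h8 : m2 a b b (-a) h3 ∈ nz (m2 0 (-1) 1 0 h4) ⊓ nz (m2 a b b (-a) h3) := ⟨.inr h6, .inl (mul_inv_cancel_right _ _)⟩
    refine PA.congr (pa_prod (fun g => ⟨2, Subtype.ext ?_⟩) (mul_mem h7 h7) (fun u hu => ?_)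
      (fun z hz hc => eq_one_of_sq hq hz (sq_one h2 h3 h4 z (hc _ h7).symm (hc _ h8).symm)) (ih (isSp_std n))) e
    · exact (pow_mul g.1 2 2).trans (sq_one h2 h3 h4 _ (nz_sq g.2.1) (nz_sq g.2.2))
    · have g1 : 0 * (0 * u.1 + -1 * u.2) + -1 * (1 * u.1 + 0 * u.2) = u.1 := congrArg Prod.fst hu
      have g2 : 1 * (0 * u.1 + -1 * u.2) + 0 * (1 * u.1 + 0 * u.2) = u.2 := congrArg Prod.snd hu
      exact Prod.ext ((mul_eq_zero.1 (show 2 * u.1 = 0 by linear_combination -g1)).resolve_left h2)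
        ((mul_eq_zero.1 (show 2 * u.2 = 0 by linear_combination -g2)).resolve_left h2)

/-- a diagonal quadratic form -/
abbrev dq {ι : Type} [Fintype ι] (w : ι → F) : Spc F where
  V := ι → F
  f u _ := ∑ i, w i * u i ^ 2

section Orth

variable {ι : Type} [Fintype ι] [DecidableEq ι] (w : ι → F)

/-- sign changes -/
def dia (s : ι → F) (h : ∀ i, s i * s i = 1) : (dq w).G :=
  ⟨{ toFun := fun u k => s k * u k
     invFun := fun u k => s k * u k
     map_add' := fun u v => funext fun k => mul_add _ _ _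
     map_smul' := fun t u => funext fun k => mul_left_comm _ _ _
     left_inv := fun u => funext fun k => show s k * (s k * u k) = u k by rw [← mul_assoc, h, one_mul]
     right_inv := fun u => funext fun k => show s k * (s k * u k) = u k by rw [← mul_assoc, h, one_mul] },
    fun u _ => Finset.sum_congr rfl fun k _ => show w k * (s k * u k) ^ 2 = w k * u k ^ 2 by
      linear_combination w k * u k ^ 2 * h k⟩

/-- permutations -/
def prm (σ : Perm ι) (h : ∀ i, w (σ i) = w i) : (dq w).G :=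
  ⟨LinearEquiv.funCongrLeft F F σ, fun u _ => (Finset.sum_congr rfl fun k _ => by rw [← h k]; rfl).trans
    (Equiv.sum_comp σ fun i => w i * u i ^ 2)⟩

/-- the diagonal group -/
def dG : Subgroup (dq w).G where
  carrier := {g | ∃ s : ι → F, (∀ i, s i * s i = 1) ∧ ∀ u k, g.1 u k = s k * u k}
  one_mem' := ⟨fun _ => 1, fun _ => one_mul 1, fun u k => (one_mul _).symm⟩
  mul_mem' := by
    rintro a b ⟨s, h1, h2⟩ ⟨t, h3, h4⟩
    refine ⟨fun k => s k * t k, fun k => by linear_combination t k * t k * h1 k + h3 k, fun u k => ?_⟩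
    rw [mul_assoc, ← h4, ← h2]
    rfl
  inv_mem' := by
    rintro a ⟨s, h1, h2⟩
    refine ⟨s, h1, fun u k => ?_⟩
    have h3 : u k = s k * (a⁻¹).1 u k := (congrFun (a.1.apply_symm_apply u) k).symm.trans (h2 _ k)
    rw [h3, ← mul_assoc, h1, one_mul]

theorem dG_sq {g : (dq w).G} (h : g ∈ dG w) : g ^ 2 = 1 := by
  obtain ⟨s, h1, h2⟩ := h
  refine Subtype.ext (LinearEquiv.ext fun u => funext fun k => ?_)
  rw [pow_two]
  show g.1 (g.1 u) k = u k
  rw [h2, h2, ← mul_assoc, h1, one_mul]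

theorem exists_sgn {a b : ι} (hab : a ≠ b) (h : w a = w b) : ∃ c ∈ commutator (dq w).G, ∃ t : ι → F, (∀ i, t i * t i = 1) ∧
    (∀ u k, c.1 u k = t k * u k) ∧ t a = -1 ∧ ∀ k, k ≠ a → k ≠ b → t k = 1 := by
  have h1 : ∀ i, (if i = a then -1 else 1 : F) * (if i = a then -1 else 1) = 1 := fun i => by split_ifs <;> ring
  refine ⟨⁅dia w _ h1, prm w (swap a b) fun i => ?_⁆, commutator_mem_commutator (mem_top _) (mem_top _),
    fun k => (if k = a then -1 else 1) * (if swap a b k = a then -1 else 1), fun i => ?_, fun u k => ?_, ?_, fun k h2 h3 => ?_⟩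
  · exact apply_swap_eq_self h i
  · linear_combination (if swap a b i = a then -1 else 1) * (if swap a b i = a then -1 else 1) * h1 i + h1 (swap a b i)
  · show _ * (_ * u ((swap a b).symm (swap a b k))) = _
    rw [symm_apply_apply, mul_assoc]
  · show (if a = a then -1 else 1 : F) * (if swap a b a = a then -1 else 1) = -1
    rw [swap_apply_left, if_pos rfl, if_neg hab.symm, mul_one]
  · show (if k = a then -1 else 1 : F) * (if swap a b k = a then -1 else 1) = 1
    rw [swap_apply_of_ne_of_ne h2 h3]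
    exact h1 k

theorem pa_dq (h2 : (2 : F) ≠ 0) (hq : Odd q) (h4 : 4 ≤ Fintype.card ι) (h0 : ∀ i, w i ≠ 0) (o : ι)
    (h1 : ∀ i, i ≠ o → w i = 1) : PA 2 q (commutator (dq w).G) := by
  refine ⟨(dG w).subgroupOf _, fun g => ⟨1, Subtype.ext (Subtype.ext (dG_sq w g.2))⟩, fun z hz hc =>
    eq_one_of_sq hq hz (Subtype.ext (dG_sq w ?_))⟩
  have h3 : ∀ i k, k ≠ i → z.1.1 (Pi.single i 1) k = 0 := fun i k hk => by
    obtain ⟨b, -, hb⟩ := Finset.exists_mem_notMem_of_card_lt_card (s := {i, k, o}) (t := Finset.univ)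
      (Finset.card_le_three.trans_lt h4)
    simp only [Finset.mem_insert, Finset.mem_singleton, not_or] at hb
    obtain ⟨c, h5, t, h6, h7, h8⟩ : ∃ c ∈ commutator (dq w).G, ∃ t : ι → F, (∀ i, t i * t i = 1) ∧
        (∀ u k, c.1 u k = t k * u k) ∧ t k = -t i := by
      by_cases hi : i = o
      · obtain ⟨c, g1, t, g2, g3, g4, g5⟩ := exists_sgn w (Ne.symm hb.2.1) ((h1 k (hi ▸ hk)).trans (h1 b hb.2.2).symm)
        exact ⟨c, g1, t, g2, g3, by rw [g4, g5 i hk.symm (Ne.symm hb.1)]⟩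
      · obtain ⟨c, g1, t, g2, g3, g4, g5⟩ := exists_sgn w (Ne.symm hb.1) ((h1 i hi).trans (h1 b hb.2.2).symm)
        exact ⟨c, g1, t, g2, g3, by rw [g4, g5 k hk (Ne.symm hb.2.1), neg_neg]⟩
    have h9 : c.1 (z.1.1 (Pi.single i 1)) k = z.1.1 (c.1 (Pi.single i 1)) k :=
      congrArg (fun g : commutator (dq w).G => g.1.1 (Pi.single i 1) k) (hc ⟨c, h5⟩ ⟨t, h6, h7⟩)
    have h10 : c.1 (Pi.single i 1) = t i • (Pi.single i 1 : ι → F) := funext fun j => by
      rw [h7, Pi.smul_apply, smul_eq_mul]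
      by_cases hj : j = i
      · rw [hj]
      · rw [Pi.single_eq_of_ne hj, mul_zero, mul_zero]
    rw [h7, h10, map_smul, Pi.smul_apply, smul_eq_mul, h8] at h9
    exact (mul_eq_zero.1 (show 2 * z.1.1 (Pi.single i 1) k = 0 by
      linear_combination -t i * h9 - 2 * z.1.1 (Pi.single i 1) k * h6 i)).resolve_left h2
  have h5 : ∀ u k, z.1.1 u k = z.1.1 (Pi.single k 1) k * u k := fun u k => by
    conv_lhs => rw [pi_eq_sum_univ' u, map_sum, Finset.sum_apply]
    rw [Finset.sum_eq_single k (fun i _ hi => by rw [map_smul, Pi.smul_apply, h3 i k hi.symm, smul_zero])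
      (fun h => absurd (Finset.mem_univ k) h), map_smul, Pi.smul_apply, smul_eq_mul, mul_comm]
  refine ⟨_, fun k => mul_left_cancel₀ (h0 k) ?_, h5⟩
  have h6 : ∑ i, w i * z.1.1 (Pi.single k 1) i ^ 2 = ∑ i, w i * (Pi.single k 1 : ι → F) i ^ 2 := z.1.2 _ 0
  rw [Finset.sum_eq_single k (fun i _ hi => by rw [h3 k i hi, zero_pow two_ne_zero, mul_zero])
    (fun h => absurd (Finset.mem_univ k) h), Finset.sum_eq_single k (fun i _ hi => by
      rw [Pi.single_eq_of_ne hi, zero_pow two_ne_zero, mul_zero]) (fun h => absurd (Finset.mem_univ k) h),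
    Pi.single_eq_same] at h6
  linear_combination h6

end Orth

theorem comm_equiv {G H : Type} [Group G] [Group H] (e : G ≃* H) : Nonempty (commutator G ≃* commutator H) :=
  ⟨(e.subgroupMap (commutator G)).trans (MulEquiv.subgroupCongr (by
    rw [map_commutator_eq, MonoidHom.range_eq_top.2 e.surjective]
    rfl))⟩

/-- **orthogonal groups** -/
theorem pa_om (h2 : (2 : F) ≠ 0) (hq : Odd q) (Q : QuadraticForm F X.V) (hQ : ∀ u v, X.f u v = Q u)
    (hn : ∀ x, (∀ y, QuadraticMap.polar Q x y = 0) → x = 0) (h4 : 4 ≤ Module.finrank F X.V) :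
    PA 2 q (commutator X.G) := by
  have : FiniteDimensional F X.V := Module.Finite.of_finite
  obtain ⟨n, h⟩ : ∃ n, Module.finrank F X.V = n + 1 := ⟨_, (Nat.sub_add_cancel (by omega)).symm⟩
  obtain ⟨α, hα⟩ := FiniteField.exists_nonsquare (F := F) fun h => h2 (by exact_mod_cast (ringChar.spec F 2).2 h.dvd)
  obtain ⟨b, h1, h3, h5⟩ := ClassicalGeometry.SymmNormalForm.exists_basis_one_or_nonsquare h2 (QuadraticMap.polarBilin Q)
    ⟨fun x y => QuadraticMap.polar_comm _ _ _⟩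
    ⟨fun x hx => hn x hx, fun x hx => hn x fun y => (QuadraticMap.polar_comm _ _ _).trans (hx y)⟩ h α hα
  obtain ⟨e⟩ := iso_of_sim (X := X) (Y := dq fun i => QuadraticMap.polarBilin Q (b i) (b i)) b.equivFun h2 fun u v => by
    show ∑ i, _ * b.repr u i ^ 2 = _
    rw [hQ, two_mul, ← two_nsmul, ← QuadraticMap.polar_self, ← QuadraticMap.polarBilin_apply_apply]
    conv_rhs => rw [← b.sum_repr u]
    rw [LinearMap.BilinForm.sum_left]
    refine Finset.sum_congr rfl fun i _ => ?_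
    rw [LinearMap.BilinForm.sum_right, Finset.sum_eq_single i (fun j _ hj => by
      rw [LinearMap.BilinForm.smul_left, LinearMap.BilinForm.smul_right, h1 i j hj.symm, mul_zero, mul_zero])
      (fun h => absurd (Finset.mem_univ i) h), LinearMap.BilinForm.smul_left, LinearMap.BilinForm.smul_right]
    ring
  obtain ⟨e'⟩ := comm_equiv e.symm
  refine (pa_dq _ h2 hq (by rw [Fintype.card_fin]; omega) (fun i => ?_) (Fin.last n) h3).congr e'
  by_cases hi : i = Fin.last n
  · rw [hi]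
    rcases h5 with h5 | h5 <;> rw [h5]
    exacts [one_ne_zero, fun h6 => hα (h6 ▸ IsSquare.zero)]
  · rw [h3 i hi]
    exact one_ne_zero

end Cfsg.Agent.PQ.SS.RB
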