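import Cfsg.Agent.PQ.SS.B
import Cfsg.Agent.PQ.SS.BFam
import Cfsg.Agent.PQ.SS.BTwo
import Cfsg.Agent.LieClassical.OmegaCenter
import Cfsg.Agent.LieClassical.OrthFinite
import Cfsg.Agent.LieClassical.SympCenter

/-!
# PQ/SS, classical groups (helper35): `crsB_of : RowB → Crs ClB`
-/

set_option autoImplicit false
set_option linter.unusedSectionVars false

namespace Cfsg.Agent.PQ.SS.RB

open Cfsg Cfsg.Agent.LV.Blk Cfsg.Agent.H17.CR Subgroup Cfsg.Agent.LieClassical.OrthCore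
  Cfsg.Agent.LieClassical.OrthForms

section Grp

variable {r : ℕ} {G H : Type} [Group G] [Group H] [Finite G]

/-- the alternative for two odd primes -/
def Tri (r : ℕ) (G : Type) [Group G] : Prop :=
  ∀ l m : ℕ, l.Prime → m.Prime → l ≠ 2 → l < m → l ≠ r → m ≠ r → l ∣ Nat.card G → m ∣ Nat.card G →
    Com l m G ∨ WZ l m G ∨ WZ m l G

theorem Tri.congr (h : Tri r G) (e : G ≃* H) : Tri r H := fun l m hl hm h1 h2 h3 h4 h5 h6 => by
  rw [← Nat.card_congr e.toEquiv] at h5 h6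
  exact (h l m hl hm h1 h2 h3 h4 h5 h6).imp (fun h7 => Red.com_surj hl hm h7 e.toMonoidHom e.surjective)
    (Or.imp (wz_congr · e) (wz_congr · e))

theorem Tri.normal (h : Tri r G) (K : Subgroup G) [K.Normal] (hK : ∀ g, g * g ∈ K) : Tri r K := by
  intro l m hl hm h1 h2 h3 h4 h5 h6
  obtain ⟨k, hk⟩ := exists_index_two_pow K hK
  have h7 : ∀ p : ℕ, p.Prime → p ≠ 2 → ¬ p ∣ K.index := fun p hp h8 h9 =>
    h8 ((Nat.prime_dvd_prime_iff_eq hp Nat.prime_two).1 (hp.dvd_of_dvd_pow (hk ▸ h9)))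
  have h8 : m ≠ 2 := by have := hl.two_le; omega
  exact (h l m hl hm h1 h2 h3 h4 (h5.trans (card_subgroup_dvd_card K)) (h6.trans (card_subgroup_dvd_card K))).imp
    (fun h9 => Red.com_normal hl hm h9 K)
    (Or.imp (wz_normal hl hm · K (h7 l hl h1) (h7 m hm h8)) (wz_normal hm hl · K (h7 m hm h8) (h7 l hl h1)))

theorem fin (hB : RowB) (hT : Tri r G) (h2 : 2 ≠ r → ∀ q, Odd q → PA 2 q G) (hZ : ∀ z ∈ center G, z ^ 2 = 1) {S : Type}
    [Group S] (i : S ≃* G ⧸ center G) {p q : ℕ} (hr : r.Prime) (hp : p.Prime) (hq : q.Prime) (hpq : p < q) (h3 : p ≠ r)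
    (h4 : q ≠ r) (hS : ClB r S) (h5 : p ∣ Nat.card S) (h6 : q ∣ Nat.card S) (h7 : ¬ Com p q S) : NW p q S := by
  have h8 : Nat.card S ∣ Nat.card G := Nat.card_congr i.toEquiv ▸ card_quotient_dvd_card _
  have h9 : q ≠ 2 := by have := hp.two_le; omega
  have h10 : ∀ l m : ℕ, l.Prime → m.Prime → l ≠ 2 → l ≠ r → m ≠ r → m ≠ l → WZ l m G → NW l m S :=
    fun l m hl hm g1 g2 g3 g4 h => NW.of_wz (hB r l S hr hl g2 hS g1).2 hm g4 g3
      (wz_congr (wz_quot hl h (not_dvd_sq hl g1 fun z => Subtype.ext (hZ z.1 z.2))) i.symm)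
  by_cases h : p = 2
  · subst h
    exact (h10 q 2 hq hp h9 h4 h3 hpq.ne (wz_of_pa hq hp (h6.trans h8) (h2 h3 q (hq.odd_of_ne_two h9)))).symm
  · rcases hT p q hp hq h hpq h3 h4 (h5.trans h8) (h6.trans h8) with h11 | h11 | h11
    · exact absurd (Red.com_surj hp hq h11 (i.symm.toMonoidHom.comp (QuotientGroup.mk' _))
        (i.symm.surjective.comp (QuotientGroup.mk'_surjective _))) h7
    · exact h10 p q hp hq h h3 h4 hpq.ne' h11
    · exact (h10 q p hq hp h9 h4 h3 hpq.ne h11).symm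

end Grp

variable {F : Type} [Field F] [Fintype F] {r : ℕ}

theorem tri_fam {Φ : Fam F} (hE : Ext Φ) (hr : r.Prime) [CharP F r] {n : ℕ} {ε : ℤ} {X : Spc F} (hX : Φ.T n ε X) :
    Tri r X.G := fun l m hl hm h1 h2 h3 h4 h5 h6 =>
  (wz_or hE (good_of hr hl h1 h3) (good_of hr hm (by have := hl.two_le; omega) h4) hX h2 h5 h6).imp_left
    (com_of_pt hl hm)

theorem ext_sp : Ext (famSp F) where
  cg := by
    rintro n ε X Y e he ⟨B, h1, h2, h3, h4⟩
    refine ⟨B.comp e.symm.toLinearMap e.symm.toLinearMap, fun u v => ?_, fun u => h2 _, fun u hu => ?_,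
      e.finrank_eq.symm.trans h4⟩
    · rw [← e.apply_symm_apply u, ← e.apply_symm_apply v, he, h1, e.apply_symm_apply, e.apply_symm_apply]
      rfl
    · refine e.symm.map_eq_zero_iff.1 (h3 _ fun v => ?_)
      rw [← e.symm_apply_apply v]
      exact hu (e v)
  z := by
    rintro n ε X ⟨B, h1, -⟩
    rw [h1, map_zero]

theorem oe_cg {n : ℕ} {ε : ℤ} {X Y : Spc F} (e : X.V ≃ₗ[F] Y.V) (he : ∀ u v, Y.f (e u) (e v) = X.f u v)
    (h : IsOE n ε X) : IsOE n ε Y := by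
  obtain ⟨Q, h1, h2, h3, h4, h5⟩ := h
  refine ⟨Q.comp e.symm.toLinearMap, fun u v => ?_, fun u hu => ?_, e.finrank_eq.symm.trans h3,
    h4.congr e.toEquiv fun v => congrArg Q (e.symm_apply_apply v), h5⟩
  · rw [← e.apply_symm_apply u, ← e.apply_symm_apply v, he, h1, e.apply_symm_apply]
    rfl
  · refine e.symm.map_eq_zero_iff.1 (h2 _ fun v => ?_)
    have h6 : Q (e.symm (u + e v)) - Q (e.symm u) - Q (e.symm (e v)) = 0 := hu (e v)
    rwa [map_add, e.symm_apply_apply] at h6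

theorem oe_z {n : ℕ} {ε : ℤ} {X : Spc F} (h : IsOE n ε X) : X.f 0 0 = 0 := by
  obtain ⟨Q, h1, -⟩ := h
  rw [h1, QuadraticMap.map_zero]

theorem ext_even : Ext (famEven F) := ⟨oe_cg, oe_z⟩

theorem ext_odd (hF : Odd (Fintype.card F)) (h2 : (2 : F) ≠ 0) : Ext (famOdd F hF h2) := ⟨oe_cg, oe_z⟩

theorem two_ne (hr : r.Prime) [CharP F r] (h : 2 ≠ r) : (2 : F) ≠ 0 := fun h1 =>
  h ((Nat.prime_dvd_prime_iff_eq hr Nat.prime_two).1 ((CharP.cast_eq_zero_iff F r 2).1 (by exact_mod_cast h1))).symm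

theorem sq_cen_sp {m : ℕ} (hm : 1 ≤ m) (z : Matrix.symplecticGroup (Fin m) F) (hz : z ∈ center _) : z ^ 2 = 1 := by
  obtain ⟨a, ha⟩ := (LieClassical.SympCenter.centerEquiv hm).surjective ⟨z, hz⟩
  have h : a.1 • (1 : Matrix (Fin m ⊕ Fin m) (Fin m ⊕ Fin m) F) = z.1 := congrArg (·.1.1) ha
  refine Subtype.ext ?_
  show z.1 ^ 2 = 1
  rw [← h, smul_pow, one_pow, pow_two, a.2, one_smul]

theorem finO (hB : RowB) [CharP F r] {ι : Type} [Fintype ι] [DecidableEq ι] (Q : QuadraticForm F (ι → F)) (hQ : Nondeg Q)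
    (h5 : 5 ≤ Fintype.card ι) {f : (ι → F) → F} (hf : ⇑Q = f) (hT : Tri r (Spc.mk (F := F) (ι → F) fun u _ => f u).G)
    {S : Type} [Group S] (i : S ≃* POmega F f) {p q : ℕ} (hr : r.Prime) (hp : p.Prime) (hq : q.Prime) (hpq : p < q)
    (h3 : p ≠ r) (h4 : q ≠ r) (hS : ClB r S) (g5 : p ∣ Nat.card S) (h6 : q ∣ Nat.card S) (h7 : ¬ Com p q S) :
    NW p q S := by
  subst hf
  have e : isometryGroup F ⇑Q ≃* (Spc.mk (F := F) (ι → F) fun u _ => Q u).G :=
    H749.isoEquiv (j := LinearEquiv.refl F _) (c := 1) ⟨one_ne_zero, fun x y => (one_mul _).symm⟩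
  have h8 : Module.finrank F (ι → F) = Fintype.card ι := Module.finrank_fintype_fun_eq_card F
  refine fin hB ((hT.congr e.symm).normal (Omega F ⇑Q) (H377.mul_self_mem_Omega Q hQ h5)) (fun h q hq => ?_)
    (fun z hz => ?_) i hr hp hq hpq h3 h4 hS g5 h6 h7
  · obtain ⟨e'⟩ := comm_equiv e.symm
    exact (pa_om (X := Spc.mk (F := F) (ι → F) fun u _ => Q u) (two_ne hr h) hq Q (fun _ _ => rfl) hQ
      (h8 ▸ by omega)).congr e'
  · obtain ⟨w, -, h1, h2⟩ := LieClassical.OrthFinite.exists_sing_mem (Q := Q) ⊤ (by rw [finrank_top, h8]; omega)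
    refine LieClassical.OmegaCenter.omega_ext ?_
    show LieClassical.OmegaCenter.omegaMat z ^ 2 = 1
    rcases (LieClassical.OmegaCenter.mem_center_omega_iff Q ⟨fun x hx => hQ x hx, fun x hx => hQ x fun y =>
      (QuadraticMap.polar_comm _ _ _).trans (hx y)⟩ (by omega) ⟨w, h1, h2⟩ z).1 hz with h | h <;> rw [h]
    exacts [one_pow 2, neg_one_sq]

/-- **cross characteristic, symplectic and orthogonal groups** -/
theorem _root_.Cfsg.Agent.PQ.SS.crsB_of (hB : RowB) : Crs ClB := by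
  intro r p q S _ _ _ _ hr hp hq hpq h3 h4 hS
  rcases id hS with h | h | h | h
  · obtain ⟨F, _, _, _, n, h1, -, ⟨i⟩⟩ := h
    obtain ⟨e⟩ := (isSp_std (F := F) n).equiv
    exact fin hB ((tri_fam ext_sp hr (n := n) (ε := 1) ⟨isSp_std n, .inl rfl⟩).congr e.symm)
      (fun h q hq => (pa_sp (two_ne hr h) hq n (isSp_std n)).congr e.symm) (sq_cen_sp (by omega)) i hr hp hq hpq h3 h4 hS
  · obtain ⟨F, _, _, _, n, h1, h2, ⟨i⟩⟩ := h
    have h5 : (2 : F) ≠ 0 := H377.OOdd.two_ne_zero_of_odd (by rwa [Nat.card_eq_fintype_card])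
    exact finO hB _ (nondeg_oddForm n F h5) (by simp only [Fintype.card_sum, Fintype.card_fin, Fintype.card_unit]; omega)
      (coe_oddForm n F) (tri_fam (ext_odd h2 h5) hr (n := n) (ε := 1) ⟨isOO_std h5 n, .inl rfl⟩) i hr hp hq hpq h3 h4 hS
  · obtain ⟨F, _, _, _, n, h1, ⟨i⟩⟩ := h
    exact finO hB _ (nondeg_plusForm n F) (by simp only [Fintype.card_sum, Fintype.card_fin]; omega)
      (coe_plusForm n F) (tri_fam ext_even hr (isOE_plus n)) i hr hp hq hpq h3 h4 hS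
  · obtain ⟨F, _, _, _, n, a, b, h1, h2, ⟨i⟩⟩ := h
    exact finO hB _ (nondeg_minusForm (n - 1) F a b h2) (by simp only [Fintype.card_sum, Fintype.card_fin]; omega)
      (coe_minusForm (n - 1) F a b) (tri_fam ext_even hr (isOE_minus (n - 1) h2)) i hr hp hq hpq h3 h4 hS

end Cfsg.Agent.PQ.SS.RB
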