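import Cfsg.Agent.PQ.SS.Prin
import Cfsg.Agent.PQ.Red.Main
import Cfsg.Agent.H283.SporLie
import Cfsg.Agent.S4599
import Cfsg.Agent.S4760
import Cfsg.Agent.S4929

/-!
# PQ: the weak converse for the groups of Lie type from the rows (helper74)

`cv27_of`.
-/

set_option autoImplicit false

namespace Cfsg.Agent.PQ.SS

open Cfsg Subgroup Cfsg.Agent.LV Cfsg.Agent.LV.Blk

namespace Asm

variable {S : Type} [Group S] [Finite S] {r p q : ℕ} {M : Ideal AlgInt}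

/-- a character of degree divisible by `q` -/
theorem exists_dvd_deg [hs : IsSimpleGroup S] (hn : ¬ IsMulCommutative S) (hq : q.Prime) (h : q ∣ Nat.card S) :
    ∃ χ : IrrCharacter S, q ∣ charDegree (χ : S → ℂ) := by
  have := Fact.mk hq
  obtain ⟨P⟩ : Nonempty (Sylow q S) := inferInstance
  by_contra h1
  obtain ⟨h2, h3⟩ := (S4760.result q P).2 fun χ h2 => h1 ⟨χ, h2⟩
  rcases hs.eq_bot_or_eq_top_of_normal _ h2 with h4 | h4
  · exact P.ne_bot_of_dvd_card h h4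
  · exact hn ⟨⟨fun a b => congrArg Subtype.val (h3.is_comm.comm (⟨a, h4.ge trivial⟩ : (P : Subgroup S)) ⟨b, h4.ge trivial⟩)⟩⟩

/-- the defining characteristic -/
theorem not_hz_char [IsSimpleGroup S] (hn : ¬ IsMulCommutative S) (hL : IsLieTypeChar r S) (hM : IsPModular r M)
    (hq : q.Prime) (hr : q ≠ r) (h : q ∣ Nat.card S) : ¬ HZ0 q M S := fun h1 =>
  let ⟨χ, h2⟩ := exists_dvd_deg hn hq h
  h1 χ (prin_of_dvd hL hM hq hr h2) h2

/-- the prime 2 -/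
theorem not_hz_two [IsSimpleGroup S] (hn : ¬ IsMulCommutative S) (hr : r.Prime) (hL : IsLieTypeChar r S)
    (hM : IsPModular q M) (h2 : q ≠ 2) (h : q ∣ Nat.card S) : ¬ HZ0 2 M S := fun h1 => by
  have := Fact.mk hM.1
  obtain ⟨χ, h3, h4⟩ := S4929.result hn q h2 h M hM fun h3 =>
    H283.SporLie.no_lie hr hL h3.2.2 [(2, 7), (3, 2), (5, 1), (7, 1), (11, 1)] (by decide +kernel)
  exact h1 χ h3 h4

/-- the Sylow subgroups do not commute -/
theorem px_of_not_com [IsSimpleGroup S] (hn : ¬ IsMulCommutative S) (hp : p.Prime) (hq : q.Prime) (hpq : p ≠ q)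
    (h1 : p ∣ Nat.card S) (h2 : q ∣ Nat.card S) (h : ¬ Com p q S) : PX p q S ∨ PX q p S := by
  have := Fact.mk hp
  have := Fact.mk hq
  by_contra h3
  rw [not_or] at h3
  obtain ⟨-, -, H, h4, h5⟩ := S4599.result hn p q hpq h1 h2
    (fun x ⟨k, hk⟩ h4 => h3.1 ⟨x, ⟨k, hk ▸ pow_orderOf_eq_one x⟩, h4⟩)
    fun x ⟨k, hk⟩ h4 => h3.2 ⟨x, ⟨k, hk ▸ pow_orderOf_eq_one x⟩, h4⟩
  exact h ((Red.hall_iff hp hq hpq).1 ⟨H, @CommGroup.isNilpotent H { mul_comm := h5.is_comm.comm }, h4.2 p hp (by simp),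
    h4.2 q hq (by simp),
    fun s hs h6 => by simpa using h4.1 s hs h6⟩)

omit [Finite S] in
theorem not_hz_semi (h : Semi r p S) (hM : IsPModular p M) (hq : q.Prime) (hpq : q ≠ p) (hr : q ≠ r) (hx : PX p q S) :
    ¬ HZ0 q M S := fun h1 =>
  let ⟨x, h2, h3⟩ := hx
  let ⟨ψ, h4, h5⟩ := h M hM x h2
  h1 ψ h4 (h5 q hq hpq hr h3)

end Asm

open Asm

/-- **the weak converse** -/
theorem cv27_of (hA : RowA) (hB : RowB) (hX : RowX) (b3 : Bad3) (b5 : Bad5) (b35 : Bad35) : All LieAny Cv27 := by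
  rintro S _ _ hs hn ⟨r, hr, hL⟩ p q hp hq hpq Mp Mq hMp hMq h1 h2 h3 h4
  wlog hlt : p < q generalizing p q Mp Mq
  · exact (this q p hq hp hpq.symm Mq Mp hMq hMp h2 h1 h4 h3 (by omega)).symm
  by_contra h
  have hpr : p ≠ r := fun e => not_hz_char hn hL (e ▸ hMp) hq (e ▸ hpq.symm) h2 h3
  have hqr : q ≠ r := fun e => not_hz_char hn hL (e ▸ hMq) hp (e ▸ hpq) h1 h4
  have hq2 : q ≠ 2 := by have := hp.two_le; omega
  have hp2 : p ≠ 2 := fun e => not_hz_two hn hr hL hMq hq2 h2 (e ▸ h4)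
  have k1 : Semi r q S → ¬ PX q p S := fun h5 h6 => not_hz_semi h5 hMq hp hpq hpr h6 h4
  have k2 : Semi r p S → Semi r q S → False := fun h5 h6 => (px_of_not_com hn hp hq hpq h1 h2 h).elim
    (fun h7 => not_hz_semi h5 hMp hq hpq.symm hqr h7 h3) (k1 h6)
  rcases lie_cases hL with h5 | h5 | h5
  · exact k2 (hA r p S hr hp hpr h5) (hA r q S hr hq hqr h5)
  · exact k2 (hB r p S hr hp hpr h5 hp2).1 (hB r q S hr hq hqr h5 hq2).1
  have hodd : ∀ s, s.Prime → s ≠ 2 → s = 3 ∨ s = 5 ∨ 7 ≤ s := fun s hs h6 => by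
    have := hs.two_le
    have := hs.eq_two_or_odd
    omega
  have h6 := hodd p hp hp2
  have h7 := hodd q hq hq2
  by_cases h8 : p = 3 ∧ q = 5 ∧ E8c r S
  · obtain ⟨rfl, rfl, h8⟩ := h8
    obtain ⟨ψ, h9, h10⟩ := b35 r S hr hpr hqr h8 Mp hMp
    exact h3 ψ h9 h10
  have h9 : Semi r q S := (hX r q S hr hq hqr (.inl ⟨h5, by omega, fun h9 => by
    by_contra h10
    exact h8 ⟨by omega, by omega, h9⟩⟩)).1
  by_cases h10 : p = 3
  · subst h10
    by_cases h11 : D4c r S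
    · exact k2 (hX r 3 S hr hp hpr (.inr ⟨h11, rfl⟩)).1 h9
    · exact k1 h9 (b3 r q S hr hq hpr hqr (by omega) h5 h11 h1 h2)
  by_cases h11 : p = 5 ∧ E8c r S
  · obtain ⟨rfl, h11⟩ := h11
    exact k1 h9 (b5 r q S hr hq hpr hqr (by omega) h11 h2)
  · exact k2 (hX r p S hr hp hpr (.inl ⟨h5, by omega, fun h12 => by
      by_contra h13
      exact h11 ⟨by omega, h12⟩⟩)).1 h9

end Cfsg.Agent.PQ.SS
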