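import Cfsg.Agent.PQ.SS.IsoDefs

/-!
# PQ, strong converse in cross characteristic, exceptional groups: the primes `2`, `3` in `E₆`, `²E₆`, `E₇` (statements)
-/

set_option autoImplicit false

namespace Cfsg.Agent.PQ.SS

open Cfsg

/-- `E6` in characteristic `r` -/
def E6c (r : ℕ) (S : Type) [Group S] : Prop :=
  ∃ (F : Type) (_ : Field F) (_ : Fintype F) (_ : CharP F r), Nonempty (S ≃* Lie.chevE6.group F)

/-- `²E₆` in characteristic `r` -/
def T6c (r : ℕ) (S : Type) [Group S] : Prop :=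
  ∃ (K : Type) (_ : Field K) (_ : Fintype K) (_ : CharP K r) (q : ℕ), IsPrimePow q ∧ Fintype.card K = q ^ 2 ∧
    Nonempty (S ≃* Lie.twistedE6 K q)

/-- `E7` in characteristic `r` -/
def E7c (r : ℕ) (S : Type) [Group S] : Prop :=
  ∃ (F : Type) (_ : Field F) (_ : Fintype F) (_ : CharP F r), Nonempty (S ≃* Lie.chevE7.group F)

/-- the primes `2`, `3` in `E6` -/
def X23E6 : Prop := ∀ (r : ℕ) (S : Type) [Group S] [Finite S], r.Prime → 5 ≤ r → E6c r S → NW 2 3 S

/-- the primes `2`, `3` in `²E₆` -/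
def X23T6 : Prop := ∀ (r : ℕ) (S : Type) [Group S] [Finite S], r.Prime → 5 ≤ r → T6c r S → NW 2 3 S

/-- the primes `2`, `3` in `E7` -/
def X23E7 : Prop := ∀ (r : ℕ) (S : Type) [Group S] [Finite S], r.Prime → 5 ≤ r → E7c r S → NW 2 3 S

end Cfsg.Agent.PQ.SS
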