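import Cfsg.Agent.PQ.SS.CrsXB
import Cfsg.Agent.PQ.SS.CrsXD
import Cfsg.Agent.PQ.SS.Asm
import Cfsg.Agent.H545.LT.RowExc
import Cfsg.Agent.H631.Known
import Cfsg.Agent.H621.Hall.ScRows

/-!
# PQ, strong converse in cross characteristic: the exceptional groups (helper77)

`crsX_of : RowX → IsoG2 → IsoF4 → IsoE23 → IsoE25 → IsoE35 → X23E6 → X23T6 → X23E7 → Crs Ex`.
-/

set_option autoImplicit false

namespace Cfsg.Agent.PQ.SS

open Cfsg Cfsg.Lie Cfsg.Agent.LV.Blk Cfsg.Agent.PQ.SS.Bad Cfsg.Agent.H545.LT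

namespace CX

variable {S S' : Type} [Group S] [Group S'] [Finite S]

theorem abT_syl (e : S ≃* S') {K : Set ℕ} (h : AbSyl S' K) {l : ℕ} (hl : l.Prime) (hK : l ∉ K) : AbT l S := by
  have : Fact l.Prime := ⟨hl⟩
  have : Finite S' := Finite.of_equiv _ e.toEquiv
  obtain ⟨P⟩ : Nonempty (Sylow l S') := inferInstance
  exact AbT.congr e ⟨P, h l hl hK P, P.not_dvd_index⟩

theorem allD_sc (e : S ≃* S') (h : H408.Pron.SC S') {l : ℕ} (hl : l.Prime) (h2 : l ≠ 2) : AllD 2 l S := by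
  have : Finite S' := Finite.of_equiv _ e.toEquiv
  refine AllD.congr e fun y hy => by_contra fun h1 => ?_
  obtain ⟨P, hP⟩ := H630.CLib.exists_sylow_le 2 _ h1
  have h3 : y ∈ (P : Subgroup S') := h P (Subgroup.mem_centralizer_iff.2 fun a ha =>
    Subgroup.mem_centralizer_singleton_iff.1 (hP ha))
  obtain ⟨j, hj⟩ := P.isPGroup' ⟨y, h3⟩
  have h4 : l ∣ 2 ^ j := hy ▸ orderOf_dvd_of_pow_eq_one (congrArg Subtype.val hj)
  exact h2 ((Nat.prime_dvd_prime_iff_eq hl Nat.prime_two).1 (hl.dvd_of_dvd_pow h4))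

theorem small {p : ℕ} (hp : p.Prime) : p = 2 ∨ p = 3 ∨ p = 5 ∨ p = 7 ∨ 11 ≤ p := by
  have h : ∀ n < 11, n.Prime → n = 2 ∨ n = 3 ∨ n = 5 ∨ n = 7 := by decide
  by_cases h1 : p < 11
  · have := h p h1 hp
    omega
  · omega

end CX

open CX

/-- **The exceptional groups in cross characteristic.** -/
theorem crsX_of (hX : RowX) (g2 : IsoG2) (f4 : IsoF4) (e23 : IsoE23) (e25 : IsoE25) (e35 : IsoE35) (x6 : X23E6)
    (t6 : X23T6) (x7 : X23E7) : Crs Ex := by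
  intro r p q S _ _ hs hn hr hp hq hlt hpr hqr hE dp dq hc
  have : Fact r.Prime := ⟨hr⟩
  have sp := small hp
  have sq := small hq
  have sr := small hr
  have A : SemiZ r q S → WZ q p S → NW p q S := fun h1 h2 => (NW.of_wz h1 hp hlt.ne hpr h2).symm
  have B : SemiZ r p S → WZ p q S → NW p q S := fun h1 h2 => NW.of_wz h1 hq hlt.ne' hqr h2
  have C : SemiZ r p S → SemiZ r q S → AbT p S → AbT q S → NW p q S := fun h1 h2 h3 h4 =>
    (Asm.px_of_not_com hn hp hq hlt.ne dp dq hc).elim (fun h => B h1 (wz_of_px hp h3 h)) fun h => A h2 (wz_of_px hq h4 h)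
  by_cases h8 : E8c r S
  · have Z : ∀ l, l.Prime → l ≠ r → 7 ≤ l → SemiZ r l S := fun l h1 h2 h3 =>
      (hX r l S hr h1 h2 (.inl ⟨hE, by omega, fun _ => h3⟩)).2
    by_cases h7 : q < 7
    · have h1 : (p = 2 ∧ q = 3) ∨ (p = 2 ∧ q = 5) ∨ (p = 3 ∧ q = 5) := by omega
      rcases h1 with ⟨rfl, rfl⟩ | ⟨rfl, rfl⟩ | ⟨rfl, rfl⟩
      exacts [e23 r S hr (by omega) h8, e25 r S hr hpr.symm hqr.symm h8, e35 r S hr hpr.symm hqr.symm h8]
    have zq := Z q hq hqr (by omega)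
    have a5 := fun h5 => allD_five hr hq h5 (by omega) h8
    obtain ⟨F, _, _, _, ⟨e⟩⟩ := h8
    have ab : ∀ l, l.Prime → l ≠ r → 11 ≤ l → AbT l S := fun l h1 h2 h3 =>
      abT_syl e (ab_e8 (r := r)) h1 (by simp only [Set.mem_ofPred_eq]; omega)
    rcases sp with rfl | rfl | rfl | rfl | h1
    · exact A zq (wz_of_allD hq dq (allD_sc e (H621.Sc.sc_E8 (H631.odd_card_of_charP hr hpr.symm)) hq hlt.ne'))
    · exact A zq (wz_of_allD hq dq ((allD_E8 r F hq hpr hlt.ne).congr e))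
    · exact A zq (wz_of_allD hq dq (a5 hpr))
    · exact (e8_seven r F hpr).elim (fun h => C (Z 7 hp hpr le_rfl) zq (h.congr e) (ab q hq hqr (by omega))) fun h =>
        A zq (wz_of_px hq (ab q hq hqr (by omega))
          (px_congr e (h q hq (by omega) hqr (Nat.card_congr e.toEquiv ▸ dq))))
    · exact C (Z p hp hpr (by omega)) zq (ab p hp hpr h1) (ab q hq hqr (by omega))
  have Z : ∀ l, l.Prime → l ≠ r → 5 ≤ l → SemiZ r l S := fun l h1 h2 h3 =>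
    (hX r l S hr h1 h2 (.inl ⟨hE, h3, fun h => absurd h h8⟩)).2
  have P2 : p = 2 → PX q p S := by
    rintro rfl
    have : Fact q.Prime := ⟨hq⟩
    obtain ⟨y, ⟨j, h1⟩, h2⟩ := H631.bad_lie hr hpr.symm (.inr (.inr (.inr (.inr (.inr (.inr hE)))))) q hlt.ne' dq
    exact ⟨y, ⟨j, h1 ▸ pow_orderOf_eq_one y⟩, h2⟩
  have G : (p = 3 → 5 ≤ q → PX q p S) → (p = 2 → q = 3 → NW 2 3 S) → (∀ l, l.Prime → l ≠ r → 5 ≤ l → AbT l S) →
      NW p q S := fun h1 h2 h3 => by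
    by_cases h4 : q < 5
    · obtain ⟨rfl, rfl⟩ : p = 2 ∧ q = 3 := by omega
      exact h2 rfl rfl
    have h5 := h3 q hq hqr (by omega)
    have h6 := Z q hq hqr (by omega)
    by_cases h7 : p = 2
    · exact A h6 (wz_of_px hq h5 (P2 h7))
    by_cases h9 : p = 3
    · exact A h6 (wz_of_px hq h5 (h1 h9 (by omega)))
    · exact C (Z p hp hpr (by omega)) h6 (h3 p hp hpr (by omega)) h5
  by_cases h4 : D4c r S
  · have z3 := fun h3 => (hX r 3 S hr Nat.prime_three h3 (.inr ⟨h4, rfl⟩)).2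
    obtain ⟨K, _, _, _, q0, h0, hK, ⟨e⟩⟩ := h4
    refine G ?_ ?_ fun l h1 h2 h3 => abT_syl e (ab_3d4 (r := r) q0) h1 (by simp only [Set.mem_ofPred_eq]; omega)
    · rintro rfl h5
      exact px_congr e (d4_three r K h0 hK hpr hq h5 hqr (Nat.card_congr e.toEquiv ▸ dq))
    · rintro rfl rfl
      refine A (z3 hqr) (wz_of_allD hq dq (allD_sc e (H621.Sc.sc_3d4 hK ?_) hq hlt.ne'))
      exact (Nat.odd_pow_iff three_ne_zero).1 (hK ▸ H631.odd_card_of_charP hr hpr.symm)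
  have P3 : p = 3 → 5 ≤ q → PX q p S := by
    rintro rfl h5
    exact bad3 r q S hr hq hpr hqr h5 hE h4 dp dq
  have G6 : Five6 r S → (3 ≠ r → 5 ≤ q → AllD 3 q S) → (p = 2 → q = 3 → NW 2 3 S) →
      (∀ l, l.Prime → l ≠ r → 7 ≤ l → AbT l S) → NW p q S := fun h1 h2 h3 h5 => by
    by_cases h6 : 5 = r
    · exact G P3 h3 fun l a b c => h5 l a b (by have := small a; omega)
    rcases h1 h6 with h7 | ⟨h7, h9⟩
    · exact G P3 h3 fun l a b c => if h : l = 5 then h ▸ h7 else h5 l a b (by have := small a; omega)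
    by_cases h10 : q < 5
    · obtain ⟨rfl, rfl⟩ : p = 2 ∧ q = 3 := by omega
      exact h3 rfl rfl
    have zq := Z q hq hqr (by omega)
    rcases sp with rfl | rfl | rfl | h11
    · by_cases h11 : q = 5
      · subst h11
        exact A zq (h7 hpr)
      · exact A zq (wz_of_px hq (h5 q hq hqr (by omega)) (P2 rfl))
    · exact A zq (wz_of_allD hq dq (h2 hpr (by omega)))
    · exact A zq (wz_of_px hq (h5 q hq hqr (by omega)) (h9 q hq (by omega) hqr dq))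
    · exact C (Z p hp hpr (by omega)) zq (h5 p hp hpr (by omega)) (h5 q hq hqr (by omega))
  rcases hE with ⟨F, _, _, _, ⟨-, ⟨e⟩⟩ | ⟨⟨e⟩⟩ | ⟨⟨e⟩⟩ | ⟨⟨e⟩⟩ | h⟩ | ⟨K, _, _, _, q0, h0, ⟨hK, ⟨e⟩⟩ | h⟩ |
    ⟨rfl, K, _, _, m, -, hK, ⟨e⟩⟩ | ⟨rfl, K, _, _, m, -, hK, ⟨e⟩⟩ | ⟨rfl, K, _, _, m, -, hK, ⟨e⟩⟩
  · exact G P3 (fun h1 h2 => g2 r S hr (by omega) ⟨F, _, ‹_›, ‹_›, ⟨e⟩⟩) fun l h1 h2 h3 =>
      abT_syl e (ab_g2 (r := r)) h1 (by simp only [Set.mem_ofPred_eq]; omega)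
  · exact G P3 (fun h1 h2 => f4 r S hr (by omega) ⟨F, _, ‹_›, ‹_›, ⟨e⟩⟩) fun l h1 h2 h3 =>
      abT_syl e (ab_f4 (r := r)) h1 (by simp only [Set.mem_ofPred_eq]; omega)
  · exact G6 ((e6_five r F).congr e) (fun h1 h2 => (allD_E6 r F hq h1 (by omega)).congr e)
      (fun h1 h2 => x6 r S hr (by omega) ⟨F, _, ‹_›, ‹_›, ⟨e⟩⟩) fun l h1 h2 h3 =>
      abT_syl e (ab_e6 (r := r)) h1 (by simp only [Set.mem_ofPred_eq]; omega)
  · have R := (e7_rows r F).congr e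
    have ab : ∀ l, l.Prime → l ≠ r → 11 ≤ l → AbT l S := fun l h1 h2 h3 =>
      abT_syl e (ab_e7 (r := r)) h1 (by simp only [Set.mem_ofPred_eq]; omega)
    by_cases h10 : q < 5
    · obtain ⟨rfl, rfl⟩ : p = 2 ∧ q = 3 := by omega
      exact x7 r S hr (by omega) ⟨F, _, ‹_›, ‹_›, ⟨e⟩⟩
    have zq := Z q hq hqr (by omega)
    by_cases h2 : p = 2
    · subst h2
      exact A zq (wz_of_allD hq dq (allD_sc e (H621.Sc.sc_E7 (H631.odd_card_of_charP hr hpr.symm)) hq hlt.ne'))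
    by_cases h11 : q < 11
    · by_cases h3 : p = 3
      · subst h3
        exact A zq (R.three q (by omega) hpr hqr dq)
      obtain ⟨rfl, rfl⟩ : p = 5 ∧ q = 7 := by omega
      have zp := Z 5 hp hpr le_rfl
      rcases R.both hpr hqr dp dq with h | h | h
      exacts [B zp h, A zq h, C zp zq h.1 h.2]
    have aq := ab q hq hqr (by omega)
    by_cases h3 : p = 3
    · exact A zq (wz_of_px hq aq (P3 h3 (by omega)))
    have zp := Z p hp hpr (by omega)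
    by_cases h12 : p < 11
    · exact (R.big p (by omega) hpr).elim (fun h => C zp zq h aq) fun h =>
        A zq (wz_of_px hq aq (h q hq (by omega) hqr dq))
    · exact C zp zq (ab p hp hpr (by omega)) aq
  · exact absurd ⟨F, _, ‹_›, ‹_›, h⟩ h8
  · exact G6 ((t6_five r K h0 hK).congr e) (fun h1 h2 => (allD_twE6 r K h0 hK hq h1 (by omega)).congr e)
      (fun h1 h2 => t6 r S hr (by omega) ⟨K, _, ‹_›, ‹_›, q0, h0, hK, ⟨e⟩⟩) fun l h1 h2 h3 =>
      abT_syl e (ab_2e6 (r := r) q0) h1 (by simp only [Set.mem_ofPred_eq]; omega)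
  · exact absurd ⟨K, _, ‹_›, ‹_›, q0, h0, h⟩ h4
  · exact G P3 (fun h1 => absurd h1 hpr) fun l h1 h2 h3 => abT_syl e (ab_sz hK _) h1 h2
  · have := ChevalleyStructure.F4Fixed.charP_two hK
    exact G P3 (fun h1 => absurd h1 hpr) fun l h1 h2 h3 =>
      abT_syl e (ab_2f4 _) h1 (by simp only [Set.mem_ofPred_eq]; omega)
  · have : CharP K 3 := charP_of_card_eq_prime_pow hK
    exact G P3 (fun _ h1 => absurd h1 hqr) fun l h1 h2 h3 =>
      abT_syl e (ab_ree _) h1 (by simp only [Set.mem_ofPred_eq]; omega)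

end Cfsg.Agent.PQ.SS
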