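import Cfsg.Agent.PQ.SS.Chr

/-!
# PQ, SEMI: the core (helper81)

* `cen_order` : the order of the centraliser of an element of a torus, by Molien's identity;
* `ss_gen` : the Levi case; `core` : the character of an element, `boxCore`.
-/

set_option autoImplicit false
set_option linter.unusedSectionVars false
set_option maxHeartbeats 400000

namespace Cfsg.Agent.PQ.SS

open Cfsg Cfsg.Agent.DL Cfsg.Agent.DL.PP Cfsg.Agent.DL.Uni Cfsg.Agent.DL.Asm Cfsg.Agent.KZ Cfsg.Agent.KZ.Lie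
  Cfsg.Agent.LV.Blk Cfsg.Agent.KZ.ClD Cfsg.Agent.Characters.Core Matrix Cfsg.Agent.Nodes.Reps

variable {p : ℕ} [Fact p.Prime] {k : Type} [Field k] [CharP k p] {Y : Type} [Group Y] {N : Type} [Fintype N]
  [DecidableEq N] {ρ : Y →* GL N k} {F : MulAut Y} {G : Subgroup Y} [IsAlgClosed k] {D : Datum p ρ F G} {l j : ℕ}
  {M : Ideal AlgInt} {v : D.R → ℤ} {B : Matrix D.R D.R ℤ}

/-- the centraliser of a rational element of the standard torus -/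
theorem cen_std {n : ℕ} {ζ : kˣ} (hζ : IsPrimitiveRoot ζ n) (hx : F (D.τ (coch v ζ)) = D.τ (coch v ζ))
    (hS : ∀ H : Subgroup D.W, (∀ a, D.Rt a → (n : ℤ) ∣ D.wt a ⬝ᵥ v → D.rf a ∈ H) → SY D n v ≤ H) :
    ∃ C : Subgroup Y, (∀ g, g ∈ C ↔ g ∈ G ∧ g ∈ Subgroup.centralizer {D.τ (coch v ζ)}) ∧ ∃ ε : ℂ, (ε = 1 ∨ ε = -1) ∧
      (Nat.card (SY D n v) : ℂ)⁻¹ * (∑ᶠ u : SY D n v, sg D u / ordT D u) * pc' p (GF F C) = ε := by
  have hZ : ({D.τ (coch v ζ)} : Set Y) ⊆ D.T := Set.singleton_subset_iff.2 (D.τ_mem _)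
  have hF := fun a ha => D.g_mem_Sz hZ (fun z hz => by rw [hz, hx]; rfl) (a := a) ha
  have h1 : ∀ a, a ∈ D.Sz {D.τ (coch v ζ)} ↔ D.Rt a ∧ (n : ℤ) ∣ D.wt a ⬝ᵥ v := fun a =>
    and_congr_right fun _ => by
      simp only [Set.mem_singleton_iff, forall_eq]
      rw [D.χ_τ, Units.val_eq_one, chr_coch', hζ.zpow_eq_one_iff_dvd, dotProduct_comm]
  have h2 : (D.subW {D.τ (coch v ζ)}).range = SY D n v := by
    rw [D.range_subW]
    refine le_antisymm ((Subgroup.closure_le _).2 ?_) (hS _ fun a ha hd => Subgroup.subset_closure ⟨a, (h1 a).2 ⟨ha, hd⟩, rfl⟩)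
    rintro _ ⟨a, ha, rfl⟩
    exact rf_mem_SY ((h1 a).1 ha).1 ((h1 a).1 ha).2
  have h3 : ∀ u, (D.sub hZ hF rfl).Wm u = D.Wm (D.subW _ u) := fun u => by
    obtain ⟨m, hm, -⟩ := (D.sub hZ hF rfl).exists_rp u
    exact mon_inj (k := k) fun c => D.τ_inj
      (((D.sub hZ hF rfl).conj_τ hm c).symm.trans (D.conj_τ (D.rp_of_sub hZ hF rfl hm) c))
  refine ⟨D.cen {D.τ (coch v ζ)}, fun g => ⟨fun hg => ⟨D.cen_le_G _ hg, D.cen_le_centralizer hZ hg⟩, fun hg => ?_⟩, ?_⟩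
  · obtain ⟨c, hc, m, ⟨u, hu⟩, h4, rfl⟩ := D.exists_cen_form hZ hg.1 hg.2
    refine mul_mem (D.S_le_cen _ hc) ?_
    have h5 : u ∈ SY D n v := by
      have h6 := D.conj_τ hu (coch v ζ)
      rw [← h4 _ rfl, mul_inv_cancel_right, mon_coch] at h6
      exact (coch_eq_iff hζ).1 (D.τ_inj h6).symm
    obtain ⟨u', rfl⟩ := h2.ge h5
    obtain ⟨m', h6, -⟩ := (D.sub hZ hF rfl).exists_rp u'
    have h7 := hu.mul (D.rp_of_sub hZ hF rfl h6).inv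
    rw [mul_inv_cancel] at h7
    simpa using mul_mem (D.T_le_cen _ h7.mem_of_one) ((D.sub hZ hF rfl).NN_le_G ⟨u', h6⟩)
  · obtain ⟨ε, h4, h5⟩ := molien (D.sub hZ hF rfl)
    refine ⟨ε, h4, Eq.trans ?_ h5⟩
    let e := (MonoidHom.ofInjective (D.subW_injective {D.τ (coch v ζ)})).trans (MulEquiv.subgroupCongr h2)
    rw [← finsum_comp_equiv e.toEquiv, ← Nat.card_congr e.toEquiv]
    congr 2
    refine finsum_congr fun u => ?_
    rw [sg, sg, ordT, ordT, h3]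
    rfl

section Label

variable {ξ : ℂˣ} {n : ℕ} (hξ : IsPrimitiveRoot ξ n) {x : D.R → ℤ}
include hξ

theorem zpow_eq_iff {a b : ℤ} : ξ ^ a = ξ ^ b ↔ (n : ℤ) ∣ a - b := by
  rw [← hξ.zpow_eq_one_iff_dvd, _root_.zpow_sub, mul_inv_eq_one]

theorem fix_iff (A : Matrix D.R D.R ℤ) : (∀ z, chr (A *ᵥ z) (coch x ξ) = chr z (coch x ξ)) ↔ Cg n (x ᵥ* A) x := by
  simp only [chr_coch', zpow_eq_iff hξ, dotProduct_mulVec]
  exact ⟨cg_of_dot, fun h => h.dot⟩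

theorem Wc_eq : Wc D (coch x ξ) = SX D n x := Subgroup.ext fun u => fix_iff hξ (D.Wm u)

end Label

variable [Fintype ↥(GF F G)] (f : Fr D)

/-- the Levi case -/
theorem ss_gen (hq : D.QS) (hl : l.Prime) (hZ : CZl D l) {ξ : ℂˣ} (hξ : IsPrimitiveRoot ξ (l ^ j)) {x : D.R → ℤ}
    (hx : ∀ a, D.Rt a → (l : ℤ) ^ j ∣ x ⬝ᵥ D.cor a → x ⬝ᵥ D.cor a = 0) {w : D.W} (h : Fx D w (coch x ξ)) :
    IsGeneralizedCharacter ↥(GF F G) (ss f w (coch x ξ)) := by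
  let lam : D.R → ℤ := ∑ a ∈ PP.Phi D, (x ⬝ᵥ D.cor a) • D.cor a
  have h1 : ∀ b, D.Rt b → (D.wt b ⬝ᵥ lam = 0 ↔ x ⬝ᵥ D.cor b = 0) := fun b hb => by
    have h2 := two_sum' D x hb
    have h3 : D.wt b ⬝ᵥ lam = ∑ a ∈ PP.Phi D, (x ⬝ᵥ D.cor a) * cp D b a := by
      rw [dotProduct_sum]
      exact Finset.sum_congr rfl fun a ha => by rw [dotProduct_smul, wt_dot_cor D b ((mem_Phi D).1 ha), smul_eq_mul]
    rw [← h3] at h2
    have h4 := sum_sq_pos' D hb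
    refine ⟨fun e => ?_, fun e => ?_⟩
    · rw [e, mul_zero] at h2
      exact (mul_eq_zero.1 h2.symm).resolve_left h4.ne'
    · rw [e, mul_zero] at h2
      omega
  have h2 : ∀ a, D.Rt a → (chr (D.cor a) (coch x ξ) = 1 ↔ x ⬝ᵥ D.cor a = 0) := fun a ha => by
    rw [chr_coch', hξ.zpow_eq_one_iff_dvd, Nat.cast_pow]
    exact ⟨hx a ha, fun e => e ▸ dvd_zero _⟩
  let L : (D.I → ℤ) →+ ℤ := AddMonoidHom.mk' (fun b => D.wt b ⬝ᵥ lam) fun b c => by rw [map_add, add_dotProduct]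
  have h3 : Wc D (coch x ξ) = Wl D lam := by
    rw [Wc_eq hξ, Nat.cast_pow]
    refine le_antisymm (steinberg hl hZ fun a ha hd => ?_) fun u hu =>
      CF.mem_of_fix D L (fun a ha e => rf_mem_SX ha (((h1 a ha).1 e).symm ▸ dvd_zero _))
        (ApiC.l_act' (l := L) (fun _ => rfl) hu)
    show D.Wm (D.rf a) *ᵥ lam = lam
    rw [D.Wm_rf ha, sub_mulVec, one_mulVec, vecMulVec_mulVec, (h1 a ha).2 (hx a ha hd)]
    simp
  rw [ss, h3]
  refine (Mts.boxApi f hq).levi lam w _ ⟨fun a ha e => ?_, h, ξ, x, fun a ha e => (h1 a ha).1 e, rfl⟩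
  have h4 := (D.g_root a ha).act w
  exact (h1 _ h4).2 ((h2 _ h4).1 ((h.cor_iff f.L ha).2 ((h2 a ha).2 ((h1 a ha).1 e))))

variable {Adm : Matrix D.R D.R ℤ → Prop} {S : Type} [Group S] (s : Sit D Adm S)

theorem nat_of_sign {a b : ℕ} {ε : ℂ} (hε : ε = 1 ∨ ε = -1) (h : (a : ℂ) = ε * b) : a = b := by
  have := congrArg norm h
  rcases hε with rfl | rfl <;> simpa using this

/-- **The character of an `l`-element.** -/
theorem coreP (hM : IsPModular l M) (hp : l ≠ p) (hB : Dual D l B) (hZ : CZl D l) (hK : Ker f s l B) (x : ↥(GF F G))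
    (h0 : (x : Y) ∈ s.H0) {ζ : kˣ} {y : Y} (hζ : IsPrimitiveRoot ζ (l ^ j)) (hy : y ∈ G) (hN : y⁻¹ * F y ∈ D.NN)
    (hx : (x : Y) = y * D.τ (coch v ζ) * y⁻¹) (hg : ∀ (ξ : ℂˣ) w, IsPrimitiveRoot ξ (l ^ j) →
      Fx D w (coch (B *ᵥ v) ξ) → IsGeneralizedCharacter ↥(GF F G) (ss f w (coch (B *ᵥ v) ξ))) :
    ∃ ψ ∈ principalBlock M S, ¬ p ∣ charDegree (ψ : S → ℂ) ∧
      ∃ i j : ℕ, charDegree (ψ : S → ℂ) * (l ^ i * p ^ j) = cls x ∧ l ^ i ∣ s.H1.index := by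
  have hl : l.Prime := hM.1
  have hw := D.rp_pr hN
  have hF : F (y * D.τ (coch v ζ) * y⁻¹) = y * D.τ (coch v ζ) * y⁻¹ := hx ▸ x.2.2
  obtain ⟨ξ, hξ⟩ : ∃ ξ : ℂˣ, IsPrimitiveRoot ξ (l ^ j) := by
    have h1 : l ^ j ≠ 0 := pow_ne_zero _ hl.ne_zero
    have := Complex.isPrimitiveRoot_exp _ h1
    exact ⟨(this.isUnit h1).unit, this.isUnit_unit h1⟩
  obtain ⟨w, e⟩ : ∃ w, D.Fw (hB.dl w) = D.pr (y⁻¹ * F y) :=
    ⟨hB.dl.symm (D.Fw.symm _), by rw [Equiv.apply_symm_apply, MulEquiv.apply_symm_apply]⟩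
  have h1 : Fx D w (coch (B *ᵥ v) ξ) := by
    refine (fix_iff hξ _).2 ?_
    have h2 := hF
    rw [F_cj_τ hw, mul_left_inj, mul_right_inj, mon_coch] at h2
    rw [← vecMul_vecMul, hB.vecMul_B, ← mulVec_transpose, mulVec_mulVec, hB.mx, ← mulVec_mulVec, mulVec_mulVec v,
      D.Mx_Wm, e]
    exact ((coch_eq_iff hζ).1 (D.τ_inj h2)).mulVec B
  have hc : IsL l (coch (B *ᵥ v) ξ) := ⟨j, by rw [← map_pow, hξ.pow_eq_one, map_one]⟩
  obtain ⟨χ, h2, ε, h3, h4⟩ := exists_irr f hM hp h1 hc (hg ξ w hξ h1)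
  obtain ⟨ψ, h5, i, h6, h7⟩ := down f s hM h1 hc (hK j ζ v y ξ hζ hξ.pow_eq_one hy (hx ▸ h0)) h2 h3 h4
  have hS : SY (D.conj hy hN) ((l ^ j : ℕ) : ℤ) v = SY D ((l : ℤ) ^ j) v := Subgroup.ext fun u => by
    show Cg _ ((D.conj hy hN).Wm u *ᵥ v) v ↔ Cg _ (D.Wm u *ᵥ v) v
    rw [conj_Wm, Nat.cast_pow]
  obtain ⟨C, h8, ε', h9, h10⟩ := cen_std (D := D.conj hy hN) (v := v) hζ hF fun H hH => by
    rw [hS]
    exact hB.steinberg' hl hZ fun a ha hd => hH a ha (by rwa [Nat.cast_pow])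
  have h11 : (Nat.card (Wc D (coch (B *ᵥ v) ξ)) : ℂ)⁻¹ * (∑ᶠ u : Wc D (coch (B *ᵥ v) ξ), sg D (u * w) / ordT D (u * w)) *
      pc' p (GF F C) = sg D w * ε' := by
    let q : Wc D (coch (B *ᵥ v) ξ) ≃ SY (D.conj hy hN) ((l ^ j : ℕ) : ℤ) v := hB.dl.subtypeEquiv fun u => by
      rw [hS, Wc_eq hξ, Nat.cast_pow]
      exact hB.stab hl j v u
    have := Fintype.ofFinite (Wc D (coch (B *ᵥ v) ξ))
    rw [← h10, ← finsum_comp_equiv q, ← Nat.card_congr q, finsum_eq_sum_of_fintype, finsum_eq_sum_of_fintype,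
      ← mul_assoc, mul_left_comm, Finset.mul_sum _ _ (sg D w)]
    congr 2
    refine Finset.sum_congr rfl fun u _ => ?_
    rw [conj_sg', hB.ordT_dl, e, sg_mul, ← hB.sg_dl u, mul_comm, mul_div_assoc, ordT, ordT, conj_Wm, D.conj_Mx, D.Wm_mul,
      mul_assoc]
    rfl
  have h12 : charDegree (χ : GF F G → ℂ) * pc' p (GF F C) = pc' p (GF F G) := by
    refine nat_of_sign (ε := ε * (sg D w * ε')) ?_ ?_
    · rcases h3 with rfl | rfl <;> rcases h9 with rfl | rfl <;> rcases sg_sign D w with h | h <;> simp [h]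
    · rw [Nat.cast_mul, ← Blocks.Basic.irr_one_eq_charDegree χ.2, h4, Pi.smul_apply, ss_one f s.qs h1, smul_eq_mul, ← h11]
      ring
  have h13 : GF F C ≤ GF F G := fun g hg => ⟨((h8 g).1 hg.1).1, hg.2⟩
  have h14 : Subgroup.centralizer {x} = (GF F C).subgroupOf (GF F G) := Subgroup.ext fun g => by
    rw [Subgroup.mem_subgroupOf, mem_GF, h8, Subgroup.mem_centralizer_singleton_iff,
      Subgroup.mem_centralizer_singleton_iff, Subtype.ext_iff, D.conj_tau, ← hx]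
    exact ⟨fun h => ⟨⟨g.2.1, h⟩, g.2.2⟩, fun h => h.1.2⟩
  have h15 : cls x * Nat.card (GF F C) = Nat.card (GF F G) := by
    rw [← Nat.card_congr (Subgroup.subgroupOfEquivOfLe h13).toEquiv, ← h14]
    exact Subgroup.index_mul_card _
  have h16 : (Nat.card (GF F C)).factorization p ≤ (Nat.card (GF F G)).factorization p :=
    Nat.factorization_le_factorization_of_dvd_right (Dvd.intro_left _ h15) (fun e => by
      rw [e, mul_zero] at h15; exact Nat.card_pos.ne h15) Nat.card_pos.ne'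
  refine ⟨ψ, h5, fun hd => Nat.not_dvd_ordCompl (Fact.out : p.Prime) (Nat.card_pos (α := GF F G)).ne'
    (hd.trans ((Dvd.intro _ h6.symm).trans (Dvd.intro _ h12))),
    i, (Nat.card (GF F G)).factorization p - (Nat.card (GF F C)).factorization p, ?_, h7⟩
  have h17 : Nat.card (GF F C) ≠ 0 := fun e => by
    rw [e, mul_zero] at h15
    exact Nat.card_pos.ne h15
  refine mul_right_cancel₀ h17 ?_
  have h18 := pc_mul_pc' p (GF F C)
  have h19 := pc_mul_pc' p (GF F G)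
  rw [pc] at h18 h19
  obtain ⟨d, hd⟩ := Nat.exists_eq_add_of_le h16
  rw [hd, pow_add, ← h12] at h19
  rw [h15, ← mul_assoc, ← h6, hd, Nat.add_sub_cancel_left, ← h19]
  generalize p ^ (Nat.card (GF F C)).factorization p = t at h18 ⊢
  rw [← h18]
  ring

theorem core (hM : IsPModular l M) (hp : l ≠ p) (hB : Dual D l B) (hZ : CZl D l) (hK : Ker f s l B) (x : ↥(GF F G))
    (h0 : (x : Y) ∈ s.H0) {ζ : kˣ} {y : Y} (hζ : IsPrimitiveRoot ζ (l ^ j)) (hy : y ∈ G) (hN : y⁻¹ * F y ∈ D.NN)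
    (hx : (x : Y) = y * D.τ (coch v ζ) * y⁻¹) (hg : ∀ (ξ : ℂˣ) w, IsPrimitiveRoot ξ (l ^ j) →
      Fx D w (coch (B *ᵥ v) ξ) → IsGeneralizedCharacter ↥(GF F G) (ss f w (coch (B *ᵥ v) ξ))) :
    ∃ ψ ∈ principalBlock M S, ∃ i j : ℕ, charDegree (ψ : S → ℂ) * (l ^ i * p ^ j) = cls x ∧ l ^ i ∣ s.H1.index :=
  let ⟨ψ, h1, _, h2⟩ := coreP f s hM hp hB hZ hK x h0 hζ hy hN hx hg
  ⟨ψ, h1, h2⟩

theorem gen_of_lev (hq : D.QS) (hl : l.Prime) (hB : Dual D l B) (hZ : CZl D l) (hv : Lev D l j v) (ξ : ℂˣ) (w : D.W)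
    (hξ : IsPrimitiveRoot ξ (l ^ j)) (h : Fx D w (coch (B *ᵥ v) ξ)) :
    IsGeneralizedCharacter ↥(GF F G) (ss f w (coch (B *ᵥ v) ξ)) := by
  refine ss_gen f hq hl hZ hξ (fun a ha hd => ?_) h
  obtain ⟨a', n, h1, h2, -, h3⟩ := hB.root ha
  rw [h3] at hd ⊢
  rw [hv a' h1 ((cop_of_not hl h2 j).dvd_of_dvd_mul_left hd), mul_zero]

/-- **BoxCore** -/
theorem boxCore : BoxCore := by
  intro p _ k _ _ Y _ N _ _ ρ F G _ D f _ Adm S _ s l B M hl hp hM hB hZ hK x h0 ⟨j, ζ, v, y, hζ, hy, hN, hx, hv⟩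
  exact core f s hM hp hB hZ hK x h0 hζ hy hN hx (gen_of_lev f s.qs hl hB hZ hv)

end Cfsg.Agent.PQ.SS
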