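import Cfsg.Agent.PQ.SS.CrsX6A
import Cfsg.Agent.PQ.SS.CrsXD
import Cfsg.Agent.PQ.SS.Core
import Cfsg.Agent.PQ.SS.XRow
import Cfsg.Agent.PQ.SS.Fm

/-!
# PQ, the primes `2`, `3` in `E₆` and `²E₆` (helper23)

`x23E6 : X23E6`, `x23T6 : X23T6`.
-/

set_option autoImplicit false
set_option linter.unusedSectionVars false

namespace Cfsg.Agent.PQ.SS

open Cfsg Cfsg.Lie Cfsg.Agent.DL Cfsg.Agent.DL.PP Cfsg.Agent.KZ.Lie Cfsg.Agent.LV.Blk Cfsg.Agent.KZ.DatX Matrix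
  Cfsg.Agent.ChevalleyStructure.CoxeterGeomTypes Cfsg.Agent.Tits.Roots Cfsg.Agent.Nodes Cfsg.Agent.Nodes.RGDChev
  CoxeterSystem

namespace C6

/-- three times the first fundamental weight -/
def u6 : Fin 6 → ℤ := ![4, 3, 5, 6, 4, 2]

/-- a Coxeter element of `D₅` -/
def cox5 : Matrix (Fin 6) (Fin 6) ℤ :=
  !![1, 0, 1, 1, 1, 1; 0, -1, 0, -1, -1, -1; 0, 0, -1, -1, -1, -1; 0, 1, 1, 1, 1, 1; 0, 0, 0, 1, 0, 0; 0, 0, 0, 0, 1, 0]

theorem cox5_eq : (([1, 2, 3, 4, 5] : List (Fin 6)).map (sM chevE6 6)).prod = cox5 :=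
  prod_eq_of isRows_E6 _ (by decide +kernel)

theorem cox5_pow : ((pwL ([1, 2, 3, 4, 5] : List (Fin 6)) 8).map (sM chevE6 6)).prod = 1 :=
  prod_eq_of isRows_E6 _ (by decide +kernel)

theorem cox5_fix {v : Fin 6 → ℤ} (h : ∀ i, (2 : ℤ) ∣ ((cox5 - 1) *ᵥ v) i) (i : Fin 6) (hi : i ≠ 0) : (2 : ℤ) ∣ v i := by
  have h0 := h 0
  have h1 := h 1
  have h3 := h 3
  have h4 := h 4
  have h5 := h 5
  rw [sub_mulVec, one_mulVec] at h0 h1 h3 h4 h5
  simp [cox5, mulVec, dotProduct, Fin.sum_univ_succ] at h0 h1 h3 h4 h5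
  fin_cases i
  · exact absurd rfl hi
  all_goals
    simp only [Fin.reduceFinMk, Fin.mk_one]
    omega

theorem u6_sM : ∀ i j : Fin 6, (3 : ℤ) ∣ (u6 ᵥ* sM chevE6 6 i - u6) j := by decide +kernel

theorem u6_prod (L : List (Fin 6)) : ∀ j, (3 : ℤ) ∣ (u6 ᵥ* (L.map (sM chevE6 6)).prod - u6) j := by
  induction L with
  | nil => simp
  | cons i L ih =>
    intro j
    rw [List.map_cons, List.prod_cons, ← vecMul_vecMul, ← sub_add_sub_cancel _ (u6 ᵥ* (L.map (sM chevE6 6)).prod),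
      ← sub_vecMul, Pi.add_apply]
    refine Dvd.dvd.add ?_ (ih j)
    rw [vecMul, dotProduct]
    exact Finset.dvd_sum fun a _ => (u6_sM i a).mul_right _

theorem rt_two : ∀ s < chevE6.nroots, ∀ i : Fin 6, (∀ j, (2 : ℤ) ∣ vec chevE6 6 s j - if i = j then 1 else 0) →
    (∀ j, i ≠ j → vec chevE6 6 s j = 0) ∧ (vec chevE6 6 s i = 1 ∨ vec chevE6 6 s i = -1) := by decide +kernel

theorem rt_odd : ∀ s < chevE6.nroots, ∃ i : Fin 6, ¬ (2 : ℤ) ∣ vec chevE6 6 s i := by decide +kernel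

theorem rt_lev : ∀ s < chevE6.nroots, (2 : ℤ) ∣ vec chevE6 6 s 0 → vec chevE6 6 s 0 = 0 := by decide +kernel

theorem hi_pos : ∀ i : Fin 6, 0 < vec chevE6 6 (chevE6.nroots - 1) i := by decide +kernel

theorem P6_sq : P6 * P6 = 1 := by rw [P6_eq]; decide +kernel

theorem wordProd_pwL {B W : Type*} [Group W] {M : CoxeterMatrix B} (cs : CoxeterSystem M W) (L : List B) (n : ℕ) :
    cs.wordProd (List.replicate n L).flatten = cs.wordProd L ^ n := by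
  induction n with
  | zero => rw [pow_zero]; exact cs.wordProd_nil
  | succ n ih => rw [List.replicate_succ, List.flatten_cons, wordProd_append, ih, pow_succ']

variable {p : ℕ} [Fact p.Prime] {k : Type} [Field k] [CharP k p] [IsAlgClosed k] {Mx : Matrix (Fin 6) (Fin 6) ℤ}
  (X : XF hpE6 p k Mx)

/-- the Weyl group of `E₆` acts faithfully modulo `2` -/
theorem eq_one_of_two (w : X.D.W) (h : ∀ i j, (2 : ℤ) ∣ (X.D.Wm w - 1) i j) : w = 1 := by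
  obtain ⟨B, hB⟩ : ∃ B : Matrix (Fin 6) (Fin 6) ℤ, X.D.Wm w = B := ⟨_, rfl⟩
  have h1 : ∀ a : Fin 6 → ℤ, X.D.Rt a → X.D.Rt (a ᵥ* B) := fun a ha => by
    have h0 : X.D.act w⁻¹ a = a ᵥ* B := hB ▸ X.D.wt_act' w a
    exact h0 ▸ ha.act _
  have h2 : ∀ i : Fin 6, (∀ j, i ≠ j → B i j = 0) ∧ (B i i = 1 ∨ B i i = -1) := fun i => by
    obtain ⟨s, hs, e⟩ := (X.rt_iff _).1 (h1 _ (isRoot_sr _ _ i))
    have e' : vec chevE6 6 s = B i := e.trans (single_one_vecMul i B)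
    have h3 := rt_two s hs i fun j => by
      rw [e', ← Matrix.one_apply, ← Matrix.sub_apply, ← hB]
      exact h i j
    rwa [e'] at h3
  have h3 : ∀ (a : Fin 6 → ℤ) j, (a ᵥ* B) j = a j * B j j := fun a j =>
    Finset.sum_eq_single (f := fun i => a i * B i j) j
      (fun i _ hi => by rw [show B i j = 0 from (h2 i).1 j hi, mul_zero]) fun h => absurd (Finset.mem_univ j) h
  have h4 : B 0 0 = 1 := (h2 0).2.resolve_right fun h5 => by
    obtain ⟨L, -, hL⟩ := X.exists_word w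
    have h6 := u6_prod L 0
    rw [← hL, hB, Pi.sub_apply, h3, h5] at h6
    exact absurd h6 (by decide)
  have h5 : 0 ≤ vec chevE6 6 (chevE6.nroots - 1) ᵥ* B :=
    (h1 _ ((X.rt_iff _).2 ⟨_, tyXE6.pos, rfl⟩)).pos_or_neg.resolve_right fun h6 => by
      have h7 : (vec chevE6 6 (chevE6.nroots - 1) ᵥ* B) 0 ≤ 0 := h6 (0 : Fin 6)
      rw [h3, h4, mul_one] at h7
      exact (hi_pos 0).not_ge h7
  refine X.D.Wm_injective ((hB.trans (?_ : B = 1)).trans X.D.Wm_one.symm)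
  ext i j
  by_cases hij : i = j
  · subst hij
    rw [Matrix.one_apply_eq]
    refine (h2 i).2.resolve_right fun h6 => ?_
    have h7 : 0 ≤ (vec chevE6 6 (chevE6.nroots - 1) ᵥ* B) i := h5 i
    rw [h3, h6] at h7
    have := hi_pos i
    omega
  · rw [Matrix.one_apply_ne hij]
    exact (h2 i).1 j hij

/-- an involution with a Levi subgroup as connected centraliser and with odd class size -/
theorem exists_inv (h2 : 2 ≠ p) {w : X.D.W} {c : ℤ} (hw : X.D.Wm w * X.D.Mx = c • 1) (hc : (2 : ℤ) ∣ c - 1) :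
    ∃ z : ↥(GF X.F ⊤), Form X.D 2 z ∧ orderOf z = 2 ∧ ¬ 2 ∣ cls z := by
  have := X.finite
  obtain ⟨ζ, hζ⟩ := exists_primL (k := k) Nat.prime_two h2 1
  have hζ' : IsPrimitiveRoot ζ 2 := hζ
  have hy := yw_mem X.D w
  have hr := yw_rp X.D w
  obtain ⟨z, v, h1, h3, h4, h5⟩ := exists_z (X.D.conj hy ⟨w, hr⟩) Nat.prime_two hζ' (c := c) hc
    (by rw [Datum.conj_Mx, hr.pr_eq]; exact hw)
    (fun a ha => by
      obtain ⟨s, hs, rfl⟩ := (X.rt_iff a).1 ha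
      exact rt_odd s hs)
    (fun u hu => eq_one_of_two X u (TO.E6.conj_Wm X.D hy ⟨w, hr⟩ u ▸ hu)) (0 : Fin 6)
    (u := CoxeterMatrix.E₆.toCoxeterSystem.wordProd [1, 2, 3, 4, 5]) (n := 3)
    (X.D.Wm_injective (by
      have h6 := (X.Wm_word _).trans cox5_pow
      rw [pwL, wordProd_pwL] at h6
      exact h6.trans X.D.Wm_one.symm))
  have h6 : ∀ i : Fin 6, i ≠ 0 → (2 : ℤ) ∣ v i := cox5_fix fun i => by
    rw [← ((TO.E6.conj_Wm X.D hy ⟨w, hr⟩ _).trans ((X.Wm_word _).trans cox5_eq) : _ = cox5)]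
    exact h5 i
  have h7 : ¬ (2 : ℤ) ∣ v (0 : Fin 6) := fun h => by
    have h8 : coch v ζ = coch 0 ζ := coch_congr hζ' fun i : Fin 6 => by
      show (2 : ℤ) ∣ v i - 0
      rw [sub_zero]
      by_cases hi : i = 0
      exacts [hi ▸ h, h6 i hi]
    have h9 : z = 1 := Subtype.ext (h1.trans ((congrArg _ (h8.trans (funext fun i => zpow_zero ζ))).trans (map_one _)))
    rw [h9, orderOf_one] at h3
    exact absurd h3 (by decide)
  refine ⟨z, ⟨1, ζ, (Pi.single 0 1 : Fin 6 → ℤ), _, hζ, hy, ⟨w, hr⟩, h1.trans ?_, fun a ha => ?_⟩, h3, h4⟩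
  · refine congrArg (X.D.conj hy ⟨w, hr⟩).τ (coch_congr hζ' (v' := (Pi.single 0 1 : Fin 6 → ℤ)) fun i : Fin 6 => ?_)
    show (2 : ℤ) ∣ v i - (Pi.single 0 1 : Fin 6 → ℤ) i
    by_cases hi : i = 0
    · subst hi
      rw [Pi.single_eq_same]
      omega
    · rw [Pi.single_eq_of_ne hi, sub_zero]
      exact h6 i hi
  · obtain ⟨t, ht, rfl⟩ := (X.rt_iff a).1 ha
    show (2 : ℤ) ^ 1 ∣ vec chevE6 6 t ⬝ᵥ Pi.single 0 1 → vec chevE6 6 t ⬝ᵥ Pi.single 0 1 = 0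
    rw [dotProduct_single, mul_one, pow_one]
    exact rt_lev t ht

theorem nw_of {Adm : Matrix (Fin 6) (Fin 6) ℤ → Prop} {d : ℕ} {S : Type} [Group S] (s : XS X Adm d S) (h5 : 5 ≤ p)
    (hd : d ∣ 3) (hA : Bad.AllD 3 2 S) (hD : Dual X.D 2 bE6) {w : X.D.W} {c : ℤ} (hw : X.D.Wm w * X.D.Mx = c • 1)
    (hc : (2 : ℤ) ∣ c - 1) : NW 2 3 S := by
  refine NW.of_left fun M hM => ?_
  obtain ⟨z, h1, h2, h3⟩ := exists_inv X (by omega) hw hc
  obtain ⟨f⟩ := nonempty_fr X.D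
  have := X.finite
  have := Fintype.ofFinite ↥(GF X.F ⊤)
  have := s.sit.normal
  have h4 : (z : ↥(chevE6.group k)) ∈ s.sit.H0 := by
    obtain ⟨n, hn⟩ := exists_pow_eq_self_of_coprime (x := z) (n := d)
      (h2 ▸ Nat.Coprime.coprime_dvd_left hd (by decide))
    rw [← hn]
    exact pow_mem (s.pow_mem z.2) n
  obtain ⟨ψ, hψ, i, j, h6, -⟩ := boxCore f s.sit Nat.prime_two (by omega) hM hD (czl X Nat.prime_two)
    (ker_xs s f 2 _) z h4 h1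
  refine ⟨ψ, hψ, fun h => h3 (h.trans ⟨_, h6.symm⟩), ?_⟩
  have h7 : orderOf (s.sit.π1 ⟨z, h4⟩) = 2 := by
    rw [orderOf_injective s.sit.π1 (s.sit_π_inj.comp (Subgroup.subgroupOfEquivOfLe s.sit.le).injective),
      ← Subgroup.orderOf_coe, h2]
  have h8 : 3 ∣ cls z :=
    ((hA _ h7).trans (cls_map_dvd s.sit.π1 s.sit.π1_surj _)).trans (cls_sub_dvd s.sit.H1 ⟨z, h4⟩)
  rw [← h6] at h8
  refine (Nat.prime_three.dvd_mul.1 h8).resolve_right fun h9 => ?_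
  rcases Nat.prime_three.dvd_mul.1 h9 with h10 | h10
  · exact absurd (Nat.prime_three.dvd_of_dvd_pow h10) (by decide)
  · have := (Nat.prime_dvd_prime_iff_eq Nat.prime_three Fact.out).1 (Nat.prime_three.dvd_of_dvd_pow h10)
    omega

theorem odd_pw {r : ℕ} (hr : r.Prime) (h5 : 5 ≤ r) (e : ℕ) : (2 : ℤ) ∣ (r : ℤ) ^ e - 1 := by
  have h : Odd ((r : ℤ) ^ e) := ((Int.odd_coe_nat r).2 (hr.odd_of_ne_two (by omega))).pow
  obtain ⟨m, hm⟩ := h
  omega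

end C6

open C6

/-- **The primes `2`, `3` in `E₆`.** -/
theorem x23E6 : X23E6 := by
  rintro r S _ _ hr h5 ⟨F, _, _, _, ⟨e⟩⟩
  have : Fact r.Prime := ⟨hr⟩
  obtain ⟨n, hF⟩ := card_eq_pow F r
  obtain ⟨k, _, _, _, X, ⟨s⟩⟩ := (has_E6 hF).congr e
  exact nw_of X s h5 (Nat.gcd_dvd_left _ _) ((Bad.allD_E6 r F Nat.prime_two (by omega) (by decide)).congr e)
    (dual_E6 Nat.prime_two (by decide) X) (w := 1) (by rw [X.D.Wm_one]; exact one_mul _) (odd_pw hr h5 n)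

/-- **The primes `2`, `3` in `²E₆`.** -/
theorem x23T6 : X23T6 := by
  rintro r S _ _ hr h5 ⟨K, _, _, _, q, hq, hK, ⟨e⟩⟩
  have : Fact r.Prime := ⟨hr⟩
  obtain ⟨n, rfl⟩ := tw_pow r two_ne_zero hK
  obtain ⟨k, _, _, _, X, ⟨s⟩⟩ := (has_2E6 hK).congr e
  obtain ⟨w, hw⟩ := X.exists_neg_E6
  refine nw_of X s h5 (Nat.gcd_dvd_left _ _) ((Bad.allD_twE6 r K hq hK Nat.prime_two (by omega) (by decide)).congr e)
    (dual_2E6 Nat.prime_two (by decide) X) (w := w) (c := -(r : ℤ) ^ n) ?_ ?_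
  · rw [hw]
    show -P6 * ((r : ℤ) ^ n • P6) = -(r : ℤ) ^ n • (1 : Matrix (Fin 6) (Fin 6) ℤ)
    rw [neg_mul, mul_smul_comm, P6_sq, neg_smul]
  · have := odd_pw hr h5 n
    omega

end Cfsg.Agent.PQ.SS
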