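import Cfsg.Agent.PQ.SS.CrsXD
import Cfsg.Agent.PQ.SS.Core
import Cfsg.Agent.PQ.SS.XF
import Cfsg.Agent.TO.X.Fr
import Cfsg.Agent.KZ.DatX.Main
import Cfsg.Agent.KZ.DatX.Weyl
import Cfsg.Agent.H531.ClassIndex

/-!
# PQ, strong converse: the primes `2`, `3` in `E₇` (helper48)

`C7.exists_central` : an element of order `p` of the torus, fixed by a `p`-element of the Weyl group, which centralises a
Sylow `p`-subgroup; `x23E7 : X23E7`.
-/

set_option autoImplicit false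
set_option linter.unusedSectionVars false

namespace Cfsg.Agent.PQ.SS

open Cfsg Cfsg.Lie Cfsg.Agent.DL Cfsg.Agent.DL.PP Cfsg.Agent.KZ.Lie Cfsg.Agent.LV.Blk Cfsg.Agent.KZ.DatX Matrix
  Cfsg.Agent.ChevalleyStructure.CoxeterGeomTypes Cfsg.Agent.Tits.Roots Cfsg.Agent.Nodes Cfsg.Agent.Nodes.RGDChev
  Cfsg.Agent.TO.X

namespace C7

/-- an element of order `p` which centralises a given `p`-subgroup and has class size prime to `p` -/
theorem exists_cen {H : Type*} [Group H] [Finite H] {p : ℕ} [Fact p.Prime] {K : Subgroup H} (hK : IsPGroup p K)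
    (h0 : K ≠ ⊥) : ∃ x : H, x ≠ 1 ∧ x ^ p = 1 ∧ ¬ p ∣ cls x ∧ ∀ g ∈ K, g * x = x * g := by
  obtain ⟨P, hP⟩ := hK.exists_le_sylow
  have : Nontrivial (P : Subgroup H) := (Subgroup.nontrivial_iff_ne_bot _).2 fun h => h0 (le_bot_iff.1 (h ▸ hP))
  obtain ⟨j, hj0, hj⟩ := (P.isPGroup'.to_subgroup (Subgroup.center _)).nontrivial_iff_card.1
    P.isPGroup'.center_nontrivial
  obtain ⟨z, hz⟩ := exists_prime_orderOf_dvd_card' (G := Subgroup.center (P : Subgroup H)) p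
    (hj ▸ dvd_pow_self p hj0.ne')
  have h1 : ∀ g ∈ (P : Subgroup H), g * z.1.1 = z.1.1 * g := fun g hg =>
    congrArg Subtype.val (Subgroup.mem_center_iff.1 z.2 ⟨g, hg⟩)
  have h2 : orderOf z.1.1 = p := by rw [Subgroup.orderOf_coe, Subgroup.orderOf_coe, hz]
  refine ⟨z.1.1, fun h => ?_, orderOf_dvd_iff_pow_eq_one.1 h2.dvd, fun h => P.not_dvd_index (h.trans (Subgroup.index_dvd_of_le
    fun g hg => Subgroup.mem_centralizer_singleton_iff.2 (h1 g hg))), fun g hg => h1 g (hP hg)⟩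
  rw [h, orderOf_one] at h2
  exact (Fact.out : p.Prime).one_lt.ne h2

section

variable {C : ChevalleyDatum} {l : ℕ} {M : CoxeterMatrix (Fin l)} {hp : IsType C l M} {r : ℕ} [Fact r.Prime]
  {k : Type} [Field k] [CharP k r] [IsAlgClosed k] {Mx : Matrix (Fin l) (Fin l) ℤ} {X : XF hp r k Mx}

theorem exists_tor_w (X : XF hp r k Mx) (w : M.Group) : ∃ E : Tor X, E.A = wm X w * Mx :=
  ⟨⟨yw X.D w, w, yw_rp X.D w⟩, congrArg (fun v => wm X v * Mx) (Datum.Rp.pr_eq (yw_rp X.D w))⟩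

theorem rp_pow (E : Tor X) {w : M.Group} {m : ↥(C.group k)} (hm : E.Rp w m) (i : ℕ) : E.Rp (w ^ i) (m ^ i) := by
  induction i with
  | zero => rw [pow_zero, pow_zero]; exact E.rp_one_iff.2 (one_mem _)
  | succ i ih => rw [pow_succ, pow_succ]; exact ih.mul hm

/-- a `p`-element of the Weyl group has a rational representative which is a `p`-element -/
theorem exists_rp_p (E : Tor X) {p j : ℕ} (hp' : p.Prime) {s : M.Group} (hs : E.A * wm X s = wm X s * E.A)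
    (hj : s ^ p ^ j = 1) : ∃ m : ↥(GF X.F ⊤), E.Rp s m ∧ ∃ a, m ^ p ^ a = 1 := by
  have := X.finite
  obtain ⟨m, h1, h2⟩ := E.exists_rp_fix hs
  let m' : ↥(GF X.F ⊤) := ⟨m, Subgroup.mem_top m, h2⟩
  obtain ⟨a, c, h3, h4⟩ := Nat.exists_eq_pow_mul_and_not_dvd (orderOf_pos m').ne' p hp'.ne_one
  obtain ⟨t, ht⟩ := exists_pow_eq_self_of_coprime (x := s) (n := c)
    (Nat.Coprime.coprime_dvd_right (orderOf_dvd_of_pow_eq_one hj) ((hp'.coprime_iff_not_dvd.2 h3).symm.pow_right j))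
  refine ⟨(m' ^ c) ^ t, ht ▸ rp_pow E (rp_pow E h1 c) t, a, ?_⟩
  rw [← pow_mul (m' ^ c), mul_comm, pow_mul, ← pow_mul m', mul_comm, ← h4, pow_orderOf_eq_one, one_pow]

theorem exists_central (E : Tor X) {p j : ℕ} [Fact p.Prime] {ζ : kˣ} (hζ : IsPrimitiveRoot ζ p)
    (hA : ∀ v : Fin l → ZMod p, mv E.A v = v) (h0 : ∃ v : Fin l → ZMod p, v ≠ 0)
    (hR : ∀ a, Rt C l a → ∃ v : Fin l → ZMod p, vl a v ≠ 0)
    (hW : ∀ w : M.Group, (∀ v : Fin l → ZMod p, mv (wm X w) v = v) → w = 1) {s : M.Group}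
    (hs : E.A * wm X s = wm X s * E.A) (hj : s ^ p ^ j = 1) :
    ∃ (u : Fin l → ZMod p) (x : ↥(GF X.F ⊤)), u ≠ 0 ∧ mv (wm X s) u = u ∧ x = E.e ζ u ∧ ¬ p ∣ cls x := by
  have := X.finite
  obtain ⟨m, h1, a, h2⟩ := exists_rp_p E Fact.out hs hj
  let V : Subgroup ↥(GF X.F ⊤) :=
    { carrier := {x | ∃ v : Fin l → ZMod p, (x : ↥(C.group k)) = E.e ζ v}
      one_mem' := ⟨0, (E.e_zero hζ).symm⟩
      mul_mem' := fun ⟨u, hu⟩ ⟨v, hv⟩ => ⟨u + v, by rw [E.e_add hζ, ← hu, ← hv]; rfl⟩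
      inv_mem' := fun ⟨u, hu⟩ => ⟨-u, by rw [E.e_neg hζ, ← hu]; rfl⟩ }
  have hV : ∀ v : Fin l → ZMod p, ∃ x ∈ V, (x : ↥(C.group k)) = E.e ζ v := fun v =>
    ⟨⟨_, Subgroup.mem_top _, (E.fix_iff hζ).2 (hA v)⟩, ⟨v, rfl⟩, rfl⟩
  have h3 : IsPGroup p V := fun ⟨x, v, hv⟩ => ⟨1, Subtype.ext (Subtype.ext (by
    show (x : ↥(C.group k)) ^ p ^ 1 = 1
    rw [pow_one, hv, E.e_pow hζ]))⟩
  have h4 : IsPGroup p (Subgroup.zpowers m) := fun ⟨_, i, rfl⟩ => ⟨a, Subtype.ext (by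
    show (m ^ i) ^ p ^ a = 1
    rw [← zpow_natCast, ← _root_.zpow_mul, mul_comm, _root_.zpow_mul, zpow_natCast, h2, _root_.one_zpow])⟩
  have h5 := h4.to_sup_of_normal_right' h3 (Subgroup.zpowers_le.2 (Subgroup.mem_normalizer_fintype
    fun x ⟨v, hv⟩ => ⟨_, by rw [← E.conj_e hζ h1 v, ← hv]; rfl⟩))
  obtain ⟨x, x1, x2, x3, x4⟩ := exists_cen h5 fun h => by
    obtain ⟨v, hv⟩ := h0
    obtain ⟨y, hy, h6⟩ := hV v
    have h7 : y = 1 := Subgroup.mem_bot.1 (h ▸ Subgroup.mem_sup_right hy)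
    exact hv ((E.e_eq_one hζ).1 (by rw [← h6, h7]; rfl))
  have h6 : ∀ v : Fin l → ZMod p, E.e ζ v * x = x * E.e ζ v := fun v => by
    obtain ⟨y, hy, h6⟩ := hV v
    rw [← h6]
    exact congrArg Subtype.val (x4 y (Subgroup.mem_sup_right hy))
  obtain ⟨c, hc, w, n, h7, -, h8⟩ := E.exists_cen_form (Z := E.e ζ '' (Set.univ : Set (Fin l → ZMod p)))
    (fun _ ⟨v, _, h⟩ => h ▸ E.e_mem ζ v) (y := x) fun _ ⟨v, _, h⟩ => h ▸ h6 v
  have h9 : E.S (E.Sz (E.e ζ '' (Set.univ : Set (Fin l → ZMod p)))) ≤ ⊥ := BNOf.RGD.Sup_le fun b hb => by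
    obtain ⟨h9, h10⟩ := (E.mem_Sz_e hζ).1 hb
    obtain ⟨v, hv⟩ := hR b h9
    exact absurd (h10 v trivial) hv
  rw [Subgroup.mem_bot.1 (h9 hc), one_mul] at h8
  rw [← h8] at h7
  obtain rfl := hW w fun v => E.e_inj hζ (by rw [← E.conj_e hζ h7 v, ← h6, mul_inv_cancel_right])
  obtain ⟨u, hu⟩ := E.exists_e hζ (E.rp_one_iff.1 h7) (congrArg Subtype.val x2)
  refine ⟨u, x, fun h => x1 (Subtype.ext ?_), E.e_inj hζ ?_, hu.symm, x3⟩
  · rw [← hu, h, E.e_zero hζ]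
    rfl
  · rw [← E.conj_e hζ h1 u, hu]
    exact mul_inv_eq_iff_eq_mul.2 (congrArg Subtype.val (x4 m (Subgroup.mem_sup_left (Subgroup.mem_zpowers m))))

theorem vl_single {p : ℕ} (a : Fin l → ℤ) (i : Fin l) : vl a (Pi.single i (1 : ZMod p)) = a i := by
  simp [vl, Pi.single_apply]

/-- the Weyl group acts faithfully modulo `p` -/
theorem eq_one_of_mv (X : XF hp r k Mx) {p : ℕ}
    (h : ∀ t < C.nroots, ∀ i : Fin l, (∀ j, (p : ℤ) ∣ vec C l t j - sr i j) → ∀ j, vec C l t j = sr i j) (w : M.Group)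
    (hw : ∀ v : Fin l → ZMod p, mv (wm X w) v = v) : w = 1 := by
  refine wm_inj X ?_
  rw [map_one]
  ext i j
  obtain ⟨t, ht, h1⟩ := Rt.vecMul_wm X ((X.rt_iff _).1 (isRoot_sr _ _ i)) w
  have h2 : ∀ j, vec C l t j = wm X w i j := fun j => by
    rw [h1]
    exact congrFun (single_one_vecMul i _) j
  have h3 : ∀ j, sr i j = (1 : Matrix (Fin l) (Fin l) ℤ) i j := fun j => by
    rw [sr, Pi.single_apply, Matrix.one_apply]
    exact if_congr eq_comm rfl rfl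
  rw [← h2, ← h3]
  refine h t ht i (fun j => (ZMod.intCast_eq_intCast_iff_dvd_sub _ _ _).1 ?_) j
  have h4 := congrFun (hw (Pi.single j 1)) i
  rw [mv_apply, vl_single] at h4
  rw [h2, h4, sr, Pi.single_apply, Pi.single_apply]
  by_cases h5 : i = j
  · rw [if_pos h5, if_pos h5.symm, Int.cast_one]
  · rw [if_neg h5, if_neg (Ne.symm h5), Int.cast_zero]

theorem wordProd_pwL (L : List (Fin l)) (n : ℕ) :
    M.toCoxeterSystem.wordProd (pwL L n) = M.toCoxeterSystem.wordProd L ^ n := by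
  induction n with
  | zero => rw [pow_zero]; exact M.toCoxeterSystem.wordProd_nil
  | succ n ih => rw [pow_succ', ← ih, ← CoxeterSystem.wordProd_append]; rfl

end

/-- an element of order `9` of the Weyl group of type `E₆` -/
def wd : List (Fin 7) := [0, 1, 2, 3, 1, 4, 3, 5]

/-- its matrix -/
def m9 : Matrix (Fin 7) (Fin 7) ℤ :=
  !![-1, -1, -1, -2, -1, -1, 0; 0, 0, 0, 0, -1, -1, 0; 1, 0, 0, 0, 0, 0, 0; 0, 0, 1, 1, 1, 1, 0; 0, 1, 0, 0, 0, 0, 0;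
    0, 0, 0, 1, 1, 0, 0; 0, 0, 0, 0, 0, 1, 1]

theorem wd_prod : (wd.map (sM chevE7 7)).prod = m9 := prod_eq_of isRows_E7 _ (by decide +kernel)

theorem wd_nine : ((pwL wd 9).map (sM chevE7 7)).prod = 1 := prod_eq_of isRows_E7 _ (by decide +kernel)

theorem root_ne : ∀ t < chevE7.nroots, ∃ i : Fin 7, ¬ (3 : ℤ) ∣ vec chevE7 7 t i := by decide +kernel

theorem root_eq : ∀ t < chevE7.nroots, ∀ i : Fin 7, (∀ j, ((3 : ℕ) : ℤ) ∣ vec chevE7 7 t j - sr i j) →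
    ∀ j, vec chevE7 7 t j = sr i j := by decide +kernel

theorem coef_E7 : ∀ t < chevE7.nroots, ∀ c < 3,
    (3 : ℤ) ∣ vec chevE7 7 t 6 * (c : ℕ) → vec chevE7 7 t 6 * (c : ℕ) = 0 := by decide +kernel

theorem fix_m9 {u : Fin 7 → ZMod 3} (h : mv m9 u = u) : u = Pi.single 6 (u 6) := by
  have h1 := congrFun h 1
  have h2 := congrFun h 2
  have h3 := congrFun h 3
  have h4 := congrFun h 4
  have h5 := congrFun h 5
  have h6 := congrFun h 6
  simp [mv_apply, vl, m9, Fin.sum_univ_succ] at h1 h2 h3 h4 h5 h6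
  have h8 : (3 : ZMod 3) = 0 := rfl
  have g4 : u 4 = 0 := by linear_combination h1 + h4 + h6 + u 4 * h8
  have g2 : u 2 = 0 := by linear_combination h3 - g4 - h6
  have g3 : u 3 = 0 := by linear_combination h5 - g4 + h6
  funext i
  fin_cases i
  exacts [h2.trans g2, h4.trans g4, g2, g3, g4, h6, rfl]

end C7

open C7

/-- **The primes `2`, `3` in `E₇`.** -/
theorem x23E7 : X23E7 := by
  intro r S _ _ hr h5 hE
  refine (NW.of_left fun M hM => ?_).symm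
  have : Fact r.Prime := ⟨hr⟩
  have : Fact (Nat.Prime 3) := ⟨Nat.prime_three⟩
  have h3 : 3 ≠ r := by omega
  have h3' : ¬ r ∣ 3 := fun h => absurd (Nat.le_of_dvd (by norm_num) h) (by omega)
  obtain ⟨F, _, _, _, ⟨e⟩⟩ := hE
  obtain ⟨n, -, hF⟩ := FiniteField.card F r
  obtain ⟨k, _, _, _, X, ⟨s⟩⟩ := (has_E7 hF).congr e
  obtain ⟨f⟩ := nonempty_fr X.D
  have := X.finite
  have := Fintype.ofFinite ↥(GF X.F ⊤)
  obtain ⟨w0, hw0⟩ : ∃ w : CoxeterMatrix.E₇.Group, wm X w = -1 := X.exists_neg_E7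
  obtain ⟨E, c, hE, hc⟩ : ∃ (E : Tor X) (c : ℤ), E.A = c • 1 ∧ (3 : ℤ) ∣ c - 1 := by
    have h1 : ¬ (3 : ℤ) ∣ (r : ℤ) ^ (n : ℕ) := fun h => h3 ((Nat.prime_dvd_prime_iff_eq Nat.prime_three hr).1
      (Nat.prime_three.dvd_of_dvd_pow (by exact_mod_cast h)))
    by_cases h2 : (3 : ℤ) ∣ (r : ℤ) ^ (n : ℕ) - 1
    · obtain ⟨E, hE⟩ := exists_tor_w X 1
      exact ⟨E, _, by rw [hE, map_one, one_mul], h2⟩
    · obtain ⟨E, hE⟩ := exists_tor_w X w0
      exact ⟨E, -(r : ℤ) ^ (n : ℕ), by rw [hE, hw0, neg_one_mul, neg_smul], by omega⟩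
  have hcm : ∀ B, E.A * B = B * E.A := fun B => by rw [hE, smul_mul_assoc, mul_smul_comm, one_mul, mul_one]
  obtain ⟨ζ, hζ⟩ := exists_prim k h3'
  obtain ⟨u, x, u0, hu, hx, hx3⟩ := exists_central (j := 2) E hζ
    (fun v => by
      rw [hE, smul_mv, mv_one, show (c : ZMod 3) = ((1 : ℤ) : ZMod 3) from
        ((ZMod.intCast_eq_intCast_iff_dvd_sub _ _ _).2 hc).symm, Int.cast_one, one_smul])
    ⟨1, one_ne_zero⟩
    (fun a ⟨t, ht, h⟩ => by
      obtain ⟨i, hi⟩ := root_ne t ht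
      exact ⟨Pi.single i 1, by rw [vl_single, ← h, Ne, ZMod.intCast_zmod_eq_zero_iff_dvd]; exact hi⟩)
    (eq_one_of_mv X root_eq) (hcm _)
    (wm_inj X (by rw [← wordProd_pwL wd, wm_word, map_one]; exact wd_nine))
  rw [wm_word, wd_prod] at hu
  have hx0 : (x : ↥(chevE7.group k)) ^ 3 = 1 := hx ▸ E.e_pow hζ u
  have hd : ¬ 3 ∣ Nat.gcd 2 (r ^ (n : ℕ) - 1) := fun h => absurd (h.trans (Nat.gcd_dvd_left _ _)) (by norm_num)
  obtain ⟨ψ, hψ, i, j, h1, h2⟩ := boxCore f s.sit Nat.prime_three h3 hM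
    (dual_E7 Nat.prime_three (by norm_num) X) (czl X Nat.prime_three) (ker_xs s f _ _) x
    (exists_ι s x.2.2 hx0 (Nat.prime_three.coprime_iff_not_dvd.2 hd).symm)
    ⟨1, ζ, fun i => ((u i).val : ℤ), E.y, by rwa [pow_one], Subgroup.mem_top _, E.hF, hx, fun a ha => by
      obtain ⟨t, ht, rfl⟩ := (X.rt_iff a).1 ha
      have h1 : (fun i => ((u i).val : ℤ)) = Pi.single 6 ((u 6).val : ℤ) := funext fun i => by
        rw [congrFun (fix_m9 hu) i, Pi.single_apply, Pi.single_apply]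
        split_ifs <;> rfl
      show (3 : ℤ) ^ 1 ∣ vec chevE7 7 t ⬝ᵥ (fun i : Fin 7 => ((u i).val : ℤ)) →
        vec chevE7 7 t ⬝ᵥ (fun i : Fin 7 => ((u i).val : ℤ)) = 0
      rw [h1, dotProduct_single, pow_one]
      exact coef_E7 t ht _ (ZMod.val_lt _)⟩
  have h4 : 2 ∣ cls x := by
    obtain ⟨m, h6, h7⟩ := E.exists_rp_fix (hcm (wm X w0))
    refine H531.ClassIndex.two_dvd_of_inverts (t := ⟨m, Subgroup.mem_top m, h7⟩) (Subtype.ext ?_) fun h => u0 ?_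
    · show m * x * m⁻¹ = (x : ↥(chevE7.group k))⁻¹
      rw [hx, E.conj_e hζ h6, hw0, ← neg_one_smul ℤ, smul_mv, mv_one, ← E.e_neg hζ, Int.cast_neg, Int.cast_one,
        neg_one_smul]
    · have h8 : -u = u := E.e_inj hζ (by rw [E.e_neg hζ, ← hx]; exact congrArg Subtype.val h)
      funext i
      have h9 : (3 : ZMod 3) = 0 := rfl
      have h10 : -u i = u i := congrFun h8 i
      show u i = 0
      linear_combination h10 + u i * h9
  rw [← h1] at h4 hx3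
  refine ⟨ψ, hψ, fun h => hx3 (h.mul_right _), (Nat.prime_two.dvd_mul.1 h4).resolve_right fun h6 => ?_⟩
  rcases Nat.prime_two.dvd_mul.1 h6 with h7 | h7
  · exact absurd (Nat.prime_two.dvd_of_dvd_pow h7) (by norm_num)
  · have := (Nat.prime_dvd_prime_iff_eq Nat.prime_two hr).1 (Nat.prime_two.dvd_of_dvd_pow h7)
    omega

end Cfsg.Agent.PQ.SS
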