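import Cfsg.Agent.PQ.SS.DfTor
import Cfsg.Agent.PQ.SS.A
import Cfsg.Agent.PQ.SS.Asm
import Cfsg.Agent.S2299
import Cfsg.Agent.S2300

/-!
# PQ, defining characteristic: linear and unitary groups (helper74)

`dfnA : Dfn ClA`.
-/

set_option autoImplicit false
set_option linter.unusedSectionVars false

namespace Cfsg.Agent.PQ.SS.Df

open Cfsg Cfsg.Agent.DL Cfsg.Agent.DL.PP Cfsg.Agent.KZ.Lie Cfsg.Agent.KZ.Dat Matrix Equiv Cfsg.Agent.PQ.SS.RA

section

variable {p : ℕ} [Fact p.Prime] {k : Type} [Field k] [CharP k p] {Y : Type} [Group Y] {N : Type} [Fintype N]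
  [DecidableEq N] {ρ : Y →* GL N k} {F : MulAut Y} {G : Subgroup Y} [IsAlgClosed k] {D : Datum p ρ F G}
  {Adm : Matrix D.R D.R ℤ → Prop} {S : Type} [Group S] {s : Sit D Adm S} {Q t : ℤ}

theorem wA (L : AL s Q) (ex : ∀ σ, ∃ w, D.Wm w * D.Mx = Q • spm σ 1) (wm : ∀ v, ∃ π, D.Wm v = spm π 1)
    (pk : PkA D.R Q t) : W p t.natAbs (Nat.card s.H1) S := by
  obtain ⟨σ, c, h1, h2, h3, h4⟩ := pk
  obtain ⟨w, hw⟩ := ex σ
  obtain ⟨f⟩ := nonempty_fr D
  have := DL.Asm.finite_GF D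
  have := Fintype.ofFinite (GF F G)
  have := s.normal
  have := L.ne
  refine (w_spm f hw h1 (fun v => ?_) s.H1 s.π1 s.π1_surj fun z hz => ⟨(s.ker _).1 hz,
    (s.zw_iff ((fx_iff hw c).2 h1)).1 (fun z hz g => ?_) ⟨z.1, z.2⟩ hz⟩).mono h2 dvd_rfl
  · obtain ⟨π, h⟩ := wm v
    exact ⟨π, 1, h, fun h5 => ⟨Equiv.ext fun j => h3 ((zpow_one _).symm.trans (h5 j)), rfl⟩⟩
  · obtain ⟨t, ht⟩ := L.cen z hz
    obtain ⟨x, hx⟩ := cen_act (KZ.Mts.boxApi f s.qs) L.mx L.wt_const ⟨z, s.le z.2⟩ ht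
    rw [hx, h4, _root_.one_zpow, Units.val_one, one_mul]

theorem card_dvd (_ : AL s Q) (δ : Y →* kˣ) (hs : ∀ y ∈ GF F G, δ y = 1 → y ∈ s.H0) {m : ℕ} (hm : m ≠ 0)
    (h : ∀ y ∈ GF F G, δ y ^ m = 1) : Nat.card (GF F G) ∣ Nat.card s.H1 * m := by
  have : NeZero m := ⟨hm⟩
  let φ : GF F G →* rootsOfUnity m k := (δ.comp (Subgroup.subtype _)).codRestrict _ fun y => h y y.2
  rw [← s.H1.card_mul_index]
  refine Nat.mul_dvd_mul_left _ ((Subgroup.index_dvd_of_le (H := φ.ker) fun y hy =>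
    hs y y.2 (congrArg Subtype.val hy)).trans ?_)
  rw [Subgroup.index_ker]
  refine (Subgroup.card_subgroup_dvd_card _).trans ?_
  rw [← IsCyclic.exponent_eq_card]
  exact Monoid.exponent_dvd_of_forall_pow_eq_one fun x => Subtype.ext x.2

end

theorem pdA {p l n m : ℕ} {Q : ℤ} {S : Type} [Group S] (hp : p.Prime) (hl : l.Prime) (hne : l ≠ p) (hn : 2 ≤ n)
    (hQ : 2 ≤ |Q|) (h : ¬ (Q = -2 ∧ n = 2)) (hW : ∀ t, PkA (Fin (n + 1)) Q t → W p t.natAbs m S)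
    (hm : ∏ i ∈ Finset.range (n + 1), (Q ^ (i + 1) - 1).natAbs ∣ m * (Q - 1).natAbs) (hd : l ∣ m) : PD p l S := by
  obtain ⟨n, rfl⟩ : ∃ j, n = j + 2 := ⟨n - 2, by omega⟩
  have h0 : ∀ d, (Q ^ (d + 1) - 1).natAbs ≠ 0 := fun d => Int.natAbs_ne_zero.2 (mul_one (Q ^ (d + 1)) ▸ pow_ne hQ d 1)
  rw [Finset.prod_range_succ', Finset.prod_range_succ, zero_add, pow_one, Nat.mul_dvd_mul_iff_right
    (Nat.pos_of_ne_zero (pow_one Q ▸ h0 0))] at hm
  by_cases h1 : l ∣ ∏ i ∈ Finset.range (n + 1), (Q ^ (i + 1 + 1) - 1).natAbs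
  · refine (hW _ (pkA1 hQ hn h)).pd hp hl hne (h0 _) ?_ hl.not_dvd_one
    rw [mul_one, mul_comm]
    exact (Nat.mul_dvd_mul_right h1 _).trans hm
  · refine (hW _ (pkA2 (n := n + 1) hQ (by omega) fun e => h ⟨e.1, by omega⟩)).pd' hp hl hne hd fun h2 => h1 ?_
    rcases hl.dvd_mul.1 (Int.natAbs_mul _ _ ▸ h2) with h3 | h3
    · exact h3.trans (Finset.dvd_prod_of_mem _ (Finset.self_mem_range_succ n))
    · exact (h3.trans (Int.natAbs_dvd_natAbs.2 ⟨Q + 1, by ring⟩)).trans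
        (Finset.dvd_prod_of_mem _ (Finset.mem_range.2 n.succ_pos))

/-- rank one -/
theorem pd_two {F : Type} [Field F] [Fintype F] {r l : ℕ} [CharP F r] {S : Type} [Group S] [Finite S] [IsSimpleGroup S]
    (hn : ¬ IsMulCommutative S) (hr : r.Prime) (hl : l.Prime) (hne : l ≠ r)
    (i : S ≃* ProjectiveSpecialLinearGroup (Fin 2) F) (hd : l ∣ Nat.card S) : PD r l S := by
  obtain ⟨ψ, h⟩ := Asm.exists_dvd_deg hn hl hd
  refine ⟨ψ, fun h1 => ?_, h⟩
  obtain ⟨e, -, hF⟩ := FiniteField.card F r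
  have h2 := Characters.Core.isIrr_comp (i.symm.toMonoidHom.comp (QuotientGroup.mk' _))
    (i.symm.surjective.comp (QuotientGroup.mk'_surjective _)) ψ.2
  have h3 : ((ψ : S → ℂ) ∘ i.symm.toMonoidHom.comp (QuotientGroup.mk' _)) 1 = (charDegree (ψ : S → ℂ) : ℂ) := by
    rw [Function.comp_apply, map_one, Blocks.Basic.irr_one_eq_charDegree ψ.2]
  have h4 : r ∣ Fintype.card F := hF ▸ dvd_pow_self r e.ne_zero
  have h5 := Fintype.one_lt_card (α := F)
  have h6 : ∀ d : ℕ, (d : ℂ) = Fintype.card F - 1 → d + 1 = Fintype.card F := fun d h => by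
    exact_mod_cast eq_sub_iff_add_eq.1 h
  have h7 : ∀ a, r ∣ a → a + 1 = Fintype.card F ∨ a = 1 ∨ a = Fintype.card F + 1 → False := fun a h7 h8 =>
    hr.not_dvd_one (by
      rcases h8 with h8 | rfl | rfl
      exacts [(Nat.dvd_add_right h7).1 (h8 ▸ h4), h7, (Nat.dvd_add_right h4).1 h7])
  have h8 : charDegree (ψ : S → ℂ) ≠ Fintype.card F := fun h8 =>
    hne ((Nat.prime_dvd_prime_iff_eq hl hr).1 (hl.dvd_of_dvd_pow (hF ▸ h8 ▸ h)))
  generalize charDegree (ψ : S → ℂ) = d at *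
  rcases Nat.even_or_odd (Fintype.card F) with h9 | h9
  · obtain rfl : r = 2 := (Nat.prime_dvd_prime_iff_eq Nat.prime_two hr).1 (Nat.prime_two.dvd_of_dvd_pow (hF ▸ h9.two_dvd)) ▸ rfl
    have h10 := (S2300.result (F := F)).1 _ h2
    rw [h3] at h10
    rcases h10 with h | h | h | h
    exacts [h7 d h1 (.inr (.inl (by exact_mod_cast h))), h7 d h1 (.inl (h6 d h)), h8 (by exact_mod_cast h),
      h7 d h1 (.inr (.inr (by exact_mod_cast h)))]
  · have h10 := (S2299.result h9).1 _ h2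
    rw [h3] at h10
    obtain ⟨j, hj⟩ := h9
    rcases h10 with h | h | h | h | h | h
    exacts [h7 d h1 (.inr (.inl (by exact_mod_cast h))), h8 (by exact_mod_cast h),
      h7 d h1 (.inr (.inr (by exact_mod_cast h))), h7 d h1 (.inl (h6 d h)),
      h7 (2 * d) (h1.mul_left 2) (by have := Nat.cast_injective h; omega),
      h7 (2 * d) (h1.mul_left 2) (by have := Nat.cast_injective h; omega)]

theorem mul_smul_spm {n : ℕ} (Q : ℤ) (σ τ : Perm (Fin n)) : spm (σ * τ⁻¹) 1 * (Q • spm τ 1) = Q • spm σ 1 := by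
  rw [mul_smul_comm, spm_mul, inv_mul_cancel_right]
  rfl

/-- **the linear and unitary groups** -/
theorem _root_.Cfsg.Agent.PQ.SS.dfnA : Dfn ClA := by
  refine dfn_of (fun r S _ h => h.elim .inl fun h => .inr (.inr (.inl h))) ?_
  rintro r l S _ _ hs hn hr hl hne (⟨F, _, _, _, m, h1, h2, ⟨i⟩⟩ | ⟨F, _, _, _, m, q, hF, h1, h2, ⟨i⟩⟩) hd
  · rcases h1.eq_or_lt with rfl | h1
    · exact pd_two hn hr hl hne i hd
    obtain ⟨n, rfl⟩ : ∃ n, m = n + 1 := ⟨m - 1, by omega⟩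
    obtain ⟨p, _, e, k, _, _, _, f, hk, he, hF⟩ := hasL F
    obtain rfl : r = p := char_eq f
    have h3 := Nat.one_lt_pow he.ne' hr.one_lt
    have L := one_mul ((r ^ e : ℕ) : ℤ) ▸ alL hk he f hF (n := n) (by omega) (fun h => h2 (by omega)) i.symm
    have := @Fintype.ofFinite _ (DL.Asm.finite_GF (datL n hk he))
    refine pdA hr hl hne (n := n) (by omega) (by rw [Nat.abs_cast]; exact_mod_cast h3) (by omega)
      (fun t => wA L (fun σ : Perm (Fin (n + 1)) => ⟨_, (congrArg₂ _ (datA_Wm' hk he _ (σ * 1⁻¹)) ?_).trans (mul_smul_spm _ σ 1)⟩)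
        fun v => ⟨_, datA_Wm hk he _ v⟩) ?_ (hd.trans (Subgroup.card_dvd_of_surjective _ (Sit.π1_surj _)))
    · rw [spm_one, Nat.cast_pow]
      rfl
    · refine (Dvd.intro_left _ (card_L f hF).symm).trans (card_dvd L GeneralLinearGroup.det
        (fun y h3 h4 => (mem_ιL f hF y).2 ⟨h3, h4⟩) (by omega) fun y hy => ?_)
      rw [pow_natAbs_eq_one, _root_.zpow_sub, zpow_natCast, det_GFL hy, zpow_one, mul_inv_cancel]
  · obtain ⟨n, rfl⟩ : ∃ n, m = n + 1 := ⟨m - 1, by omega⟩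
    obtain ⟨p, _, e, k, _, _, _, f, hk, he, rfl⟩ := hasU F hF
    obtain rfl : r = p := char_eq f
    have h3 := Nat.one_lt_pow he.ne' hr.one_lt
    have L := alU hk he f hF (n := n) (by omega) (fun h => h2 ⟨by omega, h.2⟩) i.symm
    rw [neg_one_mul] at L
    have := @Fintype.ofFinite _ (DL.Asm.finite_GF (datU n hk he))
    refine pdA hr hl hne (n := n) (by omega) (by rw [abs_neg, Nat.abs_cast]; exact_mod_cast h3) (by omega)
      (fun t => wA L (fun σ : Perm (Fin (n + 1)) =>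
        ⟨_, (congrArg₂ _ (datA_Wm' hk he _ (σ * Fin.revPerm⁻¹)) Mx_U).trans (mul_smul_spm _ σ _)⟩)
        fun v => ⟨_, datA_Wm hk he _ v⟩) ?_ (hd.trans (Subgroup.card_dvd_of_surjective _ (Sit.π1_surj _)))
    refine (Dvd.intro_left _ (card_U f hk he hF).symm).trans (card_dvd L GeneralLinearGroup.det
      (fun y h3 h4 => (mem_ιU f hk he hF y).2 ⟨h3, h4⟩) (by omega) fun y hy => ?_)
    rw [← det_GFU hy]
    congr 1
    omega

end Cfsg.Agent.PQ.SS.Df
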