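import Cfsg.Agent.PQ.SS.DfTor
import Cfsg.Agent.KZ.Dat.SpD
import Cfsg.Agent.KZ.Dat.OmS
import Cfsg.Agent.KZ.ClD.Row
import Cfsg.Agent.H725.Cod
import Cfsg.Agent.S0245
import Cfsg.Agent.S0246
import Cfsg.Agent.S0269
import Cfsg.Agent.S0292
import Cfsg.Agent.S0293
import Cfsg.Agent.S0294
import Cfsg.Agent.S2524

/-!
# PQ, defining characteristic: symplectic and orthogonal groups (helper74)

`dfnB : Dfn ClB`.
-/

set_option autoImplicit false
set_option linter.unusedSectionVars false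

namespace Cfsg.Agent.PQ.SS.Df

open Cfsg Cfsg.Agent.DL Cfsg.Agent.DL.PP Cfsg.Agent.KZ Cfsg.Agent.KZ.Lie Cfsg.Agent.KZ.Dat Cfsg.Agent.KZ.ClD
  Cfsg.Agent.KZ.Dat.Om Matrix Equiv Cfsg.Agent.LieClassical.OrthForms Cfsg.Agent.LieClassical.OrthCore

/-! ### numbers -/

section Num

variable {r l e n c a N t Y : ℕ} {S : Type} [Group S]

theorem W.pdX (h : W r t N S) (hr : r.Prime) (hl : l.Prime) (hne : l ≠ r) (ht : t ≠ 0) (hc : c ∣ 4)
    (hN : c * N = a * t * Y) (hY : l ∣ Y) (h8 : l = 2 → 8 ∣ Y) : PD r l S := by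
  have h1 : t * Y ∣ N * c := ⟨a, by rw [mul_comm N, hN]; ring⟩
  by_cases h2 : l = 2
  · refine h.pd hr hl hne ht (Nat.dvd_of_mul_dvd_mul_right (show 0 < 4 by decide) ?_) hl.not_dvd_one
    rw [mul_one, mul_assoc, h2]
    exact (Nat.mul_dvd_mul_left t (h8 h2)).trans (h1.trans (Nat.mul_dvd_mul_left N hc))
  · exact h.pd hr hl hne ht ((Nat.mul_dvd_mul_left t hY).trans h1) fun h3 =>
      h2 ((Nat.prime_dvd_prime_iff_eq hl Nat.prime_two).1 (hl.dvd_of_dvd_pow (n := 2) (h3.trans hc)))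

/-- the products in the order formulae -/
abbrev PB (q n : ℕ) : ℕ := ∏ i ∈ Finset.range n, (q ^ (2 * (i + 1)) - 1)

theorem dvd_PB {q i : ℕ} (hq : 2 ≤ q) (hi : i < n) {x y : ℤ} (h : x * y = (q : ℤ) ^ (2 * (i + 1)) - 1) : x.natAbs ∣ PB q n := by
  refine Dvd.dvd.trans ⟨y.natAbs, ?_⟩ (Finset.dvd_prod_of_mem _ (Finset.mem_range.2 hi))
  have := Nat.one_le_pow (2 * (i + 1)) q (by omega)
  rw [← Int.natAbs_mul, h, ← Nat.cast_pow]
  omega

theorem eight_dvd (hr : r.Prime) (hne : l ≠ r) (hn : 1 ≤ n) (h : l = 2) : 8 ∣ PB (r ^ e) n :=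
  (Nat.eight_dvd_sq_sub_one_of_odd (hr.odd_of_ne_two (h ▸ hne.symm)).pow).trans
    (Finset.dvd_prod_of_mem (fun i => (r ^ e) ^ (2 * (i + 1)) - 1) (Finset.mem_range.2 hn))

variable (hr : r.Prime) (hl : l.Prime) (hne : l ≠ r) (he : 0 < e) (hn : 1 ≤ n) (hc : c ∣ 4) (hd : l ∣ N)
include hr he hn

theorem w_full {ev : Prop} {ε : ℤˣ} (hW : ∀ t, PkB (Fin (n + 1)) (r ^ e : ℕ) ev ε t → W r t.natAbs N S)
    (h : ε = 1 → n = 1 → 4 ≤ r ^ e) (ht : (t : ℤ) = (r ^ e : ℕ) ^ (n + 1) - ε) : W r t N S := by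
  have h1 := pkB (Q := (r ^ e : ℕ)) (l := Fin.last n) (ε := ε) (η := 1) (ev := ev)
    (by exact_mod_cast Nat.one_lt_pow he.ne' hr.one_lt) (Nat.le_succ n) hn (fun a b => by exact_mod_cast h a b)
    fun h => absurd rfl h
  rw [Fin.val_last, if_pos rfl, if_pos rfl, mul_one, mul_one] at h1
  refine (hW _ h1).mono (Int.natAbs_dvd_natAbs.2 ⟨ε, ht.trans ?_⟩) dvd_rfl
  linear_combination -((r ^ e : ℕ) : ℤ) ^ (n + 1) * Int.units_coe_mul_self ε

include hl hne hc hd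

theorem pdBC (hW : ∀ δ t, PkB (Fin (n + 1)) (r ^ e : ℕ) False δ t → W r t.natAbs N S)
    (hN : c * N = a * PB (r ^ e) (n + 1)) (h : n = 1 → r ^ e < 4 → l ∣ (r ^ e) ^ 2 - 1) : PD r l S := by
  have h0 := Nat.one_le_pow (n + 1) (r ^ e) (pow_pos hr.pos e)
  by_cases h1 : l ∣ ((r ^ e) ^ (n + 1) - 1) * PB (r ^ e) n
  · refine (w_full hr he hn (ε := -1) (hW _) (fun e => absurd e (by decide)) (t := (r ^ e) ^ (n + 1) + 1)
      (by simp)).pdX hr hl hne (Nat.succ_ne_zero _) hc (a := a) ?_ h1 fun h => (eight_dvd hr hne hn h).mul_left _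
    rw [hN, PB, Finset.prod_range_succ, mul_comm 2, pow_mul, ← one_pow 2, Nat.sq_sub_sq, one_pow]
    ring
  · have h2 : ¬ l ∣ (r ^ e) ^ (n + 1) - 1 := fun h => h1 (h.mul_right _)
    exact (w_full hr he hn (ε := 1) (hW _) (fun _ a => not_lt.1 fun b => h2 (by rw [a]; exact h a b))
      (by rw [Nat.cast_sub h0, Nat.cast_pow]; rfl)).pd' hr hl hne hd h2

theorem pdD {ε : ℤˣ} (hW : ∀ t, PkB (Fin (n + 2)) (r ^ e : ℕ) True ε t → W r t.natAbs N S)
    (ht : (t : ℤ) = (r ^ e : ℕ) ^ (n + 2) - ε) (hN : c * N = a * t * PB (r ^ e) (n + 1)) : PD r l S := by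
  have h0 := Nat.one_lt_pow he.ne' hr.one_lt
  by_cases h1 : l ∣ PB (r ^ e) (n + 1)
  · refine (w_full hr he (n := n + 1) (by omega) hW (by omega) ht).pdX hr hl hne (fun h => ?_) hc hN h1
      (eight_dvd hr hne (by omega))
    exact absurd (eq_zero_of_pow (by rw [Nat.abs_cast]; exact_mod_cast h0) (ht.symm.trans (by rw [h]; rfl))).1 (by omega)
  · have h2 := pkB (Q := (r ^ e : ℕ)) (l := (⟨n, by omega⟩ : Fin (n + 1 + 1))) (ε := -1) (η := -ε) (ev := True)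
      (by exact_mod_cast h0) le_rfl hn (fun e => absurd e (by decide)) fun _ => trivial
    rw [if_neg (Nat.succ_ne_self n).symm, if_neg (Nat.succ_ne_self n).symm, neg_mul_neg, one_mul] at h2
    refine (hW _ h2).pd' hr hl hne hd fun h3 => h1 ?_
    rcases hl.dvd_mul.1 (Int.natAbs_mul _ _ ▸ h3) with h4 | h4
    · refine h4.trans (dvd_PB h0 (Nat.lt_succ_self n) (y := 1 - (r ^ e : ℕ) ^ (n + 1)) ?_)
      rw [Units.val_neg, Units.val_one]
      ring
    · refine h4.trans (dvd_PB h0 n.succ_pos (y := 1 - (r ^ e : ℕ) * ε) ?_)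
      rw [Units.val_neg]
      linear_combination ((r ^ e : ℕ) : ℤ) ^ 2 * Int.units_coe_mul_self ε

end Num

/-! ### sections -/

theorem cz_of {Y St : Type} [Group Y] [Group St] {F : MulAut Y} {G : Subgroup Y} (ι : St →* GF F G)
    (inj : Function.Injective ι) (h1 : ι.range.Normal)
    (h2 : ∀ z ∈ Subgroup.center St, (∀ y ∈ G, y * ι z = ι z * y) ∧ z ^ 2 = 1) : Cz F G (St ⧸ Subgroup.center St) := by
  refine ⟨ι.range, (QuotientGroup.mk' _).comp (MonoidHom.ofInjective inj).symm.toMonoidHom, h1,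
    (QuotientGroup.mk'_surjective _).comp (MonoidHom.ofInjective inj).symm.surjective, fun z hz => ?_⟩
  obtain ⟨z, rfl⟩ := (MonoidHom.ofInjective inj).surjective z
  have h3 := h2 _ ((QuotientGroup.eq_one_iff _).1 hz)
  rw [show (MonoidHom.ofInjective inj).symm.toMonoidHom (MonoidHom.ofInjective inj z) = z from
    MulEquiv.symm_apply_apply _ z] at h3
  exact ⟨h3.1, by rw [← map_pow, h3.2, map_one]⟩

section Dat

variable {p : ℕ} [Fact p.Prime] {k : Type} [Field k] [CharP k p] [IsAlgClosed k]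
  (hk : ∀ a : k, ∃ j, 0 < j ∧ a ^ p ^ j = a) {e : ℕ} (he : 0 < e)
  {F : Type} [Field F] [Fintype F] (f : F →+* k) (hF : Fintype.card F = p ^ e)

omit [Fintype F] in
theorem cen_sq {m : ℕ} {s : symplecticGroup (Fin (m + 1)) F} (hs : s ∈ Subgroup.center _) : s ^ 2 = 1 := by
  obtain ⟨a, ha⟩ := (LieClassical.SympCenter.mem_center_iff _ s).1 hs
  apply Subtype.ext
  show s.1 ^ 2 = 1
  rw [ha, smul_pow, one_pow, sq, LieClassical.SympCenter.sq_eq_one_of_smul_mem (Nat.le_add_left 1 m) (ha ▸ s.2), one_smul]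

include f hF

theorem czC (m : ℕ) : Cz (FC (m + 1) k p e) (GC (m + 1) k) (PSp (m + 1) F) := by
  have h : (eqvC (n := m + 1) f hF).toMonoidHom.range = ⊤ := MonoidHom.range_eq_top.2 (eqvC f hF).surjective
  exact cz_of (eqvC f hF).toMonoidHom (eqvC f hF).injective (h ▸ inferInstance) fun s hs =>
    ⟨(kerC f s).1 ((QuotientGroup.eq_one_iff s).2 hs), cen_sq hs⟩

omit f in
theorem cz_bc {ι : Type} [Fintype ι] [DecidableEq ι] {m : ℕ} {J : Type} [Fintype J] [DecidableEq J] {W : Type} [Group W]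
    {M : CoxeterMatrix (Fin m)} {A : Fin m → Fin m → ℤ} {cs : CoxeterSystem M W}
    {h : ChevalleyStructure.CoxeterGeom.IsCartan M A} {O : OS J cs h} {s : Fin m × Bool → Fin m × Bool}
    {γ : (Fin m → ℤ) → Fin m → ℤ} {B : Matrix (Fin m) (Fin m) ℤ} [Finite W] (S : O.Sy s γ B)
    (h2 : Nonempty J → (2 : k) ≠ 0) {f : F →+* k} {Q0 : QuadraticForm F (ι → F)} (T : Bc p f Q0 e (rr J k S.inv))
    (hQ : Nice Q0) (l : Fin m × Bool) : Cz (S.F k p e) (O.G k) (POmega F Q0) := by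
  refine cz_of (T.io.codRestrict _ (T.io_mem S h2 hF hQ l)) (fun _ _ h => T.io_inj (congrArg Subtype.val h))
    ⟨?_⟩ fun z hz => ⟨fun y _ => Units.ext ?_, T.io_inj (Units.ext ?_)⟩
  · rintro _ ⟨t, rfl⟩ g
    obtain ⟨a, -, ha⟩ := (T.mem_GF S h2 hF hQ l).1 g.2
    refine ⟨⟨a * t * a⁻¹, Subgroup.Normal.conj_mem (Subgroup.commutator_normal ⊤ ⊤) _ t.2 a⟩, Subtype.ext ?_⟩
    show T.ψ (a.1 * t.1.1 * a.1⁻¹) = g.1 * T.ψ t.1.1 * g.1⁻¹
    rw [map_mul, map_mul, map_inv, ha]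
  · show y.val * (T.io z).val = (T.io z).val * y.val
    rcases T.cen hQ hz with e | e <;> simp [e]
  · rw [map_pow, map_one]
    show (T.io z).val ^ 2 = 1
    rcases T.cen hQ hz with e | e <;> simp [e]

theorem czB {m : ℕ} (h2 : (2 : k) ≠ 0) (hm : 2 ≤ m) :
    Cz ((osB m).sy_id.F k p e) ((osB m).G k) (POmega F (quadFormOdd m F)) := by
  have := finB m
  rw [← coe_oddForm]
  exact cz_bc hF (osB m).sy_id (fun _ => h2) (bcB f m e) (nice_of (nondeg_oddForm _ _ fun h => h2 (by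
    rw [← map_ofNat f, h, map_zero])) (by simp; omega) (.inr (.inl ⟨0, by omega⟩)) (by simp [coe_oddForm, quadFormOdd_apply]))
    (⟨0, by omega⟩, true)

theorem czP {n : ℕ} (hn : 1 ≤ n) : Cz ((osD n).sy_id.F k p e) ((osD n).G k) (POmega F (quadFormPlus (n + 2) F)) := by
  have := ODD.C2.finD n
  rw [← coe_plusForm]
  exact cz_bc hF (osD n).sy_id h2D (bcP f (n + 2) e) (nice_of (nondeg_plusForm _ _) (by simp; omega) (.inl 0)
    (by simp [coe_plusForm, quadFormPlus_apply])) (0, true)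

theorem czM {n : ℕ} (hn : 1 ≤ n) {a b : F} (hab : ∀ z₁ z₂ : F, z₁ ^ 2 + a * z₁ * z₂ + b * z₂ ^ 2 = 0 → z₁ = 0 ∧ z₂ = 0) :
    Cz ((syD n).F k p e) ((osD n).G k) (POmega F (quadFormMinus (n + 1) F a b)) := by
  have := ODD.C2.finD n
  obtain ⟨l, l', h1, h2, h3, h4, h5⟩ := exists_roots f hF hab
  rw [← coe_minusForm]
  exact cz_bc hF (syD n) h2D (bcM f (n + 1) e h1 h2 h3 h4 h5) (nice_of (nondeg_minusForm _ _ _ _ hab) (by simp; omega)
    (.inl (.inl 0)) (by simp [coe_minusForm, quadFormMinus_apply])) (0, true)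

end Dat

/-- the Weil character of degree five -/
theorem pd_five {F : Type} [Field F] [Fintype F] (hF : Fintype.card F = 3) : PD 3 5 (PSp 2 F) := by
  obtain ⟨⟨χ, h⟩⟩ := (Nat.card_ne_zero.1 ((S2524.result (F := F) (by rw [hF]; decide) 2 le_rfl).1.trans_ne two_ne_zero)).1
  have h1 : charDegree χ.1 = 5 := by
    have h2 := (Blocks.Basic.irr_one_eq_charDegree χ.2).symm.trans h
    rw [hF] at h2
    exact_mod_cast h2.trans (show _ = ((5 : ℕ) : ℂ) by norm_num)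
  obtain ⟨ψ, h2⟩ := DGen.exists_push (QuotientGroup.mk' (Subgroup.center _)) (QuotientGroup.mk'_surjective _) (θ := χ)
    fun z hz => by
      have h2 := (QuotientGroup.eq_one_iff z).1 hz
      obtain ⟨c, h3, h4⟩ := H725.Cod.exists_scalar (S0269.result 2 (.inr (.inl ⟨rfl, hF.ge⟩))) χ z h2
      have h5 := h3 2
      rw [cen_sq h2, eq_comm, mul_eq_right₀ (Blocks.Basic.irr_one_ne_zero χ.2)] at h5
      rw [h1, show 5 = 2 * 2 + 1 from rfl, pow_succ, pow_mul, h5, one_pow, one_mul] at h4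
      rw [← pow_one z, h3, h4, one_pow, one_mul]
  rw [h2, Res.pull_deg] at h1
  exact ⟨ψ, by rw [h1]; decide, h1.symm.dvd⟩

theorem mul_sc {n : ℕ} {A B : Matrix (Fin n) (Fin n) ℤ} (h : A = B) (p e : ℕ) :
    A * ((p : ℤ) ^ e • (1 : Matrix (Fin n) (Fin n) ℤ)) = ((p ^ e : ℕ) : ℤ) • B := by
  rw [mul_smul_comm, mul_one, h, Nat.cast_pow]

theorem prod_mul_lsg {n : ℕ} {s : Fin (n + 1) → ℤˣ} (h : ∏ i, s i = -1) : ∏ i, (s * lsg n (-1)) i = 1 := by
  simp only [Pi.mul_apply, Finset.prod_mul_distrib, prod_lsg, h, Int.units_mul_self]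

theorem mul_BD {n : ℕ} {A : Matrix (Fin (n + 2)) (Fin (n + 2)) ℤ} {σ : Perm (Fin (n + 2))} {s : Fin (n + 2) → ℤˣ}
    (h : A = spm σ (s * lsg (n + 1) (-1))) (p e : ℕ) : A * ((p : ℤ) ^ e • ODD.C2.BD n) = ((p ^ e : ℕ) : ℤ) • spm σ s := by
  rw [h, smul_BD, mul_smul_comm, spm_mul, mul_one, Nat.cast_pow]
  exact congrArg (fun x => _ • spm σ x) (funext fun j => by
    rw [Perm.one_apply, Pi.mul_apply, mul_assoc, Int.units_mul_self, mul_one])

/-- **the symplectic and orthogonal groups** -/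
theorem _root_.Cfsg.Agent.PQ.SS.dfnB : Dfn ClB := by
  refine dfn_of (fun r S _ h => h.elim (fun h => .inr (.inl h)) fun h => .inr (.inr (.inr (h.imp_right (Or.imp_right .inl))))) ?_
  intro r l S _ _ _ _ hr hl hne h hd
  have : Fact r.Prime := ⟨hr⟩
  rcases h with ⟨F, _, _, _, m, h1, h2, ⟨i⟩⟩ | ⟨F, _, _, _, m, h1, h2, ⟨i⟩⟩ | ⟨F, _, _, _, m, h1, ⟨i⟩⟩ |
    ⟨F, _, _, _, m, a, b, h1, h2, ⟨i⟩⟩ <;> obtain ⟨k, _, _, _, hk, e, he, f, hF⟩ := hasC r F <;>
    rw [Nat.card_congr i.toEquiv] at hd <;> refine PD.congr ?_ i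
  · obtain ⟨n, rfl⟩ : ∃ n, m = n + 1 := ⟨m - 1, by omega⟩
    have h3 := (Subgroup.card_eq_card_quotient_mul_card_subgroup (Subgroup.center _)).symm.trans (S0245.result hF (n + 1))
    rw [S0246.result hF _ (by omega), mul_comm] at h3
    by_cases h4 : n = 1 → r ^ e < 4 → l ∣ (r ^ e) ^ 2 - 1
    · exact pdBC hr hl hne he (by omega) ((Nat.gcd_dvd_left _ _).trans (by decide)) hd (fun δ t =>
        wB (D := datC (n + 1) hk he) (fun σ s _ => (exists_WmC hk he σ s).imp fun _ h => mul_sc h r e)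
          (fun v => (WmC_spm hk he v).imp fun _ => Exists.imp fun _ h => ⟨False.elim, h⟩) (czC f hF n)) h3 h4
    · rw [Classical.not_imp, Classical.not_imp] at h4
      obtain ⟨rfl, h4, h5⟩ := h4
      have h6 : r ^ e = 3 := by have := h2 rfl; omega
      obtain rfl : r = 3 := (Nat.prime_dvd_prime_iff_eq hr Nat.prime_three).1 (h6 ▸ dvd_pow_self r he.ne')
      have h7 : l ∣ 3 ^ 4 * (8 * (8 * 2 * 5)) := (hd.mul_left _).trans (h3.trans (by rw [h6]; decide)).dvd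
      rw [h6] at h5
      have h8 : ¬ l ∣ 2 := fun h => h5 (h.trans (by decide))
      obtain rfl : l = 5 := by
        simp only [hl.dvd_mul, show ¬ l ∣ 8 from h5, h8, false_or] at h7
        exact (Nat.prime_dvd_prime_iff_eq hl Nat.prime_five).1 (h7.resolve_left fun h =>
          hne ((Nat.prime_dvd_prime_iff_eq hl hr).1 (hl.dvd_of_dvd_pow h)))
      exact pd_five (hF.trans h6)
  · obtain ⟨n, rfl⟩ : ∃ n, m = n + 1 := ⟨m - 1, by omega⟩
    have h3 : (2 : k) ≠ 0 := two_ne hF h2 he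
    exact pdBC hr hl hne he (by omega) (by decide) hd (fun δ t =>
      wB (D := datB (n + 1) h3 hk he) (fun σ s _ => (exists_WmB h3 hk he σ s).imp fun _ h => mul_sc h r e)
        (fun v => (WmB_spm h3 hk he v).imp fun _ => Exists.imp fun _ h => ⟨False.elim, h⟩) (czB f hF h3 (by omega)))
      (S0292.result hF (hF ▸ h2) _ h1) (by omega)
  · obtain ⟨n, rfl⟩ : ∃ n, m = n + 2 := ⟨m - 2, by omega⟩
    exact pdD hr hl hne he (by omega) (Nat.gcd_dvd_left _ _) hd (ε := 1) (fun t =>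
      wB (D := datP n hk he) (fun σ s h => (exists_WmD _ hk he σ h).imp fun _ h => mul_sc h r e)
        (fun v => (WmD_spm _ hk he v).imp fun _ => Exists.imp fun _ h => ⟨fun _ => h.1, h.2⟩) (czP f hF (by omega)))
      (by rw [Nat.cast_sub (Nat.one_le_pow _ _ (pow_pos hr.pos e)), Nat.cast_pow]; rfl) (S0293.result hF _ h1)
  · obtain ⟨n, rfl⟩ : ∃ n, m = n + 2 := ⟨m - 2, by omega⟩
    exact pdD hr hl hne he (by omega) (Nat.gcd_dvd_left _ _) hd (ε := -1) (fun t =>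
      wB (D := datM n hk he) (fun σ s h => (exists_WmD _ hk he σ (prod_mul_lsg h)).imp fun _ h => mul_BD h r e)
        (fun v => (WmD_spm _ hk he v).imp fun _ => Exists.imp fun _ h => ⟨fun _ => h.1, h.2⟩) (czM f hF (by omega) h2))
      (by simp) (S0294.result hF _ h1 a b h2)

end Cfsg.Agent.PQ.SS.Df
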