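import Cfsg.Agent.PQ.SS.DfCore
import Cfsg.Agent.DL.Rows.Rows
import Cfsg.Agent.DL.Tw.Suz
import Cfsg.Agent.DL.Tw.Ree
import Cfsg.Agent.H475.RV.Num

/-!
# PQ, defining characteristic: the exceptional groups (helper90)

`dfnX : Dfn Ex`.
-/

set_option autoImplicit false
set_option linter.unusedSectionVars false

namespace Cfsg.Agent.PQ.SS.DfX

open Cfsg Cfsg.Lie Cfsg.Agent.DL Cfsg.Agent.DL.Rows Cfsg.Agent.DL.Rows.Cert Cfsg.Agent.DL.Ex Cfsg.Agent.DL.Tw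
  Cfsg.Agent.PQ.SS.Df Cfsg.Agent.ChevalleyStructure Cfsg.Agent.ChevalleyStructure.CoxeterGeom
  Cfsg.Agent.ChevalleyStructure.CoxeterGeomTypes Cfsg.Agent.Tits.Roots Cfsg.Agent.Nodes.RGDChev
  Cfsg.Agent.KFacts.RgdChevCoord Cfsg.Agent.BpExc.TowChev

/-- a character from a torus of exponent `n` and rank `l` -/
def WT (p : ℕ) (n : ℤ) (l : ℕ) (S : Type) [Group S] : Prop := n ≠ 0 → W p (n.natAbs ^ l) (Nat.card S) S

variable {q l : ℕ} {n : ℤ} {S : Type} [Group S]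

theorem WT.pd {p : ℕ} (h : WT p n l S) (hp : p.Prime) (hq : q.Prime) (hne : q ≠ p) (h1 : q ∣ Nat.card S) (h2 : ¬ (q : ℤ) ∣ n) :
    PD p q S :=
  (h fun e => h2 (e ▸ dvd_zero _)).pd' hp hq hne h1 fun e => h2 (Int.natCast_dvd.2 (hq.dvd_of_dvd_pow e))

theorem WT.pd2 {p : ℕ} (h : WT p n l S) (hp : p.Prime) (hq : q.Prime) (hne : q ≠ p) (h1 : q ^ (l + 1) ∣ Nat.card S)
    (h2 : (q : ℤ) ∣ n) (h3 : ¬ ((q * q : ℕ) : ℤ) ∣ n) : PD p q S := by
  obtain ⟨u, rfl⟩ := h2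
  have h0 : (q : ℤ) * u ≠ 0 := fun e => h3 (e ▸ dvd_zero _)
  refine (h h0).pd hp hq hne (pow_ne_zero _ (Int.natAbs_ne_zero.2 h0)) (u := u.natAbs ^ l) ?_ fun e =>
    h3 (Nat.cast_mul (α := ℤ) q q ▸ mul_dvd_mul_left _ (Int.natCast_dvd.2 (hq.dvd_of_dvd_pow e)))
  rw [Int.natAbs_mul, Int.natAbs_natCast, mul_pow, mul_right_comm, ← pow_succ]
  exact Nat.mul_dvd_mul_right h1 _

/-- no common zero modulo `n` -/
def twoOK (G₁ G₂ : List ℤ) (n : ℕ) : Bool :=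
  (List.range n).all fun z => peval (1 :: G₁) (z : ℤ) % (n : ℤ) != 0 || peval (1 :: G₂) (z : ℤ) % (n : ℤ) != 0

theorem two_sound {G₁ G₂ : List ℤ} {n : ℕ} (hn : 0 < n) (h : twoOK G₁ G₂ n = true) (z : ℤ) :
    ¬ (n : ℤ) ∣ peval (1 :: G₁) z ∨ ¬ (n : ℤ) ∣ peval (1 :: G₂) z := by
  have h0 : (0 : ℤ) < n := Int.natCast_pos.2 hn
  have h1 := List.all_eq_true.1 h (z % n).toNat (List.mem_range.2 ((Int.toNat_lt (Int.emod_nonneg z h0.ne')).2
    (Int.emod_lt_of_pos z h0)))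
  rw [Int.toNat_of_nonneg (Int.emod_nonneg z h0.ne'), peval_emod, peval_emod, Bool.or_eq_true, bne_iff_ne, bne_iff_ne] at h1
  exact h1.imp (mt Int.emod_eq_zero_of_dvd) (mt Int.emod_eq_zero_of_dvd)

/-- the condition for a small prime -/
def Sm (G₁ G₂ : List ℤ) (z : ℤ) (q l : ℕ) (S : Type) : Prop :=
  (q : ℤ) ∣ peval (1 :: G₁) z → (q : ℤ) ∣ peval (1 :: G₂) z → twoOK G₁ G₂ (q * q) = true ∧ q ^ (l + 1) ∣ Nat.card S

theorem sm_of {G₁ G₂ : List ℤ} {z : ℤ} (hq : 0 < q) (h : twoOK G₁ G₂ q = true) : Sm G₁ G₂ z q l S := fun h1 h2 =>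
  ((two_sound hq h z).elim (· h1) (· h2)).elim

theorem pd_two {p : ℕ} {G₁ G₂ U V : List ℤ} {z : ℤ} (w₁ : WT p (peval (1 :: G₁) z) l S) (w₂ : WT p (peval (1 :: G₂) z) l S)
    (hc : copOK G₁ G₂ U V = true) (hp : p.Prime) (hq : q.Prime) (hne : q ≠ p) (hd : q ∣ Nat.card S)
    (h2 : 2 ≠ p → Sm G₁ G₂ z 2 l S) (h3 : Sm G₁ G₂ z 3 l S) : PD p q S := by
  by_cases e₁ : (q : ℤ) ∣ peval (1 :: G₁) z
  · by_cases e₂ : (q : ℤ) ∣ peval (1 :: G₂) z
    · have h4 : Sm G₁ G₂ z q l S := by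
        by_cases a : q = 2
        · exact a ▸ h2 (a ▸ hne)
        by_cases b : q = 3
        · exact b ▸ h3
        exact ((cop_sound hc hq (hq.five_le_of_ne_two_of_ne_three a b) z).elim (· e₁) (· e₂)).elim
      exact (two_sound (mul_pos hq.pos hq.pos) (h4 e₁ e₂).1 z).elim (w₁.pd2 hp hq hne (h4 e₁ e₂).2 e₁)
        (w₂.pd2 hp hq hne (h4 e₁ e₂).2 e₂)
    · exact w₂.pd hp hq hne hd e₂
  · exact w₁.pd hp hq hne hd e₁

section

variable {p : ℕ} [Fact p.Prime] {k : Type} [Field k] [CharP k p] [IsAlgClosed k]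

theorem wt_type {Y : Type} [Group Y] {N : Type} [Fintype N] [DecidableEq N] {ρ : Y →* GL N k} {F : MulAut Y} {G : Subgroup Y}
    (D : Datum p ρ F G) (hadj : Function.Surjective D.wt) (u : D.W)
    (hg : ∀ ψ : (D.I → ℤ) →+ (D.I → ℤ), (∀ b, ψ b = D.ψ (D.act u b)) → Rows.Good D (Fintype.card D.I) n ψ)
    (ι : S →* ↥(GF F G)) (hi : Function.Injective ι) (hn : ι.range.Normal) : WT p n (Fintype.card D.R) S := fun h0 => by
  obtain ⟨y, hy, hw⟩ := D.exists_type u⁻¹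
  have hF : y⁻¹ * F y ∈ D.NN := ⟨_, hw⟩
  obtain ⟨h1, r, x, η, h2, h3, h4, h5⟩ := hg (D.conj hy hF).ψ fun b => by rw [conj_ψ, hw.pr_eq, inv_inv]
  obtain ⟨θ, h6, h7⟩ := exists_genPos (D := D.conj hy hF) hadj h2 h3 h4 h5
  exact (w_gen (T_mem_tori (D.conj hy hF)) h6 h7 ι hi hn).mono (card_T_dvd (D.conj hy hF) (Int.natAbs_ne_zero.2 h0) fun t ht =>
    pow_natAbs_eq_one.2 (Rows.pow_eq_one (D := D.conj hy hF) hadj h1 ht.1 ht.2.2)) dvd_rfl

variable {T : Ty} {C : ChevalleyDatum} {M : CoxeterMatrix (Fin T.l)} (hp : IsType C T.l M) (hk : LocFin k)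
  {F : MulAut ↥(C.group k)} (amb : Amb p (C.group k).subtype F) (g : (Fin T.l → ℤ) → Fin T.l → ℤ)
  (ex : (Fin T.l → ℤ) → ℕ)
  (g_root : ∀ a, IsRoot M.toCoxeterSystem hp.isCartan a → IsRoot M.toCoxeterSystem hp.isCartan (g a))
  (F_x : ∀ a, IsRoot M.toCoxeterSystem hp.isCartan a →
    ∃ c : k, c ≠ 0 ∧ ∀ u, F (xc hp a u) = xc hp (g a) (c * u ^ p ^ ex a))
  (Mx : Matrix (Fin T.l) (Fin T.l) ℤ) (F_τ : ∀ c, F (tau hp c) = tau hp (mon Mx c))
  {π : Fin T.l → Fin T.l} (hq : ∀ i, g (sr i) = sr (π i)) (hπ : ∀ i, (π i : ℕ) = T.pi.getD i 0)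
  {z : ℤ} (hz : ∀ i, (p : ℤ) ^ ex (sr i) = z * get T.c i)
  (hA : ∀ i j, cartanOf C T.l i j = get (T.row i) j) (hT : T.ok = true)
  (ι : S →* ↥(GF F ⊤)) (hi : Function.Injective ι) (hn : ι.range.Normal)

include hk amb g_root F_x F_τ hq hπ hz hA hT hi hn

theorem wt_tor {R : Tor} (hR : R.ok T = true) (hB : ∀ b ∈ R.B, b.Prime) (hz0 : R.q₀ ≤ z) :
    WT p (peval (1 :: R.Gt) z) T.l S := by
  let E : Datum p (C.group k).subtype F ⊤ := (chev hp hk one_pos).withF amb g ex g_root F_x Mx F_τ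
  have hq' : E.QSp π := hq
  have h1 : Fintype.card E.I = T.l := Fintype.card_fin _
  have h2 : Fintype.card E.R = T.l := Fintype.card_fin _
  rw [← h2]
  refine wt_type E (fun b => ⟨b, rfl⟩) (wordEl M.toCoxeterSystem R.wd) (fun ψ hψ => ?_) ι hi hn
  rw [h1]
  have : Finite M.Group := E.fW
  refine sound M.toCoxeterSystem hp.isCartan hA hT hR hB hz0 (ψ₀ := E.ψ) hψ fun b i j hj => ?_
  have h2 : j = π i := Fin.ext (hj.trans (hπ i).symm)
  rw [h2, ← mul_assoc, ← hz]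
  exact ψ_apply hq' b i

theorem pd_tor {R₁ R₂ : Tor} (h₁ : R₁.ok T = true) (h₂ : R₂.ok T = true) {U V : List ℤ}
    (hc : copOK R₁.Gt R₂.Gt U V = true) (hB : ∀ b ∈ R₁.B ++ R₂.B, b.Prime) (hz₁ : R₁.q₀ ≤ z) (hz₂ : R₂.q₀ ≤ z)
    (hr : q.Prime) (hne : q ≠ p) (hd : q ∣ Nat.card S) (h2 : 2 ≠ p → Sm R₁.Gt R₂.Gt z 2 T.l S)
    (h3 : Sm R₁.Gt R₂.Gt z 3 T.l S) : PD p q S :=
  pd_two (wt_tor hp hk amb g ex g_root F_x Mx F_τ hq hπ hz hA hT ι hi hn h₁ (fun b hb => hB b (List.mem_append_left _ hb)) hz₁)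
    (wt_tor hp hk amb g ex g_root F_x Mx F_τ hq hπ hz hA hT ι hi hn h₂ (fun b hb => hB b (List.mem_append_right _ hb)) hz₂)
    hc Fact.out hr hne hd h2 h3

end

theorem pd_split {T : Ty} {C : ChevalleyDatum} {M : CoxeterMatrix (Fin T.l)} (hp : IsType C T.l M)
    (hπ : ∀ i : Fin T.l, (i : ℕ) = T.pi.getD i 0) (hc : ∀ i : Fin T.l, get T.c i = 1)
    (hA : ∀ i j, cartanOf C T.l i j = get (T.row i) j) (hT : T.ok = true) {R₁ R₂ : Tor} (h₁ : R₁.ok T = true)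
    (h₂ : R₂.ok T = true) {U V : List ℤ} (hcp : copOK R₁.Gt R₂.Gt U V = true) (hB : ∀ b ∈ R₁.B ++ R₂.B, b.Prime)
    {K : Type} [Field K] [Fintype K] (hz₁ : R₁.q₀ ≤ Fintype.card K) (hz₂ : R₂.q₀ ≤ Fintype.card K) {r : ℕ} [i : CharP K r]
    (hq : q.Prime) (hne : q ≠ r) (hd : q ∣ Nat.card ↥(C.group K))
    (h2 : Odd (Fintype.card K) → Sm R₁.Gt R₂.Gt (Fintype.card K) 2 T.l ↥(C.group K))
    (h3 : Sm R₁.Gt R₂.Gt (Fintype.card K) 3 T.l ↥(C.group K)) : PD r q ↥(C.group K) := by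
  obtain ⟨p, e, _, j, _, he, hK, hk⟩ := exists_closure K
  obtain rfl := CharP.eq K j i
  obtain ⟨d, B, hd', hB'⟩ := exists_invC hp
  have O := over_split' hp (algebraMap K (AlgebraicClosure K)) hK hB'
  let E := chev (p := p) hp hk he
  exact pd_tor hp hk E.amb E.g E.ex E.g_root E.F_x E.Mx E.F_τ (π := id) (fun _ => rfl) hπ
    (fun i => by rw [hc, mul_one, hK, Nat.cast_pow]; rfl) hA hT O.hom O.hom_inj O.normal h₁ h₂ hcp hB hz₁ hz₂ hq hne hd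
    (fun h => h2 (hK ▸ ((Fact.out : p.Prime).odd_of_ne_two h.symm).pow)) h3

/-! ### new certificates -/

/-- the type of the Ree groups -/
def tyRe : Ty := { Cert.tyG2 with pi := [1, 0], c := [3, 1] }

/-- a torus -/
def torReA : Tor := ⟨[0, 1, 0, 1, 0], [3, 3], [3, 3], [1, 0], [[1, 0], [0, -1]],
  [[-1, -2], [-1, -1], [-1, 0], [-1, -2], [0, -1], [-1, 0]], [2, 3], 1, 3⟩

/-- a torus -/
def torReB : Tor := ⟨[0], [-3, 3], [-3, 3], [1, 0], [[1, 0], [-3, -1]],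
  [[-1, 2], [-1, 2], [0, -1], [-1, 1], [-1, 0], [-1, 0]], [2, 3], 1, 3⟩

/-- the type of the Suzuki groups -/
def tySz : Ty := ⟨2, [[2, -2], [-1, 2]], [1, 0], [2, 1], [[2, -2], [-1, 2], [0, 2], [1, 0]]⟩

/-- a torus -/
def torSzA : Tor := ⟨[0, 1, 0], [2, 2], [2, 2], [1, 0], [[1, 0], [0, -1]], [[-1, -1], [-1, 0], [-1, 0], [0, -1]], [2, 3], 1, 2⟩

/-- a torus -/
def torSzB : Tor := ⟨[0], [-2, 2], [-2, 2], [1, 0], [[1, 0], [-2, -1]], [[-1, 1], [0, -1], [-1, 0], [-1, 0]], [2, 3], 1, 2⟩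

theorem okRe : tyRe.ok = true ∧ torReA.ok tyRe = true ∧ torReB.ok tyRe = true ∧
    copOK torReA.Gt torReB.Gt [1, -1] [1, 1] = true := by decide +kernel

theorem okSz : tySz.ok = true ∧ torSzA.ok tySz = true ∧ torSzB.ok tySz = true ∧
    copOK torSzA.Gt torSzB.Gt [1, -1] [1, 1] = true := by decide +kernel

/-! ### the rows -/

theorem mod3 {P : List ℤ} {a b z : ℤ} (ha : peval P a % 3 ≠ 0) (hb : peval P b % 3 ≠ 0) (h : 3 ∣ peval P z) :
    z % 3 ≠ a ∧ z % 3 ≠ b := by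
  have := peval_emod P z 3
  constructor <;> intro e <;> rw [e] at this <;> omega

theorem dvd_E7 {K : Type} [Field K] [Fintype K] (h : Odd (Fintype.card K)) : 2 ^ 8 ∣ Nat.card ↥(chevE7.group K) := by
  have h1 := S1064.result (F := K) rfl
  have h2 : ∀ n, 2 ^ 2 ∣ Fintype.card K ^ (2 * n) - 1 := fun n => by
    obtain ⟨a, ha⟩ := h.pow (n := n)
    rw [pow_mul', ha]
    exact ⟨a * a + a, by rw [show (2 * a + 1) ^ 2 = 2 ^ 2 * (a * a + a) + 1 by ring, Nat.add_sub_cancel]⟩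
  rw [Nat.gcd_eq_left (even_iff_two_dvd.1 (h.tsub_odd odd_one))] at h1
  refine Nat.dvd_of_mul_dvd_mul_left two_pos (h1 ▸ dvd_trans (by norm_num) (mul_dvd_mul (mul_dvd_mul (mul_dvd_mul (mul_dvd_mul
    (mul_dvd_mul (one_dvd _) (h2 4)) (h2 5)) (h2 6)) (h2 7)) (h2 9)))

theorem pd_exc {r : ℕ} (hq : q.Prime) (hne : q ≠ r) (h : IsExceptionalChevChar r S) (hd : q ∣ Nat.card S) : PD r q S := by
  obtain ⟨K, _, _, _, ⟨h3, ⟨e⟩⟩ | ⟨⟨e⟩⟩ | ⟨⟨e⟩⟩ | ⟨⟨e⟩⟩ | ⟨⟨e⟩⟩⟩ := h <;> rw [Nat.card_congr e.toEquiv] at hd <;>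
    refine PD.congr ?_ e
  · exact pd_split (T := Cert.tyG2) Rows.hpG2 (by decide) (by decide) (by decide +kernel) okG2 okG2a okG2b copG2 (by decide)
      (Int.ofNat_le.2 h3) (Int.ofNat_le.2 h3) hq hne hd (fun _ => sm_of two_pos (by decide)) (sm_of three_pos (by decide))
  · exact pd_split (T := Cert.tyF4) H493.F4Tor.hp (by decide) (by decide) (by decide +kernel) okF4 okF4a okF4b copF4 (by decide)
      (two_le_card K) (two_le_card K) hq hne hd (fun _ => sm_of two_pos (by decide)) (sm_of three_pos (by decide))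
  · refine pd_split (T := tyE6) Nodes.RGDTwE6.hp (by decide) (by decide) (by decide +kernel) okE6 okE6a okE6b copE6 (by decide)
      (two_le_card K) (two_le_card K) hq hne hd (fun _ => sm_of two_pos (by decide)) fun h _ => ⟨by decide, ?_⟩
    have h1 := mod3 (a := 0) (b := 2) (by decide) (by decide) h
    have h2 := H475.RV.one_le_a3 (H475.RV.two_le (F := K) rfl) (by omega)
    exact (pow_dvd_pow 3 (by show 7 ≤ _; omega)).trans (H475.RV.dvd_E6_of_dvd (F := K) rfl (by omega))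
  · exact pd_split (T := tyE7) Rows.hpE7 (by decide) (by decide) (by decide +kernel) okE7 okE7a okE7b copE7 (by decide)
      (two_le_card K) (two_le_card K) hq hne hd (fun h _ _ => ⟨by decide, dvd_E7 h⟩) (sm_of three_pos (by decide))
  · exact pd_split (T := tyE8) Rows.hpE8 (by decide) (by decide) (by decide +kernel) okE8 okE8a okE8b copE8 (by decide)
      (two_le_card K) (two_le_card K) hq hne hd (fun _ => sm_of two_pos (by decide)) (sm_of three_pos (by decide))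

theorem pd_tw {r : ℕ} (hq : q.Prime) (hne : q ≠ r) (h : IsTwistedE6D4Char r S) (hd : q ∣ Nat.card S) : PD r q S := by
  obtain ⟨K, _, _, i, s, hs, ⟨hK, ⟨e⟩⟩ | ⟨hK, ⟨e⟩⟩⟩ := h <;> rw [Nat.card_congr e.toEquiv] at hd <;> refine PD.congr ?_ e
  · obtain ⟨p, n, _, j, _, hn, hqe, hk⟩ := setup hs two_ne_zero hK
    obtain rfl := CharP.eq K j i
    have O := emb_E6 (algebraMap K (AlgebraicClosure K)) hqe hs hK
    let E := datE6 (p := p) hk hn
    refine pd_tor (T := tyTE6) Nodes.RGDTwE6.hp hk E.amb E.g E.ex E.g_root E.F_x E.Mx E.F_τ (qs_E6 hk hn) (by decide)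
      (z := (p : ℤ) ^ n) (fun i => by
        rw [(by decide : ∀ i : Fin tyTE6.l, get tyTE6.c i = 1) i, mul_one]
        rfl) (by decide +kernel) okTE6 O.hom O.hom_injective O.normal okTE6a okTE6b copTE6 (by decide) (two_le_pow hn)
      (two_le_pow hn) hq hne hd (fun _ => sm_of two_pos (by decide)) fun h _ => ⟨by decide, ?_⟩
    have h1 := mod3 (a := 0) (b := 1) (by decide) (by decide) h
    rw [← Nat.cast_pow, ← hqe] at h1
    have h2 := H475.RV.one_le_a3 hs.two_le (by omega)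
    exact (pow_dvd_pow 3 (by show 7 ≤ _; omega)).trans (H475.RV.dvd_TE6_of_dvd hs hK (by omega))
  · obtain ⟨p, n, _, j, _, hn, hqe, hk⟩ := setup hs three_ne_zero hK
    obtain rfl := CharP.eq K j i
    have O := emb_D4 (algebraMap K (AlgebraicClosure K)) hqe hs hK
    let E := datD4 (p := p) hk hn
    exact pd_tor (T := tyTD4) Nodes.RGDTwD4.hp hk E.amb E.g E.ex E.g_root E.F_x E.Mx E.F_τ (qs_D4 hk hn) (by decide)
      (z := (p : ℤ) ^ n) (fun i => by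
        rw [(by decide : ∀ i : Fin tyTD4.l, get tyTD4.c i = 1) i, mul_one]
        rfl) (by decide +kernel) okTD4 O.hom O.hom_injective O.normal okTD4a okTD4b copTD4 (by decide) (two_le_pow hn)
      (two_le_pow hn) hq hne hd (fun _ => sm_of two_pos (by decide)) (sm_of three_pos (by decide))

theorem pd_tf4 (hq : q.Prime) (hne : q ≠ 2) (h : Iso2F4 S) (hd : q ∣ Nat.card S) : PD 2 q S := by
  obtain ⟨K, _, _, m, hm, hK, ⟨e⟩⟩ := h
  obtain ⟨_, _, hk⟩ := setup' Nat.prime_two (Nat.succ_ne_zero _) hK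
  have O := emb_F4 (algebraMap K (AlgebraicClosure K)) hK
  let E := datF4 hk m
  have h2 : (2 : ℤ) ≤ 2 ^ m := two_le_pow (p := 2) hm
  exact (pd_tor (T := tyTF4) H493.F4Tor.hp hk E.amb E.g E.ex E.g_root E.F_x E.Mx E.F_τ (qs_F4 hk m) (by decide) (ex_TF4 hk m)
    (by decide +kernel) okTF4 O.hom O.hom_injective O.normal okTF4a okTF4b copTF4 (by decide) (one_le_two.trans h2) h2 hq hne
    (Nat.card_congr e.toEquiv ▸ hd) (absurd rfl) (sm_of three_pos (by decide))).congr e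

theorem pd_sz (hq : q.Prime) (hne : q ≠ 2) (h : IsoSuzuki S) (hd : q ∣ Nat.card S) : PD 2 q S := by
  obtain ⟨K, _, _, m, hm, hK, ⟨e⟩⟩ := h
  obtain ⟨_, _, hk⟩ := setup' Nat.prime_two (Nat.succ_ne_zero _) hK
  have O := emb_B2 (algebraMap K (AlgebraicClosure K)) hK
  let E := datB2 hk m
  have h2 : (2 : ℤ) ≤ 2 ^ m := two_le_pow (p := 2) hm
  exact (pd_tor (T := tySz) tyB2 hk E.amb E.g E.ex E.g_root E.F_x E.Mx E.F_τ (qs_B2 hk m) (by decide) (z := 2 ^ m)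
    (fun i => by
      refine (congrArg (_ ^ ·) (ex_B2 hk m i)).trans ?_
      fin_cases i
      exacts [pow_succ _ _, (mul_one _).symm])
    (by decide +kernel) okSz.1 O.hom O.hom_injective O.normal okSz.2.1 okSz.2.2.1 okSz.2.2.2 (by decide) h2 h2 hq hne
    (Nat.card_congr e.toEquiv ▸ hd) (absurd rfl) (sm_of three_pos (by decide))).congr e

theorem pd_ree (hq : q.Prime) (hne : q ≠ 3) (h : IsoRee S) (hd : q ∣ Nat.card S) : PD 3 q S := by
  obtain ⟨K, _, _, m, hm, hK, ⟨e⟩⟩ := h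
  have := Fact.mk Nat.prime_three
  obtain ⟨_, _, hk⟩ := setup' Nat.prime_three (Nat.succ_ne_zero _) hK
  have O := emb_G2 (algebraMap K (AlgebraicClosure K)) hK
  let E := datG2 hk m
  have h2 : (3 : ℤ) ≤ 3 ^ m := le_self_pow₀ (by norm_num) (by omega)
  exact (pd_tor (T := tyRe) Tw.tyG2 hk E.amb E.g E.ex E.g_root E.F_x E.Mx E.F_τ (qs_G2 hk m) (by decide) (z := 3 ^ m)
    (fun i => by
      refine (congrArg (_ ^ ·) (ex_G2 hk m i)).trans ?_
      fin_cases i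
      exacts [pow_succ _ _, (mul_one _).symm])
    (by decide +kernel) okRe.1 O.hom O.hom_injective O.normal okRe.2.1 okRe.2.2.1 okRe.2.2.2 (by decide) h2 h2 hq hne
    (Nat.card_congr e.toEquiv ▸ hd) (fun _ => sm_of two_pos (by decide)) (sm_of three_pos (by decide))).congr e

theorem pd_ex {r : ℕ} (hq : q.Prime) (hne : q ≠ r) (h : Ex r S) (hd : q ∣ Nat.card S) : PD r q S := by
  rcases h with h | h | ⟨rfl, h⟩ | ⟨rfl, h⟩ | ⟨rfl, h⟩
  exacts [pd_exc hq hne h hd, pd_tw hq hne h hd, pd_sz hq hne h hd, pd_tf4 hq hne h hd, pd_ree hq hne h hd]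

end Cfsg.Agent.PQ.SS.DfX

namespace Cfsg.Agent.PQ.SS

/-- **the exceptional groups in the defining characteristic** -/
theorem dfnX : Dfn Ex :=
  Df.dfn_of (fun _ _ _ h => .inr (.inr (.inr (.inr (.inr (.inr h)))))) fun _ _ _ _ _ _ _ _ hq hne h hd => DfX.pd_ex hq hne h hd

end Cfsg.Agent.PQ.SS
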