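import Cfsg.Agent.PQ.SS.IsoDefs
import Cfsg.Agent.PQ.SS.Core
import Cfsg.Agent.PQ.SS.Bad
import Cfsg.Agent.KZ.Exc.ELo78
import Cfsg.Agent.KZ.Exc.EFr78
import Cfsg.Agent.KZ.Exc.ECvpK
import Cfsg.Agent.KZ.Exc.EGram6
import Cfsg.Agent.KZ.Exc.EGp

/-!
# PQ, the primes `3`, `5` in `E₈` (helper30)

`deg_ss` : the degree of `ss f w c` is the class size of the dual element up to a power of the characteristic;
`isoE35 : IsoE35` by the semisimple character of the label with centraliser `E₆ A₂`.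
-/

set_option autoImplicit false
set_option linter.unusedSectionVars false
set_option maxHeartbeats 200000

namespace Cfsg.Agent.PQ.SS

open Cfsg Cfsg.Agent.DL Cfsg.Agent.DL.PP Cfsg.Agent.DL.Uni Cfsg.Agent.DL.Asm Cfsg.Agent.KZ Cfsg.Agent.KZ.Lie
  Cfsg.Agent.LV.Blk Cfsg.Agent.KZ.ClD Cfsg.Agent.Characters.Core Matrix Cfsg.Agent.Nodes.Reps

namespace Iso

variable {p : ℕ} [Fact p.Prime] {k : Type} [Field k] [CharP k p] {Y : Type} [Group Y] {N : Type} [Fintype N]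
  [DecidableEq N] {ρ : Y →* GL N k} {F : MulAut Y} {G : Subgroup Y} [IsAlgClosed k] {D : Datum p ρ F G} {l j : ℕ}
  {v : D.R → ℤ} {B : Matrix D.R D.R ℤ} [Fintype ↥(GF F G)] (f : Fr D)

/-- the semisimple class function does not depend on the type of the torus -/
theorem ss_eq {w w' : D.W} {c : Lbl D} (h : Fx D w c) (h' : Fx D w' c) : ss f w' c = ss f w c := by
  have := Fintype.ofFinite (Wc D c)
  rw [ss, ss, avg_eq, avg_eq]
  congr 1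
  refine Fintype.sum_equiv (Equiv.mulRight (⟨_, h.div h' f.L⟩ : Wc D c)) _ _ fun u => ?_
  simp [mul_assoc]

/-- **The degree of the semisimple class function.** -/
theorem deg_ss (hq : D.QS) (hl : l.Prime) (hB : Dual D l B) (hZ : CZl D l) (x : ↥(GF F G)) {ζ : kˣ} {y : Y}
    (hζ : IsPrimitiveRoot ζ (l ^ j)) (hy : y ∈ G) (hN : y⁻¹ * F y ∈ D.NN) (hx : (x : Y) = y * D.τ (coch v ζ) * y⁻¹)
    {ξ : ℂˣ} (hξ : IsPrimitiveRoot ξ (l ^ j)) : ∃ w, Fx D w (coch (B *ᵥ v) ξ) ∧ ∀ (n : ℕ) (ε : ℂ), ε = 1 ∨ ε = -1 →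
      (n : ℂ) = ε * ss f w (coch (B *ᵥ v) ξ) 1 → ∃ i, n * p ^ i = cls x := by
  have hw := D.rp_pr hN
  have hF : F (y * D.τ (coch v ζ) * y⁻¹) = y * D.τ (coch v ζ) * y⁻¹ := hx ▸ x.2.2
  obtain ⟨w, e⟩ : ∃ w, D.Fw (hB.dl w) = D.pr (y⁻¹ * F y) :=
    ⟨hB.dl.symm (D.Fw.symm _), by rw [Equiv.apply_symm_apply, MulEquiv.apply_symm_apply]⟩
  have h1 : Fx D w (coch (B *ᵥ v) ξ) := by
    refine (fix_iff hξ _).2 ?_
    have h2 := hF
    rw [F_cj_τ hw, mul_left_inj, mul_right_inj, mon_coch] at h2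
    rw [← vecMul_vecMul, hB.vecMul_B, ← mulVec_transpose, mulVec_mulVec, hB.mx, ← mulVec_mulVec, mulVec_mulVec v,
      D.Mx_Wm, e]
    exact ((coch_eq_iff hζ).1 (D.τ_inj h2)).mulVec B
  refine ⟨w, h1, fun n ε h3 h4 => ?_⟩
  have hS : SY (D.conj hy hN) ((l ^ j : ℕ) : ℤ) v = SY D ((l : ℤ) ^ j) v := Subgroup.ext fun u => by
    show Cg _ ((D.conj hy hN).Wm u *ᵥ v) v ↔ Cg _ (D.Wm u *ᵥ v) v
    rw [conj_Wm, Nat.cast_pow]
  obtain ⟨C, h8, ε', h9, h10⟩ := cen_std (D := D.conj hy hN) (v := v) hζ hF fun H hH => by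
    rw [hS]
    exact hB.steinberg' hl hZ fun a ha hd => hH a ha (by rwa [Nat.cast_pow])
  have h11 : (Nat.card (Wc D (coch (B *ᵥ v) ξ)) : ℂ)⁻¹ * (∑ᶠ u : Wc D (coch (B *ᵥ v) ξ), sg D (u * w) / ordT D (u * w)) *
      pc' p (GF F C) = sg D w * ε' := by
    let q : Wc D (coch (B *ᵥ v) ξ) ≃ SY (D.conj hy hN) ((l ^ j : ℕ) : ℤ) v := hB.dl.subtypeEquiv fun u => by
      rw [hS, Wc_eq hξ, Nat.cast_pow]
      exact hB.stab hl j v u
    have := Fintype.ofFinite (Wc D (coch (B *ᵥ v) ξ))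
    rw [← h10, ← finsum_comp_equiv q, ← Nat.card_congr q, finsum_eq_sum_of_fintype, finsum_eq_sum_of_fintype,
      ← mul_assoc, mul_left_comm, Finset.mul_sum _ _ (sg D w)]
    congr 2
    refine Finset.sum_congr rfl fun u _ => ?_
    rw [conj_sg', hB.ordT_dl, e, sg_mul, ← hB.sg_dl u, mul_comm, mul_div_assoc, ordT, ordT, conj_Wm, D.conj_Mx, D.Wm_mul,
      mul_assoc]
    rfl
  have h12 : n * pc' p (GF F C) = pc' p (GF F G) := by
    refine nat_of_sign (ε := ε * (sg D w * ε')) ?_ ?_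
    · rcases h3 with rfl | rfl <;> rcases h9 with rfl | rfl <;> rcases sg_sign D w with h | h <;> simp [h]
    · rw [Nat.cast_mul, h4, ss_one f hq h1, ← h11]
      ring
  have h13 : GF F C ≤ GF F G := fun g hg => ⟨((h8 g).1 hg.1).1, hg.2⟩
  have h14 : Subgroup.centralizer {x} = (GF F C).subgroupOf (GF F G) := Subgroup.ext fun g => by
    rw [Subgroup.mem_subgroupOf, mem_GF, h8, Subgroup.mem_centralizer_singleton_iff,
      Subgroup.mem_centralizer_singleton_iff, Subtype.ext_iff, D.conj_tau, ← hx]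
    exact ⟨fun h => ⟨⟨g.2.1, h⟩, g.2.2⟩, fun h => h.1.2⟩
  have h15 : cls x * Nat.card (GF F C) = Nat.card (GF F G) := by
    rw [← Nat.card_congr (Subgroup.subgroupOfEquivOfLe h13).toEquiv, ← h14]
    exact Subgroup.index_mul_card _
  have h17 : Nat.card (GF F C) ≠ 0 := fun e => by
    rw [e, mul_zero] at h15
    exact Nat.card_pos.ne h15
  obtain ⟨d, hd⟩ := Nat.exists_eq_add_of_le
    (Nat.factorization_le_factorization_of_dvd_right (a := p) (Dvd.intro_left _ h15) h17 Nat.card_pos.ne')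
  refine ⟨d, mul_right_cancel₀ h17 ?_⟩
  have h18 := pc_mul_pc' p (GF F C)
  have h19 := pc_mul_pc' p (GF F G)
  rw [pc] at h18 h19
  rw [hd, pow_add, ← h12] at h19
  rw [h15, ← h19]
  generalize p ^ (Nat.card (GF F C)).factorization p = t at h18 ⊢
  rw [← h18]
  ring

omit [Fintype ↥(GF F G)] in
/-- elements of rational tori -/
theorem exists_elt (hl : l.Prime) (hp : l ≠ p) {w : D.W} (hv : ∀ i, (l : ℤ) ^ j ∣ ((D.Wm w * D.Mx - 1) *ᵥ v) i) :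
    ∃ (x : ↥(GF F G)) (ζ : kˣ) (y : Y), IsPrimitiveRoot ζ (l ^ j) ∧ y ∈ G ∧ y⁻¹ * F y ∈ D.NN ∧
      (x : Y) = y * D.τ (coch v ζ) * y⁻¹ ∧ x ^ l ^ j = 1 ∧ (x = 1 → ∀ i, (l : ℤ) ^ j ∣ v i) := by
  obtain ⟨ζ, hζ⟩ := exists_primL (k := k) hl hp j
  have hy := yw_mem D w
  have hw := yw_rp D w
  have hx : yw D w * D.τ (coch v ζ) * (yw D w)⁻¹ ∈ GF F G :=
    ⟨(D.conj hy ⟨w, hw⟩).T_le_G (τ_mem_cj _ _), by
      show F _ = _ * _ * _
      rw [F_cj_τ hw, (mon_coch_iff hζ _ _).2 (by exact_mod_cast hv)]⟩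
  refine ⟨⟨_, hx⟩, ζ, _, hζ, hy, ⟨w, hw⟩, rfl, Subtype.ext ?_, fun h i => ?_⟩
  · show (yw D w * D.τ (coch v ζ) * (yw D w)⁻¹) ^ l ^ j = 1
    rw [conj_pow, ← map_pow, ← map_pow, hζ.pow_eq_one, map_one, map_one, mul_one, mul_inv_cancel]
  · have h4 : D.τ (coch v ζ) = D.τ 1 := by
      rw [map_one]
      exact conj_eq_one_iff.1 (congrArg Subtype.val h)
    exact_mod_cast (hζ.zpow_eq_one_iff_dvd _).1 (congrFun (D.τ_inj h4) i)

open Cfsg.Agent.KZ.Exc in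
theorem cg_one {Γ : Type} [Group Γ] [Fintype Γ] {Ψ : Γ →* D.W} {c : Lbl D} {w₀ : D.W} {Q : ℤ} (h : Lie.Sc D w₀ Q)
    (E : Fm Ψ c) : cg f w₀ Ψ c (fun _ => 1) = ss f w₀ c := by
  have h1 := cg_Phi (f := f) h E ⊤ 1 (η := fun _ => 1) fun _ _ => rfl
  simp only [Phi_top, mul_one, map_one, one_mul] at h1
  rw [h1, ← MonoidHom.range_eq_map, E.range]
  rfl

open Cfsg.Agent.KZ.Exc in
theorem pn_zero [Finite W6] : Lo78.pn (0, false) 0 = fun _ => 1 := funext fun g => by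
  have h : St DatX.hpE6 (lam6 0) = ⊤ := eq_top_iff.2 fun u _ => by
    rw [mem_St, show lam6 0 = 0 by decide, mulVec_zero]
  rw [Lo78.pn, EFr.ph6_false, h, Phi_top, one_mul]
  exact Int.cast_one

end Iso

open Iso Bad Cfsg.Agent.KZ.Exc Cfsg.Agent.KZ.DatX in
/-- **The primes `3`, `5` in `E₈`.** -/
theorem isoE35 : IsoE35 := by
  intro r S _ _ hr h3 h5 hE
  refine NW.of_left fun M hM => ?_
  have : Fact r.Prime := ⟨hr⟩
  have hA5 : AllD 5 3 S := allD_five hr Nat.prime_three h5.symm (by norm_num) hE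
  obtain ⟨F, _, _, _, ⟨e⟩⟩ := hE
  obtain ⟨n, -, hF⟩ := FiniteField.card F r
  obtain ⟨k, _, _, _, X, ⟨s⟩⟩ := (has_E8 hF).congr e
  obtain ⟨f⟩ := nonempty_fr X.D
  have := X.finite
  have := Fintype.ofFinite ↥(GF X.F ⊤)
  have : Finite W6 := Nat.finite_of_card_ne_zero (by rw [card_W_E6]; decide)
  have := Fintype.ofFinite W6
  have hA : Api f := Mts.boxApi f X.D_qs
  obtain ⟨w₀, Q, h⟩ : ∃ w Q, Lie.Sc X.D w Q := by
    by_cases h1 : (3 : ℤ) ∣ (r : ℤ) ^ (n : ℕ) - 1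
    · exact ⟨1, _, by rw [X.D.Wm_one, one_mul]; rfl, h1⟩
    · obtain ⟨w, hw⟩ := X.exists_neg_E8
      have h2 := Gp.not_dvd_pow h3 n
      refine ⟨w, -(r : ℤ) ^ (n : ℕ), ?_, by omega⟩
      rw [hw, neg_smul]
      exact neg_one_mul X.D.Mx
  have hs : Sca s.sit w₀ Q := ⟨h, h3, fun _ => Gp.adm_F h3, s.sit_π_inj⟩
  let I : In8 f w₀ := ⟨Cl.cx X.D (EFr.T8 2) om, EFr.Ψ8, EFr.fm_of X EFr.inj8 EFr.range8.1, EFr.cube_cx _,
    (congrArg Subgroup.index (EFr.Wc_cx X _)).trans EFr.range8.2, X.exists_neg_E8, EFr.all8 X gram6 h hA,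
    fun b => EFr.three8 X gram6 h hA (0, b)⟩
  obtain ⟨χ, ⟨h1, h2⟩, ε, h4⟩ := Lo78.exists_mem hs I.fm I.cube hM (Lo78.pn_class (0, false) 0)
    (Lo78.gen8 cvpA gram6 I hs hA _ _) (by rw [Lo78.ip_pn gram6, if_pos rfl, Lo78.G6_zero, if_pos rfl, Int.cast_one])
    (z := 2240) (by rw [pn_zero, I.idx, one_mul]; rfl) (by decide)
  rw [pn_zero, cg_one f h I.fm] at h4
  have hε : ((ε : ℤ) : ℂ) = 1 ∨ ((ε : ℤ) : ℂ) = -1 := by rcases Int.units_eq_one_or ε with rfl | rfl <;> simp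
  have hF₀ := Lo78.fx3 h I.cube
  obtain ⟨ψ, h6, i, h7, -⟩ := down f s.sit hM hF₀ ⟨1, I.cube⟩ (s.z1 f _) h1 hε h4
  refine ⟨ψ, h6, fun h8 => h2 (h7 ▸ h8.mul_right _), ?_⟩
  let v : Fin 8 → ℤ := Pi.single 6 1
  obtain ⟨x, ζ, y, hζ, hy, hN, hx, hx3, hx1⟩ := exists_elt (D := X.D) Nat.prime_three h3.symm (j := 1) (h.dvd_mulVec v)
  obtain ⟨w, h8, h9⟩ := deg_ss f X.D_qs Nat.prime_three (Bad.dual_E8 X Nat.prime_three) (czl_XF X Nat.prime_three) x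
    hζ hy hN hx (ξ := om) om_prim
  have hc : coch (invE8 *ᵥ v) om = I.c := congrArg (coch · om) (show invE8 *ᵥ v = EFr.T8 2 by decide +kernel)
  have h8' : Fx X.D w I.c := hc ▸ h8
  obtain ⟨a, h10⟩ := h9 (charDegree (χ : GF X.F ⊤ → ℂ)) _ hε (by
    rw [← Blocks.Basic.irr_one_eq_charDegree χ.2, h4, ← ss_eq f hF₀ h8', ← hc]
    rfl)
  have e' : S ≃* ↥(GF X.F ⊤) := (MonoidHom.ofInjective s.ov.inj).trans (MulEquiv.subgroupCongr s.ov.range_eq)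
  have h11 : 5 ∣ cls x := hA5.congr e'.symm _ (orderOf_eq_prime hx3 fun e1 =>
    absurd (show (3 : ℤ) ^ 1 ∣ 1 from hx1 e1 (6 : Fin 8)) (by norm_num))
  rw [← h10, h7, mul_assoc] at h11
  refine (Nat.prime_five.dvd_mul.1 h11).resolve_right fun h12 => ?_
  rcases Nat.prime_five.dvd_mul.1 h12 with h13 | h13
  · exact absurd (Nat.prime_five.dvd_of_dvd_pow h13) (by norm_num)
  · exact h5 ((Nat.prime_dvd_prime_iff_eq Nat.prime_five hr).1 (Nat.prime_five.dvd_of_dvd_pow h13)).symm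

end Cfsg.Agent.PQ.SS
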