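import Cfsg.Agent.PQ.SS.Defs87

/-!
# PQ, strong converse: the rows without a Levi witness (helper30, task 681): statements
-/

set_option autoImplicit false

namespace Cfsg.Agent.PQ.SS

open Cfsg

/-- `G2` in characteristic `r` -/
def G2c (r : ℕ) (S : Type) [Group S] : Prop :=
  ∃ (F : Type) (_ : Field F) (_ : Fintype F) (_ : CharP F r), Nonempty (S ≃* Lie.chevG2.group F)

/-- `F4` in characteristic `r` -/
def F4c (r : ℕ) (S : Type) [Group S] : Prop :=
  ∃ (F : Type) (_ : Field F) (_ : Fintype F) (_ : CharP F r), Nonempty (S ≃* Lie.chevF4.group F)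

/-- the primes `2`, `3` in `G2` -/
def IsoG2 : Prop := ∀ (r : ℕ) (S : Type) [Group S] [Finite S], r.Prime → 5 ≤ r → G2c r S → NW 2 3 S

/-- the primes `2`, `3` in `F4` -/
def IsoF4 : Prop := ∀ (r : ℕ) (S : Type) [Group S] [Finite S], r.Prime → 5 ≤ r → F4c r S → NW 2 3 S

/-- the primes `2`, `3` in `E8` -/
def IsoE23 : Prop := ∀ (r : ℕ) (S : Type) [Group S] [Finite S], r.Prime → 5 ≤ r → E8c r S → NW 2 3 S

/-- the primes `2`, `5` in `E8` -/
def IsoE25 : Prop := ∀ (r : ℕ) (S : Type) [Group S] [Finite S], r.Prime → r ≠ 2 → r ≠ 5 → E8c r S → NW 2 5 S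

/-- the primes `3`, `5` in `E8` -/
def IsoE35 : Prop := ∀ (r : ℕ) (S : Type) [Group S] [Finite S], r.Prime → r ≠ 3 → r ≠ 5 → E8c r S → NW 3 5 S

end Cfsg.Agent.PQ.SS
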