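import Cfsg.Agent.PQ.SS.PsB
import Cfsg.Agent.PQ.SS.IsoDefs
import Cfsg.Agent.PQ.SS.Bad
import Cfsg.Agent.H649.Transport
import Cfsg.Agent.H307.Heads
import Cfsg.Agent.S1054
import Cfsg.Agent.S1055

/-!
# PQ, strong converse: the rows of the prime `2` in `G₂`, `F₄`, `E₈` (helper81)

`isoG2`, `isoF4`, `isoE23`, `isoE25`.
-/

set_option autoImplicit false
set_option maxHeartbeats 400000

namespace Cfsg.Agent.PQ.SS

open Cfsg Cfsg.Lie Cfsg.Agent.Nodes.RGDChev Cfsg.Agent.ChevalleyStructure Cfsg.Agent.PQ.SS.Bad Cfsg.Agent.ODD.PX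
  Cfsg.Agent.ChevalleyStructure.CoxeterGeomTypes

/-- the rows from the class sizes of the involutions -/
theorem Ps.nw_chev {D : ChevalleyDatum} {l : ℕ} {M : CoxeterMatrix (Fin l)} (hp : IsType D l M) [NeZero l]
    (σ : Equiv.Perm (Fin l)) (B : Fin l → Fin l → ℤ) (h1 : ∀ i j, M (σ i) (σ j) = M i j)
    (h2 : ∀ i j, Even (cartanOf D l (σ i) (σ j) + cartanOf D l j i)) (h3 : ∀ j, ∃ i, ¬ Even (cartanOf D l i j))
    (h4 : ∀ i m, Even (∑ j, B i j * cartanOf D l j m + if m = i then 1 else 0))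
    {K : Type} [Field K] [Fintype K] {r : ℕ} [CharP K r] (hr : r.Prime) (hr2 : r ≠ 2)
    (hs : IsSimpleGroup ↥(D.group K) ∧ ¬ IsMulCommutative ↥(D.group K)) {s : ℕ} (hs' : s.Prime) (hsr : s ≠ r)
    (hA : AllD s 2 ↥(D.group K)) {S : Type} [Group S] [Finite S] (e : S ≃* D.group K) : NW 2 s S := by
  have hW : Finite M.Group := finite_W hp M.toCoxeterSystem
  have : Finite ↥(D.group K) := Finite.of_equiv _ e.toEquiv
  have h0 : (2 : K) ≠ 0 := fun h => hr2 ((Nat.prime_dvd_prime_iff_eq hr Nat.prime_two).1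
    ((CharP.cast_eq_zero_iff K r 2).1 (by exact_mod_cast h)))
  have := hs.1
  have P : Ps.Pd (inS_chev hp K r h0 h3 M.toCoxeterSystem) (cartanOf D l) σ B :=
    ⟨h0, phi_act hp K, h1, h2, h3, h4, H307.Heads.center_eq_bot hs.2⟩
  refine NW.of_left fun M2 hM => ?_
  obtain ⟨x, h5, θ, h6, h7, j, h8⟩ := P.exists_inv hr hr2 hM
  refine ⟨H649.irrMap e.symm θ, ?_, ?_⟩
  · rw [← H649.blkMap_principalBlock e.symm]
    exact H649.irrMap_mem_blkMap.2 h6
  · rw [H649.charDegree_irrMap]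
    exact ⟨h7, (hs'.dvd_mul.1 (h8 ▸ hA x h5)).resolve_right fun h =>
      hsr ((Nat.prime_dvd_prime_iff_eq hs' hr).1 (hs'.dvd_of_dvd_pow h))⟩

theorem isoG2 : IsoG2 := by
  rintro r S _ _ hr h5 ⟨F, _, _, _, ⟨e⟩⟩
  have : Fact r.Prime := ⟨hr⟩
  have h2 : (2 : F) ≠ 0 := fun h => by
    have := Nat.le_of_dvd two_pos ((CharP.cast_eq_zero_iff F r 2).1 (by exact_mod_cast h))
    omega
  exact Ps.nw_chev (M := CoxeterMatrix.G₂) (by simp [IsType, typeList]) 1 ![![0, 1], ![1, 0]] (fun _ _ => rfl)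
    (by decide +kernel) (by decide +kernel) (by decide +kernel) hr (by omega)
    (S1055.result ⟨-1, neg_ne_zero.2 one_ne_zero, fun h => h2 (by linear_combination -h)⟩) Nat.prime_three (by omega)
    (allD_G2 r F Nat.prime_two (by omega) (by omega)) e

theorem isoF4 : IsoF4 := by
  rintro r S _ _ hr h5 ⟨F, _, _, _, ⟨e⟩⟩
  have : Fact r.Prime := ⟨hr⟩
  exact Ps.nw_chev (M := CoxeterMatrix.F₄) (by simp [IsType, typeList]) Fin.revPerm
    ![![0, 1, 0, 0], ![1, 0, 0, 0], ![0, 0, 0, 1], ![1, 0, 1, 0]] (fun i j => by fin_cases i <;> fin_cases j <;> rfl)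
    (by decide +kernel) (by decide +kernel) (by decide +kernel) hr (by omega)
    (S1054.result _ (by simp)) Nat.prime_three (by omega) (allD_F4 r F Nat.prime_two (by omega) (by omega)) e

theorem Ps.nw_E8 {r s : ℕ} {S : Type} [Group S] [Finite S] (hr : r.Prime) (h2 : r ≠ 2) (hs : s.Prime) (hsr : s ≠ r)
    (h : E8c r S) (hA : AllD s 2 S) : NW 2 s S := by
  obtain ⟨F, _, _, _, ⟨e⟩⟩ := h
  exact Ps.nw_chev (M := CoxeterMatrix.E₈) (by simp [IsType, typeList]) 1 invE8 (fun _ _ => rfl)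
    (by decide +kernel) (by decide +kernel) (by decide +kernel) hr h2 (S1054.result _ (by simp)) hs hsr
    (hA.congr e.symm) e

theorem isoE23 : IsoE23 := fun r S _ _ hr h5 h => Ps.nw_E8 hr (by omega) Nat.prime_three (by omega) h <| by
  have : Fact r.Prime := ⟨hr⟩
  obtain ⟨F, _, _, _, ⟨e⟩⟩ := h
  exact (allD_E8 r F Nat.prime_two (by omega) (by omega)).congr e

theorem isoE25 : IsoE25 := fun _ _ _ _ hr h2 h5 h =>
  Ps.nw_E8 hr h2 Nat.prime_five h5.symm h (allD_five hr Nat.prime_two h5.symm (by omega) h)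

end Cfsg.Agent.PQ.SS
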