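import Mathlib

/-!
# PQ/SS, row A (helper76): binomial coefficients

* `lucas_pow` : Lucas' congruence for a power of the prime; `not_dvd_choose`, `lucas2`;
* `gauss` : Gaussian binomial coefficients modulo `Q - 1`.
-/

set_option autoImplicit false

namespace Cfsg.Agent.PQ.SS.RA

theorem lucas_pow {p : ℕ} (hp : p.Prime) (v n k : ℕ) :
    n.choose k ≡ (n % p ^ v).choose (k % p ^ v) * (n / p ^ v).choose (k / p ^ v) [MOD p] := by
  have := Fact.mk hp
  induction v generalizing n k with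
  | zero => simp [Nat.mod_one, Nat.ModEq.refl]
  | succ v ih =>
    refine (Choose.choose_modEq_choose_mod_mul_choose_div_nat (p := p)).trans ?_
    have h1 := Choose.choose_modEq_choose_mod_mul_choose_div_nat (p := p) (n := n % p ^ (v + 1)) (k := k % p ^ (v + 1))
    rw [Nat.mod_mod_of_dvd _ (dvd_pow_self p v.succ_ne_zero), Nat.mod_mod_of_dvd _ (dvd_pow_self p v.succ_ne_zero),
      pow_succ', Nat.mod_mul_right_div_self, Nat.mod_mul_right_div_self] at h1
    rw [pow_succ', ← Nat.div_div_eq_div_mul, ← Nat.div_div_eq_div_mul]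
    refine ((ih (n / p) (k / p)).mul_left _).trans ?_
    rw [← mul_assoc]
    exact (h1.mul_right _).symm

theorem not_dvd_choose {q N k : ℕ} (hq : q.Prime) (h : k ≤ N % q) : ¬ q ∣ N.choose k := by
  have h0 := Nat.mod_lt N hq.pos
  have h1 := lucas_pow hq 1 N k
  rw [pow_one, Nat.mod_eq_of_lt (by omega : k < q), Nat.div_eq_of_lt (by omega : k < q), Nat.choose_zero_right, mul_one] at h1
  rw [h1.dvd_iff dvd_rfl]
  intro h2
  have h3 := hq.dvd_factorial.1 (h2.trans (Dvd.intro _ ((mul_assoc _ _ _).symm.trans (Nat.choose_mul_factorial_mul_factorial h))))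
  omega

theorem dvd_choose {l v R s k : ℕ} (hl : l.Prime) (hR : l ^ v ∣ R) (h1 : s < k) (h2 : k < l ^ v) : l ∣ (R + s).choose k := by
  have h := lucas_pow hl v (R + s) k
  obtain ⟨u, rfl⟩ := hR
  rw [Nat.mul_add_mod, Nat.mod_eq_of_lt (h1.trans h2), Nat.mod_eq_of_lt h2, Nat.choose_eq_zero_of_lt h1, zero_mul] at h
  exact (Nat.modEq_zero_iff_dvd).1 h

theorem not_dvd_choose_pow {l R s : ℕ} (hl : l.Prime) (hR : R ≠ 0) (h : s < l ^ R.factorization l) :
    ¬ l ∣ (R + s).choose (l ^ R.factorization l) := by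
  have h1 := lucas_pow hl (R.factorization l) (R + s) (l ^ R.factorization l)
  have h0 : 0 < l ^ R.factorization l := pow_pos hl.pos _
  rw [Nat.mod_self, Nat.choose_zero_right, one_mul, Nat.div_self h0, Nat.choose_one_right,
    Nat.add_div_of_dvd_right (Nat.ordProj_dvd R l), Nat.div_eq_of_lt h, add_zero] at h1
  rw [h1.dvd_iff dvd_rfl]
  exact Nat.not_dvd_ordCompl hl hR

/-- a binomial coefficient which is divisible by exactly one of two primes -/
theorem lucas2 {p q N : ℕ} (hp : p.Prime) (hq : q.Prime) (hpq : p < q) (hN : p ≤ N) (h : N % q < p) :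
    ∃ k ≤ N, (¬ p ∣ N.choose k ∧ q ∣ N.choose k) ∨ (¬ q ∣ N.choose k ∧ p ∣ N.choose k) := by
  have h1 := Nat.mod_lt N hp.pos
  have h2 := Nat.mod_le N p
  have h3 : ∀ l, N = N - N % l + N % l := fun l => (Nat.sub_add_cancel (Nat.mod_le N l)).symm
  have h4 : ∀ l, l ^ 1 ∣ N - N % l := fun l => by rw [pow_one]; exact Nat.dvd_sub_mod N
  rcases lt_trichotomy (N % p) (N % q) with h5 | h5 | h5
  · exact ⟨N % p + 1, by omega, .inr ⟨not_dvd_choose hq h5, by
      nth_rewrite 1 [h3 p]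
      exact dvd_choose hp (h4 p) (Nat.lt_succ_self _) (by rw [pow_one]; omega)⟩⟩
  · have hR : N - N % q ≠ 0 := by omega
    have key : ∀ {l m : ℕ}, l.Prime → m.Prime → p ≤ l → l ∣ N - N % q →
        l ^ (N - N % q).factorization l < m ^ (N - N % q).factorization m →
        ∃ k ≤ N, ¬ l ∣ N.choose k ∧ m ∣ N.choose k := fun {l m} hl hm h6 h7 h8 => by
      have h9 : l ≤ l ^ (N - N % q).factorization l := Nat.le_self_pow (hl.factorization_pos_of_dvd hR h7).ne' l
      refine ⟨l ^ (N - N % q).factorization l, (Nat.le_of_dvd (Nat.pos_of_ne_zero hR) (Nat.ordProj_dvd _ l)).trans (Nat.sub_le _ _),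
        ?_, ?_⟩
      · nth_rewrite 1 [h3 q]
        exact not_dvd_choose_pow hl hR (by omega)
      · nth_rewrite 1 [h3 q]
        exact dvd_choose hm (Nat.ordProj_dvd _ m) (by omega) h8
    have h6 : p ∣ N - N % q := h5 ▸ Nat.dvd_sub_mod N
    rcases lt_trichotomy (p ^ (N - N % q).factorization p) (q ^ (N - N % q).factorization q) with h7 | h7 | h7
    · exact (key hp hq le_rfl h6 h7).imp fun k hk => ⟨hk.1, .inl hk.2⟩
    · exact absurd ((Nat.prime_dvd_prime_iff_eq hp hq).1 (hp.dvd_of_dvd_pow (h7 ▸ dvd_pow_self p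
        (hp.factorization_pos_of_dvd hR h6).ne'))) hpq.ne
    · exact (key hq hp hpq.le (Nat.dvd_sub_mod N) h7).imp fun k hk => ⟨hk.1, .inr hk.2⟩
  · exact ⟨N % q + 1, by omega, .inl ⟨not_dvd_choose hp h5, by
      nth_rewrite 1 [h3 q]
      exact dvd_choose hq (h4 q) (Nat.lt_succ_self _) (by rw [pow_one]; omega)⟩⟩

/-- three blocks of sizes `p - 1`, `1`, `N - p` -/
theorem three {p q N : ℕ} (hp : p.Prime) (hq : q.Prime) (h : p ≤ N % q) :
    ¬ q ∣ N.choose (p - 1) ∧ ¬ q ∣ (N - (p - 1)).choose 1 ∧ (p ∣ N.choose (p - 1) ∨ p ∣ (N - (p - 1)).choose 1) := by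
  have h0 := hp.pos
  have h1 := Nat.mod_lt N hq.pos
  have h2 := Nat.mod_le N q
  rw [Nat.choose_one_right]
  refine ⟨not_dvd_choose hq (by omega), fun h3 => ?_, hp.dvd_mul.1 ?_⟩
  · have h4 := Nat.le_of_dvd (by omega) (show q ∣ N % q - (p - 1) by
      rw [show N % q - (p - 1) = N - (p - 1) - (N - N % q) by omega]
      exact Nat.dvd_sub h3 (Nat.dvd_sub_mod N))
    omega
  · rw [← Nat.choose_succ_right_eq, Nat.sub_add_cancel h0]
    exact Dvd.intro_left _ rfl

/-- the product of the `Q ^ i - 1` -/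
def PP (Q : ℤ) (n : ℕ) : ℤ := ∏ i ∈ Finset.range n, (Q ^ (i + 1) - 1)

theorem PP_succ (Q : ℤ) (n : ℕ) : PP Q (n + 1) = PP Q n * (Q ^ (n + 1) - 1) := Finset.prod_range_succ _ _

theorem gauss (Q : ℤ) (a b : ℕ) : ∃ g : ℤ, g * PP Q a * PP Q b = PP Q (a + b) ∧ g ≡ (a + b).choose a [ZMOD Q - 1] := by
  induction a generalizing b with
  | zero => exact ⟨1, by simp [PP], by simp⟩
  | succ a iha =>
    induction b with
    | zero => exact ⟨1, by simp [PP], by simp⟩
    | succ b ihb =>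
      obtain ⟨g, h1, h2⟩ := iha (b + 1)
      obtain ⟨g', h3, h4⟩ := ihb
      refine ⟨g + Q ^ (a + 1) * g', ?_, ?_⟩
      · rw [show a + (b + 1) = a + 1 + b by omega] at h1
        rw [← add_assoc, PP_succ Q (a + 1 + b)]
        rw [PP_succ Q b] at h1 ⊢
        rw [PP_succ Q a] at h3 ⊢
        linear_combination (Q ^ (a + 1) - 1) * h1 + Q ^ (a + 1) * (Q ^ (b + 1) - 1) * h3
      · rw [show a + 1 + (b + 1) = a + (b + 1) + 1 by omega, Nat.choose_succ_succ, Nat.cast_add]
        refine h2.add ?_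
        rw [show a + (b + 1) = a + 1 + b by omega]
        have h5 := (((Int.modEq_iff_dvd.2 dvd_rfl).symm : Q ≡ 1 [ZMOD Q - 1]).pow (a + 1)).mul h4
        rwa [one_pow, one_mul] at h5

end Cfsg.Agent.PQ.SS.RA
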