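import Cfsg.Agent.PQ.Red.Defs
import Cfsg.Agent.LV.Blk.Sit

/-!
# PQ, converse for the groups of Lie type: the interface (helper81)

SEMI: an `l`-element `x` of `G ^ F` whose centraliser is a Levi subgroup gives a member of the principal `l`-block of
the simple group whose degree is the class size of `x`, up to powers of `l` and of the characteristic.

* datum level: `Dual`, `CZl`, `Hi`, `Good`, `Form`, `Ker`; boxes `BoxCore`, `BoxForm`, `BoxHi`;
* group level: `Semi`, `SemiZ`, `PX`, `WZ`; box `BoxSemi`; rows `RowA`, `RowB`, `RowX`, `Bad3`, `Bad5`, `Bad35`.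
-/

set_option autoImplicit false
set_option linter.unusedSectionVars false

namespace Cfsg.Agent.PQ.SS

open Cfsg Cfsg.Agent.DL Cfsg.Agent.DL.PP Cfsg.Agent.KZ.Lie Cfsg.Agent.LV.Blk Cfsg.Agent.Nodes.Reps Matrix
  Cfsg.Agent.ChevalleyStructure.CoxeterGeom Cfsg.Agent.Tits.Roots

/-! ### group level -/

/-- the class size -/
noncomputable abbrev cls {S : Type*} [Group S] (x : S) : ℕ := (Subgroup.centralizer ({x} : Set S)).index

/-- SEMI for the prime `l` in a group of characteristic `r` -/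
def Semi (r l : ℕ) (S : Type) [Group S] : Prop :=
  ∀ M, IsPModular l M → ∀ x : S, IsL l x → ∃ ψ ∈ principalBlock M S,
    ∀ m : ℕ, m.Prime → m ≠ l → m ≠ r → m ∣ cls x → m ∣ charDegree (ψ : S → ℂ)

/-- SEMI for elements which centralise a Sylow `l`-subgroup -/
def SemiZ (r l : ℕ) (S : Type) [Group S] : Prop :=
  ∀ M, IsPModular l M → ∀ x : S, IsL l x → ¬ l ∣ cls x → ∃ ψ ∈ principalBlock M S, ¬ l ∣ charDegree (ψ : S → ℂ) ∧
    ∀ m : ℕ, m.Prime → m ≠ l → m ≠ r → m ∣ cls x → m ∣ charDegree (ψ : S → ℂ)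

/-- an `l`-element with class size divisible by `m` -/
def PX (l m : ℕ) (S : Type) [Group S] : Prop := ∃ x : S, IsL l x ∧ m ∣ cls x

/-- an `l`-element with class size prime to `l` and divisible by `m` -/
def WZ (l m : ℕ) (S : Type) [Group S] : Prop := ∃ x : S, IsL l x ∧ ¬ l ∣ cls x ∧ m ∣ cls x

/-- linear and unitary groups -/
def ClA (r : ℕ) (S : Type) [Group S] : Prop := IsPSLChar r S ∨ IsPSUChar r S

/-- symplectic and orthogonal groups -/
def ClB (r : ℕ) (S : Type) [Group S] : Prop :=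
  IsPSpChar r S ∨ IsPOmegaOddChar r S ∨ IsPOmegaPlusChar r S ∨ IsPOmegaMinusChar r S

/-- exceptional groups -/
def Ex (r : ℕ) (S : Type) [Group S] : Prop :=
  IsExceptionalChevChar r S ∨ IsTwistedE6D4Char r S ∨ (r = 2 ∧ Lie.IsoSuzuki S) ∨ (r = 2 ∧ Lie.Iso2F4 S) ∨
    (r = 3 ∧ Lie.IsoRee S)

theorem lie_cases {r : ℕ} {S : Type} [Group S] (h : IsLieTypeChar r S) : ClA r S ∨ ClB r S ∨ Ex r S := by
  rcases h with h | h | h | h | h | h | h
  exacts [.inl (.inl h), .inr (.inl (.inl h)), .inl (.inr h), .inr (.inl (.inr (.inl h))),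
    .inr (.inl (.inr (.inr (.inl h)))), .inr (.inl (.inr (.inr (.inr h)))), .inr (.inr h)]

/-- `E8` in characteristic `r` -/
def E8c (r : ℕ) (S : Type) [Group S] : Prop :=
  ∃ (F : Type) (_ : Field F) (_ : Fintype F) (_ : CharP F r), Nonempty (S ≃* Lie.chevE8.group F)

/-- `³D₄` in characteristic `r` -/
def D4c (r : ℕ) (S : Type) [Group S] : Prop :=
  ∃ (K : Type) (_ : Field K) (_ : Fintype K) (_ : CharP K r) (q : ℕ), IsPrimePow q ∧ Fintype.card K = q ^ 3 ∧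
    Nonempty (S ≃* Lie.twistedD4 K q)

/-- SEMI for the good primes: linear and unitary groups -/
def RowA : Prop := ∀ (r l : ℕ) (S : Type) [Group S], r.Prime → l.Prime → l ≠ r → ClA r S → Semi r l S

/-- SEMI for the good primes: symplectic and orthogonal groups -/
def RowB : Prop :=
  ∀ (r l : ℕ) (S : Type) [Group S], r.Prime → l.Prime → l ≠ r → ClB r S → l ≠ 2 → Semi r l S ∧ SemiZ r l S

/-- SEMI for the good primes: exceptional groups -/
def RowX : Prop :=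
  ∀ (r l : ℕ) (S : Type) [Group S], r.Prime → l.Prime → l ≠ r →
    (Ex r S ∧ 5 ≤ l ∧ (E8c r S → 7 ≤ l)) ∨ (D4c r S ∧ l = 3) → Semi r l S ∧ SemiZ r l S

/-- the bad prime `3` -/
def Bad3 : Prop :=
  ∀ (r m : ℕ) (S : Type) [Group S] [Finite S], r.Prime → m.Prime → 3 ≠ r → m ≠ r → 5 ≤ m → Ex r S →
    ¬ D4c r S → 3 ∣ Nat.card S → m ∣ Nat.card S → PX m 3 S

/-- the bad prime `5` -/
def Bad5 : Prop :=
  ∀ (r m : ℕ) (S : Type) [Group S] [Finite S], r.Prime → m.Prime → 5 ≠ r → m ≠ r → 7 ≤ m → E8c r S →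
    m ∣ Nat.card S → PX m 5 S

/-- the pair `3`, `5` in `E8` -/
def Bad35 : Prop :=
  ∀ (r : ℕ) (S : Type) [Group S] [Finite S], r.Prime → 3 ≠ r → 5 ≠ r → E8c r S →
    ∀ M, IsPModular 3 M → ∃ ψ ∈ principalBlock M S, 5 ∣ charDegree (ψ : S → ℂ)

/-! ### datum level -/

variable {p : ℕ} [Fact p.Prime] {k : Type} [Field k] [CharP k p] {Y : Type} [Group Y] {N : Type} [Fintype N]
  [DecidableEq N] {ρ : Y →* GL N k} {F : MulAut Y} {G : Subgroup Y} [IsAlgClosed k] (D : Datum p ρ F G)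

/-- `B` maps cocharacters to characters, simple coroots to multiples of simple roots, and commutes with `F` -/
structure Dual (l : ℕ) (B : Matrix D.R D.R ℤ) : Prop where
  det : ¬ (l : ℤ) ∣ B.det
  sim : ∀ i, ∃ (i' : D.I) (n : ℤ), ¬ (l : ℤ) ∣ n ∧ D.cw i ᵥ* B = n • D.wt (sr i') ∧ B *ᵥ D.cw i' = n • D.wt (sr i)
  mx : D.Mxᵀ * B = B * D.Mx

/-- fundamental coweights up to a factor prime to `l` -/
def CZl (l : ℕ) : Prop := ∃ (n : ℕ) (ϖ : D.I → D.R → ℤ), ¬ l ∣ n ∧ ∀ b i, D.wt b ⬝ᵥ ϖ i = n * b i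

/-- the coefficients of the highest root are prime to `l` -/
def Hi (l : ℕ) : Prop := ∃ θ, D.Rt θ ∧ (∀ a, D.Rt a → a ≤ θ) ∧ ∀ i, ¬ (l : ℤ) ∣ θ i

/-- the roots which vanish on `v` modulo `l ^ j` vanish on `v` -/
def Lev (l j : ℕ) (v : D.R → ℤ) : Prop := ∀ a, D.Rt a → (l : ℤ) ^ j ∣ D.wt a ⬝ᵥ v → D.wt a ⬝ᵥ v = 0

/-- `l` is good -/
def Good (l : ℕ) : Prop :=
  ∀ (j : ℕ) (v : D.R → ℤ), ∃ (n : ℕ) (v' : D.R → ℤ), ¬ l ∣ n ∧ (∀ i, (l : ℤ) ^ j ∣ v' i - n * v i) ∧ Lev D l j v'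

/-- `x` is an `l`-element of a rational torus with a Levi subgroup as connected centraliser -/
def Form (l : ℕ) (x : Y) : Prop :=
  ∃ (j : ℕ) (ζ : kˣ) (v : D.R → ℤ) (y : Y), IsPrimitiveRoot ζ (l ^ j) ∧ y ∈ G ∧ y⁻¹ * F y ∈ D.NN ∧
    x = y * D.τ (coch v ζ) * y⁻¹ ∧ Lev D l j v

variable {D} {Adm : Matrix D.R D.R ℤ → Prop} {S : Type} [Group S]

/-- the labels of the `l`-elements of `H0` are trivial on the kernel of `H0 → S` -/
def Ker [Fintype ↥(GF F G)] (f : Fr D) (s : Sit D Adm S) (l : ℕ) (B : Matrix D.R D.R ℤ) : Prop :=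
  ∀ (j : ℕ) (ζ : kˣ) (v : D.R → ℤ) (y : Y) (ξ : ℂˣ), IsPrimitiveRoot ζ (l ^ j) → ξ ^ l ^ j = 1 → y ∈ G →
    y * D.τ (coch v ζ) * y⁻¹ ∈ s.H0 → s.Z1 f fun i => ξ ^ (B *ᵥ v) i

theorem ker_of_coprime [Fintype ↥(GF F G)] {f : Fr D} (A : Api f) (s : Sit D Adm S) {l : ℕ} (hl : l.Prime)
    (h : ¬ l ∣ Nat.card s.π.ker) (B : Matrix D.R D.R ℤ) : Ker f s l B := by
  intro j ζ v y ξ _ hξ _ _ z hz w g
  have : Finite s.H0 := Finite.of_injective _ (Subgroup.inclusion_injective s.le)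
  refine A.cen' ⟨z, s.le z.2⟩ ((s.ker z).1 hz) w _ (l ^ j) (funext fun i => ?_) ?_ g
  · rw [Pi.pow_apply, ← zpow_natCast, ← _root_.zpow_mul, mul_comm, _root_.zpow_mul, zpow_natCast, hξ, _root_.one_zpow,
      Pi.one_apply]
  · refine Nat.Coprime.pow_left _ ((Nat.Prime.coprime_iff_not_dvd hl).2 fun h1 => h (h1.trans ?_))
    have h2 : orderOf (⟨z, s.le z.2⟩ : ↥(GF F G)) = orderOf (⟨z, hz⟩ : s.π.ker) := by
      rw [← Subgroup.orderOf_coe, ← Subgroup.orderOf_coe (⟨z, hz⟩ : s.π.ker), ← Subgroup.orderOf_coe]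
    rw [h2]
    exact orderOf_dvd_natCard _

end Cfsg.Agent.PQ.SS

namespace Cfsg.Agent.PQ.SS

open Cfsg Cfsg.Agent.DL Cfsg.Agent.DL.PP Cfsg.Agent.KZ.Lie Cfsg.Agent.LV.Blk

/-- the core: the character of an element in `Form` -/
def BoxCore : Prop :=
  ∀ {p : ℕ} [Fact p.Prime] {k : Type} [Field k] [CharP k p] {Y : Type} [Group Y] {N : Type} [Fintype N]
    [DecidableEq N] {ρ : Y →* GL N k} {F : MulAut Y} {G : Subgroup Y} [IsAlgClosed k] {D : Datum p ρ F G} (f : Fr D)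
    [Fintype ↥(GF F G)] {Adm : Matrix D.R D.R ℤ → Prop} {S : Type} [Group S] (s : Sit D Adm S) {l : ℕ}
    {B : Matrix D.R D.R ℤ} {M : Ideal AlgInt}, l.Prime → l ≠ p → IsPModular l M → Dual D l B → CZl D l → Ker f s l B →
    ∀ x : ↥(GF F G), (x : Y) ∈ s.H0 → Form D l x →
      ∃ ψ ∈ principalBlock M S, ∃ i j : ℕ, charDegree (ψ : S → ℂ) * (l ^ i * p ^ j) = cls x ∧
        l ^ i ∣ s.H1.index

/-- for a good prime, a generator of the cyclic group of an `l`-element is in `Form` -/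
def BoxForm : Prop :=
  ∀ {p : ℕ} [Fact p.Prime] {k : Type} [Field k] [CharP k p] {Y : Type} [Group Y] {N : Type} [Fintype N]
    [DecidableEq N] {ρ : Y →* GL N k} {F : MulAut Y} {G : Subgroup Y} [IsAlgClosed k] (D : Datum p ρ F G) {l : ℕ},
    l.Prime → l ≠ p → Good D l → ∀ x ∈ GF F G, IsL l x → ∃ n : ℕ, ¬ l ∣ n ∧ Form D l (x ^ n)

/-- good primes -/
def BoxHi : Prop :=
  ∀ {p : ℕ} [Fact p.Prime] {k : Type} [Field k] [CharP k p] {Y : Type} [Group Y] {N : Type} [Fintype N]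
    [DecidableEq N] {ρ : Y →* GL N k} {F : MulAut Y} {G : Subgroup Y} [IsAlgClosed k] (D : Datum p ρ F G) {l : ℕ},
    l.Prime → CZl D l → Hi D l → Good D l

/-- from the datum to the simple group -/
def BoxSemi : Prop :=
  ∀ {p : ℕ} [Fact p.Prime] {k : Type} [Field k] [CharP k p] {Y : Type} [Group Y] {N : Type} [Fintype N]
    [DecidableEq N] {ρ : Y →* GL N k} {F : MulAut Y} {G : Subgroup Y} [IsAlgClosed k] {D : Datum p ρ F G} (f : Fr D)
    [Fintype ↥(GF F G)] {Adm : Matrix D.R D.R ℤ → Prop} {S : Type} [Group S] (s : Sit D Adm S) {l : ℕ}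
    {B : Matrix D.R D.R ℤ}, l.Prime → l ≠ p → Dual D l B → CZl D l → Good D l → Ker f s l B →
      Semi p l S ∧ (¬ l ∣ Nat.card s.π.ker → ¬ l ∣ s.H1.index → SemiZ p l S)

end Cfsg.Agent.PQ.SS
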