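import Cfsg.Agent.PQ.SS.ANum
import Cfsg.Agent.PQ.SS.Defs
import Cfsg.Agent.H201.BlockMain
import Cfsg.Agent.H573.PCent

/-!
# PQ/SS, row A (helper76): class sizes in systems with block decompositions

* `Wt l m x` : `x` is an `l`-element with class size prime to `l` and divisible by `m`;
* `idx`, `cls_β`, `dvd_idx`; `alpha'`, `exists_wt`; `Wr` (wreath products), `full`, `same`.
-/

set_option autoImplicit false

namespace Cfsg.Agent.PQ.SS.RA

open Subgroup Cfsg.Agent.H201.BlockSys Cfsg.Agent.H201.BlockSys.Sys Cfsg.Agent.LV.Blk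

universe u v

section gen

variable {G : Type*} [Group G]

/-- an element of order dividing `l` with class size prime to `l` and divisible by `m` -/
def Wt (l m : ℕ) (x : G) : Prop := x ^ l = 1 ∧ ¬ l ∣ cls x ∧ m ∣ cls x

theorem cls_of_cen {x : G} (h : ∀ g, g * x = x * g) : cls x = 1 :=
  index_eq_one.2 (eq_top_iff.2 fun g _ => mem_centralizer_singleton_iff.2 (h g))

theorem cls_one : cls (1 : G) = 1 := cls_of_cen fun g => by rw [mul_one, one_mul]

theorem exists_conj [Finite G] {s : ℕ} [Fact s.Prime] {C Q : Subgroup G} (hC : ¬ s ∣ C.index) (hQ : IsPGroup s Q) :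
    ∃ g : G, ∀ a ∈ Q, g * a * g⁻¹ ∈ C := by
  obtain ⟨P, hP⟩ := H573.exists_sylow_le_of_index C hC
  obtain ⟨P2, hP2⟩ := hQ.exists_le_sylow
  obtain ⟨g, rfl⟩ := MulAction.exists_smul_eq G P2 P
  exact ⟨g, fun a ha => hP ⟨a, hP2 ha, rfl⟩⟩

/-- an element of order `t` in the centre of a Sylow subgroup -/
theorem exists_cen [Finite G] {t : ℕ} (ht : t.Prime) (h : t ∣ Nat.card G) : ∃ x : G, x ≠ 1 ∧ x ^ t = 1 ∧ ¬ t ∣ cls x := by
  have := Fact.mk ht
  obtain ⟨R⟩ : Nonempty (Sylow t G) := inferInstance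
  have hnt : Nontrivial R := (nontrivial_iff_ne_bot _).2 (R.ne_bot_of_dvd_card h)
  have hc : Nontrivial (center R) := R.isPGroup'.center_nontrivial
  obtain ⟨n, hn, hn'⟩ := (R.isPGroup'.to_subgroup (center R)).nontrivial_iff_card.1 hc
  obtain ⟨z, hz⟩ := exists_prime_orderOf_dvd_card' (G := center R) t (hn' ▸ dvd_pow_self t hn.ne')
  have hx : orderOf ((z : R) : G) = t := by rw [Subgroup.orderOf_coe, Subgroup.orderOf_coe, hz]
  refine ⟨(z : R), fun h1 => ht.one_lt.ne (by rw [← hx, h1, orderOf_one]), orderOf_dvd_iff_pow_eq_one.1 hx.dvd, fun h1 =>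
    R.not_dvd_index (h1.trans (index_dvd_of_le fun u hu => mem_centralizer_singleton_iff.2 ?_))⟩
  exact congrArg Subtype.val (mem_center_iff.1 z.2 ⟨u, hu⟩)

/-- the order of a wreath product -/
theorem wr_dvd {T o : Type*} [Group T] [Fintype o] [DecidableEq o] (φ : (o → T) →* G) (ψ : Equiv.Perm o →* G)
    (hφ : Function.Injective φ) (h1 : ∀ π t, ψ π * φ t * (ψ π)⁻¹ = φ fun j => t (π⁻¹ j))
    (h2 : ∀ t π, φ t * ψ π = 1 → π = 1) : Nat.card T ^ Fintype.card o * (Fintype.card o).factorial ∣ Nat.card G := by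
  have h3 := card_dvd_of_injective (SemidirectProduct.lift (φ := (mulAutArrow : Equiv.Perm o →* MulAut (o → T))) φ ψ
    fun π => MonoidHom.ext fun t => (h1 π t).symm) ((injective_iff_map_eq_one _).2 fun a ha => by
      have h4 : φ a.1 * ψ a.2 = 1 := ha
      have h5 := h2 _ _ h4
      rw [h5, map_one, mul_one, ← map_one φ] at h4
      exact SemidirectProduct.ext (hφ h4) h5)
  rwa [SemidirectProduct.card, Nat.card_pi, Finset.prod_const, Finset.card_univ, Nat.card_eq_fintype_card (α := Equiv.Perm o),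
    Fintype.card_perm] at h3

end gen

variable {r : ℕ} {S : Sys.{u, v} r} {a b c : S.I}

/-- the index of the group of block diagonal elements -/
noncomputable def idx (h : S.Dec a b c) : ℕ := (S.β h).range.index

theorem card_idx (h : S.Dec a b c) : Nat.card (S.G c) = Nat.card (S.G a) * Nat.card (S.G b) * idx h := by
  rw [idx, ← Nat.card_prod, Nat.card_congr (MonoidHom.ofInjective (S.β_inj h)).toEquiv, card_mul_index]

theorem cls_β (h : S.Dec a b c) {x : S.G a} {y : S.G b} (hd : Disjoint (S.E x) (S.E y)) :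
    cls (S.β h (x, y)) = idx h * (cls x * cls y) := by
  have h1 := card_centralizer_β h x y hd
  refine Nat.eq_of_mul_eq_mul_left (Nat.card_pos (α := centralizer ({S.β h (x, y)} : Set (S.G c)))) ?_
  rw [card_mul_index, card_idx h, h1, ← card_mul_index (centralizer ({x} : Set (S.G a))),
    ← card_mul_index (centralizer ({y} : Set (S.G b)))]
  ring

theorem β_pow (h : S.Dec a b c) {x : S.G a} {y : S.G b} {t : ℕ} (hx : x ^ t = 1) (hy : y ^ t = 1) : S.β h (x, y) ^ t = 1 := by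
  rw [← map_pow, Prod.pow_mk, hx, hy]
  exact map_one _

theorem dvd_idx {s : ℕ} (hs : Sys.Good r s) (h : S.Dec a b c) (hN : S.N (S.M s) b + S.N (S.M s) a = S.N (S.M s) c) :
    s ∣ idx h ↔ s ∣ (S.N (S.M s) c).choose (S.N (S.M s) a) := by
  have h0 : idx h ≠ 0 := index_ne_zero_of_finite
  have h1 := S.fac s hs.1 hs.2.1 hs.2.2 c
  have h2 : S.N (S.M s) a ≤ S.N (S.M s) c := by omega
  have h3 := (Nat.choose_pos h2).ne'
  rw [card_idx h, Nat.factorization_mul (mul_ne_zero (card_ne_zero a) (card_ne_zero b)) h0,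
    Nat.factorization_mul (card_ne_zero a) (card_ne_zero b), Finsupp.add_apply, Finsupp.add_apply,
    S.fac s hs.1 hs.2.1 hs.2.2 a, S.fac s hs.1 hs.2.1 hs.2.2 b, ← Nat.choose_mul_factorial_mul_factorial h2,
    Nat.factorization_mul (mul_ne_zero h3 (Nat.factorial_ne_zero _)) (Nat.factorial_ne_zero _),
    Nat.factorization_mul h3 (Nat.factorial_ne_zero _), Finsupp.add_apply, Finsupp.add_apply,
    show S.N (S.M s) c - S.N (S.M s) a = S.N (S.M s) b by omega] at h1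
  have h4 : S.N (S.M s) c * S.v s = S.N (S.M s) b * S.v s + S.N (S.M s) a * S.v s := by rw [← hN, add_mul]
  rw [hs.1.dvd_iff_one_le_factorization h0, hs.1.dvd_iff_one_le_factorization h3]
  omega

/-- no element of order `t` centralises a Sylow `s`-subgroup -/
theorem alpha' {s t : ℕ} (hs : s.Prime) {m : S.I} {x : S.G m} (hx : x ^ s = 1) (h1 : (1 : S.K) ∉ S.E x)
    (small : ∀ u : S.G m, u ^ t = 1 → u = 1) (n : S.I → ℕ) (split : ∀ c, n c ≠ 0 → ∃ c', S.Dec m c' c ∧ n c' < n c)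
    (zero : ∀ c, n c = 0 → ∀ u : S.G c, u ^ t = 1 → u = 1) (c : S.I) (y : S.G c) (hy : y ^ t = 1) (hd : ¬ s ∣ cls y) :
    y = 1 := by
  have := Fact.mk hs
  induction hk : n c using Nat.strong_induction_on generalizing c with
  | _ k ih =>
    by_cases h0 : n c = 0
    · exact zero c h0 y hy
    obtain ⟨c', hc', hN⟩ := split c h0
    obtain ⟨P'⟩ : Nonempty (Sylow s (S.G c')) := inferInstance
    have hQ : IsPGroup s (((zpowers x).prod (P' : Subgroup (S.G c'))).map (S.β hc')) := by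
      refine IsPGroup.map ?_ _
      rintro ⟨⟨a, b⟩, ⟨i, hi⟩, hb⟩
      obtain rfl : x ^ i = a := hi
      obtain ⟨j, hj⟩ := P'.2 ⟨b, hb⟩
      refine ⟨j + 1, Subtype.ext (Prod.ext ?_ ?_)⟩
      · show (x ^ i) ^ s ^ (j + 1) = 1
        rw [← zpow_natCast, ← zpow_mul, mul_comm, zpow_mul, zpow_natCast, pow_succ', pow_mul, hx, one_pow, one_zpow]
      · show b ^ s ^ (j + 1) = 1
        rw [pow_succ, pow_mul, show b ^ s ^ j = 1 from congrArg Subtype.val hj, one_pow]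
    obtain ⟨g, hg⟩ := exists_conj hd hQ
    have h2 : ∀ a ∈ ((zpowers x).prod (P' : Subgroup (S.G c'))).map (S.β hc'), g⁻¹ * y * g * a = a * (g⁻¹ * y * g) :=
      fun a ha => by
        have h3 := mem_centralizer_singleton_iff.1 (hg a ha)
        calc g⁻¹ * y * g * a = g⁻¹ * (y * (g * a * g⁻¹)) * g := by group
          _ = _ := by rw [← h3]; group
    obtain ⟨u, w, huw⟩ := S.cp hc' x 1 _ (Set.disjoint_left.2 fun z hz hz' => h1 (S.E_one c' hz' ▸ hz))
      (h2 _ ⟨(x, 1), mem_prod.2 ⟨mem_zpowers x, one_mem _⟩, rfl⟩)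
    have h4 : (u, w) ^ t = 1 := S.β_inj hc' (by
      rw [map_pow, ← huw, map_one, ← inv_inv g, inv_inv g⁻¹, conj_pow, hy, mul_one, mul_inv_cancel])
    have hw : w = 1 := ih _ (hk ▸ hN) c' w (congrArg Prod.snd h4) (fun h5 => P'.not_dvd_index (h5.trans
      (index_dvd_of_le fun a ha => mem_centralizer_singleton_iff.2 (by
        have h6 := h2 (S.β hc' (1, a)) ⟨(1, a), mem_prod.2 ⟨one_mem _, ha⟩, rfl⟩
        rw [huw, ← map_mul, ← map_mul] at h6
        exact (congrArg Prod.snd (S.β_inj hc' h6)).symm)))) rfl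
    rw [small u (congrArg Prod.fst h4), hw, show S.β hc' (1, 1) = 1 from map_one _, mul_eq_one_iff_eq_inv,
      mul_eq_left] at huw
    exact huw

/-- different atoms -/
theorem wt_of_lt {s t : ℕ} (hs : Sys.Good r s) (ht : Sys.Good r t) (hst : S.dim (S.M s) < S.dim (S.M t)) (c : S.I)
    (h : t ∣ Nat.card (S.G c)) : ∃ x : S.G c, Wt t s x := by
  have := Fact.mk hs.1
  obtain ⟨x, h1, h2, h3⟩ := exists_cen ht.1 h
  refine ⟨x, h2, h3, by_contra fun h4 => h1 ?_⟩
  obtain ⟨P, hP⟩ := H573.exists_sylow_le_of_index _ h4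
  exact Sys.alpha hs ht hst c P x h2 fun a ha => mem_centralizer_singleton_iff.1 (hP ha)

variable (S) in
/-- wreath products -/
def Wr (m : S.I) : Prop := ∀ (c : S.I) (k : ℕ), k ≤ S.N m c → ∀ x : S.G m, ∃ (a b : S.I) (_ : S.Dec a b c),
  S.N m a = k ∧ S.N m b + k = S.N m c ∧ ∃ y : S.G a, (∀ t, x ^ t = 1 → y ^ t = 1) ∧ S.E y ⊆ S.E x ∧
    Nat.card (centralizer ({x} : Set (S.G m))) ^ k * k.factorial ∣ Nat.card (centralizer ({y} : Set (S.G a)))

/-- copies of an atom centralise a Sylow subgroup -/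
theorem full {t : ℕ} (ht : Sys.Good r t) (hW : Wr S (S.M t)) (c : S.I) {k : ℕ} (hk : k ≤ S.N (S.M t) c) {x : S.G (S.M t)}
    (hx : x ^ t = 1) : ∃ (a b : S.I) (_ : S.Dec a b c), S.N (S.M t) a = k ∧ S.N (S.M t) b + k = S.N (S.M t) c ∧
      ∃ y : S.G a, y ^ t = 1 ∧ S.E y ⊆ S.E x ∧ ¬ t ∣ cls y := by
  obtain ⟨a, b, h, h1, h2, y, h3, h4, h5⟩ := hW c k hk x
  refine ⟨a, b, h, h1, h2, y, h3 t hx, h4, fun h6 => ?_⟩
  have h7 := (Nat.factorization_le_iff_dvd (mul_ne_zero (pow_ne_zero _ Nat.card_pos.ne') (Nat.factorial_ne_zero _))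
    Nat.card_pos.ne').2 h5 t
  have f1 := S.fac t ht.1 ht.2.1 ht.2.2 a
  have f2 := S.fac t ht.1 ht.2.1 ht.2.2 (S.M t)
  rw [S.N_M t ht.1 ht.2.1 ht.2.2, fact_zero ht.1 ht.1.one_lt, add_zero, one_mul,
    fac_index (centralizer ({x} : Set (S.G (S.M t)))) t, Nat.factorization_eq_zero_of_not_dvd (not_dvd_index ht x hx),
    add_zero] at f2
  rw [Nat.factorization_mul (pow_ne_zero _ Nat.card_pos.ne') (Nat.factorial_ne_zero _), Finsupp.add_apply,
    Nat.factorization_pow, Finsupp.smul_apply, smul_eq_mul, f2] at h7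
  rw [h1, fac_index (centralizer ({y} : Set (S.G a))) t] at f1
  have h8 := ht.1.factorization_pos_of_dvd index_ne_zero_of_finite h6
  omega

theorem wt_two {l m : ℕ} (hl : Sys.Good r l) (hm : Sys.Good r m) (hM : S.M m = S.M l) (hW : Wr S (S.M l)) (c : S.I) {k : ℕ}
    (hk : k ≤ S.N (S.M l) c) (h1 : ¬ l ∣ (S.N (S.M l) c).choose k) (h2 : m ∣ (S.N (S.M l) c).choose k) :
    ∃ x : S.G c, Wt l m x := by
  obtain ⟨x, hx, hx1⟩ := exists_elem (S := S) hl
  obtain ⟨a, b, h, rfl, h3, y, h4, h5, h6⟩ := full hl hW c hk hx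
  have h7 := cls_β h ((disjoint_one hl hx hx1 b).mono_left h5)
  rw [cls_one, mul_one] at h7
  refine ⟨_, β_pow h h4 (one_pow _), fun h8 => ?_, ?_⟩
  · rw [h7, hl.1.dvd_mul, dvd_idx hl h h3] at h8
    exact h8.elim h1 h6
  · rw [h7]
    exact ((dvd_idx hm h (hM ▸ h3)).2 (hM ▸ h2)).mul_right _

/-- **two primes with the same atom** -/
theorem same {p q : ℕ} (hp : Sys.Good r p) (hq : Sys.Good r q) (hpq : p < q) (hM : S.M p = S.M q) (hW : Wr S (S.M q)) (c : S.I)
    (h0 : S.N (S.M q) c ≠ 0) : (∃ T : Subgroup (S.G c), (∀ x ∈ T, ∀ y ∈ T, x * y = y * x) ∧ ¬ p ∣ T.index ∧ ¬ q ∣ T.index) ∨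
      (∃ x : S.G c, Wt p q x) ∨ ∃ x : S.G c, Wt q p x := by
  have := Fact.mk hq.1
  obtain ⟨x, hx, hx1⟩ := exists_elem (S := S) hq
  have hMM := S.N_M q hq.1 hq.2.1 hq.2.2
  by_cases hN : S.N (S.M q) c < p
  · by_cases h1 : p ∣ cls x
    · obtain ⟨c', h, h2⟩ := S.split1 q hq.1 hq.2.1 hq.2.2 c h0
      have h3 := cls_β h (disjoint_one hq hx hx1 c')
      rw [cls_one, mul_one] at h3
      refine .inr (.inr ⟨_, β_pow h hx (one_pow _), fun h4 => ?_, h3 ▸ h1.mul_left _⟩)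
      rw [h3, hq.1.dvd_mul, dvd_idx hq h (by omega), hMM, Nat.choose_one_right] at h4
      exact h4.elim (fun h5 => by have := Nat.le_of_dvd (by omega) h5; omega) (not_dvd_index hq x hx)
    · obtain ⟨T, h2, h3⟩ := gamma _ (centralizer_comm hq hx hx1) c {p, q} (by
        rintro s (rfl | rfl)
        exacts [⟨hp, hM, hN, h1⟩, ⟨hq, rfl, by omega, not_dvd_index hq x hx⟩]) ⟨p, .inl rfl⟩
      exact .inl ⟨T, h2, h3 p (.inl rfl), h3 q (.inr rfl)⟩
  refine .inr ?_
  by_cases h1 : S.N (S.M q) c % q < p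
  · obtain ⟨k, hk, h2 | h2⟩ := lucas2 hp.1 hq.1 hpq (not_lt.1 hN) h1
    · exact .inl (wt_two hp hq hM.symm (hM ▸ hW) c (hM ▸ hk) (hM ▸ h2.1) (hM ▸ h2.2))
    · exact .inr (wt_two hq hp hM hW c hk h2.1 h2.2)
  obtain ⟨h2, h3, h4⟩ := three hp.1 hq.1 (not_lt.1 h1)
  have h5 := hp.1.pos
  obtain ⟨a, b, h, h6, h7, y, h8, h9, h10⟩ := full hq hW c (show p - 1 ≤ _ by omega) hx
  obtain ⟨b', h', h11⟩ := S.split1 q hq.1 hq.2.1 hq.2.2 b (by omega)
  obtain ⟨k, hk⟩ := exists_not_mem hp hq hpq hM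
  have h12 : (x ^ (k : ZMod q).val) ^ q = 1 := by rw [← pow_mul, mul_comm, pow_mul, hx, one_pow]
  have h13 : x ^ (k : ZMod q).val ≠ 1 := fun e => by
    have h14 := orderOf_dvd_of_pow_eq_one e
    rw [orderOf_eq_prime hx hx1] at h14
    exact k.ne_zero ((ZMod.val_eq_zero _).1 (Nat.eq_zero_of_dvd_of_lt h14 (ZMod.val_lt _)))
  have h14 := cls_β h (x := y) (y := S.β h' (x ^ (k : ZMod q).val, 1)) (by
    rw [S.E_β, Set.disjoint_union_right]
    exact ⟨(disjoint_pow hq hx hx1 k hk).mono_left h9, (disjoint_one hq hx hx1 b').mono_left h9⟩)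
  rw [cls_β h' (disjoint_one hq h12 h13 b'), cls_one, mul_one] at h14
  rw [show S.N (S.M q) c - (p - 1) = S.N (S.M q) b by omega] at h3 h4
  rw [← h6] at h2 h7 h4
  rw [← hMM] at h3 h4
  refine .inr ⟨_, β_pow h h8 (β_pow h' h12 (one_pow _)), fun h15 => ?_, ?_⟩
  · rw [h14, hq.1.dvd_mul, hq.1.dvd_mul, hq.1.dvd_mul, dvd_idx hq h h7, dvd_idx hq h' (by omega)] at h15
    exact h15.elim h2 fun h16 => h16.elim h10 fun h17 => h17.elim h3 (not_dvd_index hq _ h12)
  · rw [h14]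
    rcases h4 with h4 | h4
    · exact ((dvd_idx hp h (hM ▸ h7)).2 (hM ▸ h4)).mul_right _
    · exact ((((dvd_idx hp h' (by rw [hM]; omega)).2 (hM ▸ h4)).mul_right _).mul_left _).mul_left _

end Cfsg.Agent.PQ.SS.RA
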