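import Cfsg.Agent.PQ.SS.ASys
import Cfsg.Agent.H201.MatSys

/-!
# PQ/SS, row A (helper76): wreath products of matrix groups

`bd e` (block diagonal matrices), `bp e` (block permutations) after a base change `e`; `wr_mat`.
-/

set_option autoImplicit false
set_option linter.unusedSectionVars false

namespace Cfsg.Agent.PQ.SS.RA

open Subgroup Matrix Cfsg.Agent.H201.MatSys Cfsg.Agent.H201.MatSpec

variable {F : Type} [Field F] {ι o n : Type} [Fintype ι] [DecidableEq ι] [Fintype o] [DecidableEq o] [Fintype n]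
  [DecidableEq n] (e : BC n (ι × o) F)

theorem hom_inj {m : Type} [Fintype m] [DecidableEq m] (e : BC n m F) : Function.Injective e.hom := fun A B h => by
  have h2 : ∀ A : Matrix m m F, e.P' * (e.P * A * e.P') * e.P = A := fun A => by
    rw [Matrix.mul_assoc, Matrix.mul_assoc (e.P * A), e.h2, Matrix.mul_one, ← Matrix.mul_assoc, e.h2, Matrix.one_mul]
  rw [← h2 A, ← h2 B]
  exact congrArg (fun X => e.P' * X * e.P) h

/-- block diagonal matrices -/
noncomputable def bd : (o → GL ι F) →* GL n F :=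
  (Units.map (e.hom.comp (blockDiagonalRingHom ι o F).toMonoidHom)).comp MulEquiv.piUnits.symm.toMonoidHom

theorem coe_bd (t : o → GL ι F) : (bd e t : Matrix n n F) = e.hom (blockDiagonal fun j => (t j : Matrix ι ι F)) := rfl

variable (ι) in
/-- permutations of the blocks -/
def pc : Equiv.Perm o →* Equiv.Perm (ι × o) := MonoidHom.mk' (fun π => (Equiv.refl ι).prodCongr π) fun _ _ => rfl

/-- block permutation matrices -/
noncomputable def bp : Equiv.Perm o →* GL n F := (e.hom.comp (permMatrixHom.comp (pc ι))).toHomUnits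

theorem coe_bp (π : Equiv.Perm o) : (bp e π : Matrix n n F) = e.hom ((pc ι π)⁻¹.permMatrix F) := rfl

theorem bd_inj : Function.Injective (bd e) := fun t _ h => funext fun j => Units.ext (congrFun
  (blockDiagonal_injective (hom_inj e (show e.hom (blockDiagonal fun j => (t j : Matrix ι ι F)) = _ from
    congrArg Units.val h))) j)

theorem bp_bd (π : Equiv.Perm o) (t : o → GL ι F) : bp e π * bd e t = bd e (fun j => t (π⁻¹ j)) * bp e π := by
  refine Units.ext ?_
  rw [Units.val_mul, Units.val_mul, coe_bp, coe_bd, coe_bd, ← map_mul, ← map_mul, PEquiv.toMatrix_toPEquiv_mul,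
    PEquiv.mul_toMatrix_toPEquiv]
  congr 1
  ext ⟨i, a⟩ ⟨j, b⟩
  exact if_congr (Equiv.Perm.inv_eq_iff_eq (f := π)) rfl rfl

theorem eq_one_of_bd [Nonempty ι] {t : o → GL ι F} {π : Equiv.Perm o} (h : bd e t * bp e π = 1) : π = 1 := by
  have h1 := congrArg Units.val h
  rw [Units.val_mul, coe_bp, coe_bd, ← map_mul, Units.val_one, ← map_one e.hom, PEquiv.mul_toMatrix_toPEquiv] at h1
  obtain ⟨i⟩ := ‹Nonempty ι›
  refine Equiv.ext fun a => by_contra fun h2 => ?_
  have h3 := congrFun (congrFun (hom_inj e h1) (i, a)) (i, a)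
  rw [one_apply_eq] at h3
  exact zero_ne_one ((if_neg (Ne.symm h2)).symm.trans h3)

theorem sp_bd {K : Type*} [Field K] (φ : F →+* K) (x : GL ι F) :
    sp φ (bd e (fun _ => x) : Matrix n n F) ⊆ sp φ (x : Matrix ι ι F) := fun z hz => by
  have h1 : z • (1 : Matrix (ι × o) (ι × o) K) - (blockDiagonal fun _ : o => (x : Matrix ι ι F)).map φ =
      blockDiagonal fun _ : o => z • (1 : Matrix ι ι K) - (x : Matrix ι ι F).map φ := by
    rw [blockDiagonal_map _ _ (map_zero φ), ← blockDiagonal_one, ← blockDiagonal_smul, ← blockDiagonal_sub]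
    rfl
  rw [show (bd e (fun _ => x) : Matrix n n F) = e.P * (blockDiagonal fun _ : o => (x : Matrix ι ι F)) * e.P' from rfl, sp_conj e.h1 e.h2, mem_sp_iff_det, h1,
    det_blockDiagonal, Finset.prod_const] at hz
  exact mem_sp_iff_det.2 (pow_eq_zero_iff'.1 hz).1

/-- **the wreath product in the centraliser** -/
theorem wr_mat [Nonempty ι] {A : Subgroup (GL ι F)} {B : Subgroup (GL n F)} (hA : ∀ t, (∀ j, t j ∈ A) → bd e t ∈ B)
    (hB : ∀ π, bp e π ∈ B) (x : A) : ∃ y : B, (y : GL n F) = bd e (fun _ => x) ∧ (∀ t, x ^ t = 1 → y ^ t = 1) ∧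
      Nat.card (centralizer ({x} : Set A)) ^ Fintype.card o * (Fintype.card o).factorial ∣
        Nat.card (centralizer ({y} : Set B)) := by
  let y : B := ⟨bd e fun _ => x, hA _ fun _ => x.2⟩
  let c : (o → centralizer ({x} : Set A)) →* o → GL ι F :=
    MonoidHom.mk' (fun t j => ((t j : A) : GL ι F)) fun _ _ => rfl
  refine ⟨y, rfl, fun t ht => Subtype.ext ?_, wr_dvd
    ((((bd e).comp c).codRestrict B fun t => hA _ fun j => (t j).1.2).codRestrict (centralizer {y}) fun t => ?_)
    (((bp e).codRestrict B hB).codRestrict (centralizer {y}) fun π => ?_) (fun t t' h => ?_) (fun π t => ?_) fun t π h => ?_⟩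
  · show bd e (fun _ => x) ^ t = 1
    rw [← _root_.map_pow, ← map_one (bd e)]
    exact congrArg _ (funext fun _ => congrArg Subtype.val ht)
  · refine mem_centralizer_singleton_iff.2 (Subtype.ext ?_)
    show bd e (c t) * bd e _ = bd e _ * bd e (c t)
    rw [← map_mul, ← map_mul]
    exact congrArg _ (funext fun j => congrArg Subtype.val (mem_centralizer_singleton_iff.1 (t j).2))
  · exact mem_centralizer_singleton_iff.2 (Subtype.ext (bp_bd e π _))
  · exact funext fun j => Subtype.ext (Subtype.ext (congrFun (bd_inj e (congrArg (fun g => g.1.1) h)) j))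
  · exact mul_inv_eq_of_eq_mul (Subtype.ext (Subtype.ext (bp_bd e π (c t))))
  · exact eq_one_of_bd e (t := c t) (congrArg (fun g => g.1.1) h)

end Cfsg.Agent.PQ.SS.RA
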