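import Cfsg.Agent.PQ.SS.Fm
import Cfsg.Agent.PQ.Red.A
import Cfsg.Agent.H17.CR.Orth

/-!
# PQ/SS, classical groups (helper35): binomial coefficients, centralisers, powers of a space

* `dvd_choose_iff`, `low`, `comb`, `nu_split`;
* `ce`, `wz_of`, `wz_of_pa`, `WZ.congr`, `WZ.normal`, `WZ.quot`, `com_of_pt`;
* `pw M k`, `dg`, `pm`, `ce_dg`.
-/

set_option autoImplicit false
set_option linter.unusedSectionVars false

namespace Cfsg.Agent.PQ.SS.RB

open Cfsg Cfsg.Agent.LV.Blk Cfsg.Agent.H17.CR Subgroup Equiv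

/-! ### numbers -/

section Num

variable {p q N k : ℕ}

theorem dvd_choose_iff (hp : p.Prime) (h : k ≤ N) : p ∣ N.choose k ↔ ∃ i, N % p ^ i < k % p ^ i := by
  have h0 := (Nat.choose_pos h).ne'
  have h1 : ∀ i, N % p ^ i = (k % p ^ i + (N - k) % p ^ i) % p ^ i := fun i => by
    rw [← Nat.add_mod, Nat.add_sub_cancel' h]
  have h2 : ∀ i, 0 < p ^ i := fun i => pow_pos hp.pos i
  rw [hp.dvd_iff_one_le_factorization h0]
  constructor
  · intro h3
    rw [Nat.factorization_choose hp h (Nat.lt_succ_self _)] at h3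
    obtain ⟨i, hi⟩ := Finset.card_pos.1 h3
    have h4 := (Finset.mem_filter.1 hi).2
    have h5 := Nat.mod_lt k (h2 i)
    have h6 := Nat.mod_lt (N - k) (h2 i)
    refine ⟨i, ?_⟩
    rw [h1, Nat.mod_eq_sub_mod h4, Nat.mod_eq_of_lt (by omega)]
    omega
  · rintro ⟨i, hi⟩
    rw [Nat.factorization_choose hp h (b := Nat.log p N + i + 1) (by omega)]
    refine Finset.card_pos.2 ⟨i, Finset.mem_filter.2 ⟨Finset.mem_Ico.2 ⟨?_, by omega⟩, ?_⟩⟩
    · rcases Nat.eq_zero_or_pos i with rfl | h3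
      · rw [pow_zero, Nat.mod_one, Nat.mod_one] at hi
        omega
      · exact h3
    · by_contra h3
      rw [h1, Nat.mod_eq_of_lt (not_le.1 h3)] at hi
      exact absurd hi (not_lt.2 (Nat.le_add_right _ _))

/-- the lowest digit -/
theorem low (hp : p.Prime) (h : N ≠ 0) : ∃ i, p ^ i ∣ N ∧ ¬ p ∣ N.choose (p ^ i) := by
  refine ⟨N.factorization p, Nat.ordProj_dvd N p, fun h1 => ?_⟩
  obtain ⟨i, hi⟩ := (dvd_choose_iff hp (Nat.ordProj_le p h)).1 h1
  rcases le_or_gt i (N.factorization p) with h2 | h2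
  · rw [Nat.mod_eq_zero_of_dvd (pow_dvd_pow p h2)] at hi
    exact Nat.not_lt_zero _ hi
  · have h3 : p ^ N.factorization p ∣ N % p ^ i :=
      (Nat.dvd_mod_iff (pow_dvd_pow p h2.le)).2 (Nat.ordProj_dvd N p)
    have h4 : N % p ^ i ≠ 0 := fun h4 =>
      Nat.pow_succ_factorization_not_dvd h hp ((pow_dvd_pow p h2).trans (Nat.dvd_of_mod_eq_zero h4))
    exact absurd ((Nat.le_of_dvd (Nat.pos_of_ne_zero h4) h3).trans_lt hi) (not_lt.2 (Nat.mod_le _ _))

theorem nu_split (p v : ℕ) (h : k ≤ N) : nu p v N = nu p v k + nu p v (N - k) + (N.choose k).factorization p := by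
  have h1 := Nat.choose_mul_factorial_mul_factorial h
  have h2 := (Nat.choose_pos h).ne'
  unfold nu
  rw [← h1, Nat.factorization_mul (mul_ne_zero h2 (Nat.factorial_ne_zero _)) (Nat.factorial_ne_zero _),
    Nat.factorization_mul h2 (Nat.factorial_ne_zero _), Finsupp.add_apply, Finsupp.add_apply]
  obtain ⟨m, rfl⟩ := Nat.exists_eq_add_of_le h
  rw [Nat.add_sub_cancel_left]
  ring

theorem nu_add_le (p v a b : ℕ) : nu p v a + nu p v b ≤ nu p v (a + b) := by
  rw [nu_split p v (Nat.le_add_right a b), Nat.add_sub_cancel_left]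
  omega

theorem nu_eq {v : ℕ} (h : k ≤ N) (h1 : ¬ p ∣ N.choose k) : nu p v N = nu p v k + nu p v (N - k) := by
  rw [nu_split p v h, Nat.factorization_eq_zero_of_not_dvd h1, add_zero]

theorem nu_lt' {v : ℕ} (hp : p.Prime) (h : k ≤ N) (h1 : p ∣ N.choose k) : nu p v k + nu p v (N - k) < nu p v N := by
  have h2 := hp.factorization_pos_of_dvd (Nat.choose_pos h).ne' h1
  rw [nu_split p v h]
  omega

/-- a power of one of the primes separates them -/
theorem comb (hp : p.Prime) (hq : q.Prime) (hpq : p < q) (hN : p ≤ N) (h : N % q < p) :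
    ∃ k ≤ N, (¬ p ∣ N.choose k ∧ q ∣ N.choose k) ∨ (¬ q ∣ N.choose k ∧ p ∣ N.choose k) := by
  have key : ∀ {a b : ℕ}, a.Prime → b.Prime → b ≤ N → ∀ {i j : ℕ}, a ^ i ∣ N - N % a → b ^ j ∣ N - N % b →
      ¬ b ∣ (N - N % b).choose (b ^ j) → N % a < b → b ^ j < a ^ i → ¬ b ∣ N.choose (b ^ j) ∧ a ∣ N.choose (b ^ j) ∧ b ^ j ≤ N := by
    intro a b ha hb h1 i j h2 h3 h4 h5 h6
    have h7 := Nat.mod_lt N hb.pos
    have h8 : b ^ j ≤ N - N % b := Nat.le_of_dvd (by omega) h3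
    have h9 : j ≠ 0 := by
      rintro rfl
      rw [pow_zero, Nat.choose_one_right] at h4
      exact h4 (Nat.dvd_sub_mod N)
    have h10 : b ≤ b ^ j := Nat.le_self_pow h9 b
    refine ⟨fun h11 => h4 ?_, (dvd_choose_iff ha (by omega)).2 ⟨i, ?_⟩, by omega⟩
    · obtain ⟨t, ht⟩ := (dvd_choose_iff hb (by omega)).1 h11
      refine (dvd_choose_iff hb h8).2 ⟨t, lt_of_le_of_lt ?_ ht⟩
      rcases Nat.eq_zero_or_pos t with rfl | h12
      · rw [pow_zero, Nat.mod_one]
        omega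
      · have h13 : N % b ≤ N % b ^ t := by
          rw [← Nat.mod_mod_of_dvd N (dvd_pow_self b h12.ne')]
          exact Nat.mod_le _ _
        have h14 := Nat.div_add_mod N (b ^ t)
        rw [show N - N % b = b ^ t * (N / b ^ t) + (N % b ^ t - N % b) by omega, Nat.mul_add_mod]
        exact (Nat.mod_le _ _).trans (Nat.sub_le _ _)
    · obtain ⟨c, hc⟩ := h2
      have h11 := Nat.mod_le N a
      rw [show N = a ^ i * c + N % a by omega, Nat.mul_add_mod, Nat.mod_eq_of_lt h6]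
      exact (Nat.mod_le _ _).trans_lt (by omega)
  have h1 := Nat.mod_lt N hp.pos
  have h2 : q ≤ N := by
    by_contra h2
    rw [Nat.mod_eq_of_lt (by omega)] at h
    omega
  obtain ⟨i, h3, h4⟩ := low hp (N := N - N % p) (by omega)
  obtain ⟨j, h5, h6⟩ := low hq (N := N - N % q) (by omega)
  rcases lt_trichotomy (p ^ i) (q ^ j) with h7 | h7 | h7
  · obtain ⟨h8, h9, h10⟩ := key hq hp hN h5 h3 h4 h h7
    exact ⟨_, h10, .inl ⟨h8, h9⟩⟩
  · exfalso
    rcases Nat.eq_zero_or_pos i with rfl | h8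
    · rw [pow_zero, Nat.choose_one_right] at h4
      exact h4 (Nat.dvd_sub_mod N)
    · exact hpq.ne ((Nat.prime_dvd_prime_iff_eq hp hq).1 (hp.dvd_of_dvd_pow (h7 ▸ dvd_pow_self p h8.ne')))
  · obtain ⟨h8, h9, h10⟩ := key hp hq h2 h3 h5 h6 (by omega) h7
    exact ⟨_, h10, .inr ⟨h8, h9⟩⟩

theorem not_dvd_small (hq : q.Prime) (h : k ≤ N % q) : ¬ q ∣ N.choose k := fun h1 => by
  have h2 := Nat.mod_le N q
  obtain ⟨t, ht⟩ := (dvd_choose_iff hq (by omega)).1 h1
  rcases Nat.eq_zero_or_pos t with rfl | h3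
  · rw [pow_zero, Nat.mod_one, Nat.mod_one] at ht
    omega
  · have h4 : N % q ≤ N % q ^ t := by
      rw [← Nat.mod_mod_of_dvd N (dvd_pow_self q h3.ne')]
      exact Nat.mod_le _ _
    have h5 := Nat.mod_le k (q ^ t)
    omega

end Num

/-! ### groups -/

section Grp

variable {G H : Type} [Group G] [Group H] [Finite G] {l m : ℕ}

/-- the exponent of `m` in the order of the centraliser -/
noncomputable def ce (m : ℕ) (y : G) : ℕ := ev m (centralizer ({y} : Set G))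

theorem ce_le (m : ℕ) (y : G) : ce m y ≤ ev m G := ev_subgroup_le m _

theorem ev_le_of_dvd {A B : Type} [Group A] [Group B] [Finite B] (h : Nat.card A ∣ Nat.card B) : ev m A ≤ ev m B :=
  (Nat.factorization_le_iff_dvd (fun h1 => Nat.card_pos.ne' (Nat.eq_zero_of_zero_dvd (h1 ▸ h))) Nat.card_pos.ne').2 h m

theorem ce_one (m : ℕ) : ce m (1 : G) = ev m G := by
  have h : centralizer ({1} : Set G) = ⊤ := eq_top_iff.2 fun x _ => mem_centralizer.2 (by rw [mul_one, one_mul])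
  rw [ce, h]
  exact ev_congr m topEquiv

theorem ce_pow (m : ℕ) (y : G) (j : ℕ) : ce m y ≤ ce m (y ^ j) :=
  ev_le_of_dvd (card_dvd_of_le fun _ hx => mem_centralizer.2 (Commute.pow_right (mem_centralizer.1 hx) j).eq)

theorem wz_of (hl : l.Prime) (hm : m.Prime) {x : G} (h1 : x ^ l = 1) (h2 : ev l G ≤ ce l x) (h3 : ce m x < ev m G) :
    WZ l m G :=
  ⟨x, ⟨1, by rw [pow_one, h1]⟩, (not_dvd_index_iff hl _).2 (le_antisymm (ce_le l x) h2),
    by_contra fun h => h3.ne ((not_dvd_index_iff hm _).1 h)⟩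

theorem exists_cen (hl : l.Prime) (h : l ∣ Nat.card G) : ∃ a : G, orderOf a = l ∧ ¬ l ∣ cls a := by
  have := Fact.mk hl
  obtain ⟨P⟩ : Nonempty (Sylow l G) := inferInstance
  have : Nontrivial (P : Subgroup G) := (P : Subgroup G).nontrivial_iff_ne_bot.2 (P.ne_bot_of_dvd_card h)
  have h1 := P.2.center_nontrivial
  obtain ⟨n, hn, h2⟩ := (P.2.to_subgroup (center P)).nontrivial_iff_card.1 h1
  obtain ⟨a, ha⟩ := exists_prime_orderOf_dvd_card' (G := center (P : Subgroup G)) l (h2 ▸ dvd_pow_self l hn.ne')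
  refine ⟨a, by rw [orderOf_coe, orderOf_coe, ha], fun h3 => P.not_dvd_index (h3.trans (index_dvd_of_le fun x hx => ?_))⟩
  exact mem_centralizer.2 (congrArg Subtype.val (mem_center_iff.1 a.2 ⟨x, hx⟩))

theorem wz_of_pa (hl : l.Prime) (hm : m.Prime) (h : l ∣ Nat.card G) (h1 : PA m l G) : WZ l m G := by
  have := Fact.mk hm
  obtain ⟨y, hy, h2⟩ := exists_cen hl h
  obtain ⟨A, hA, h3⟩ := h1
  refine ⟨y, ⟨1, by rw [pow_one, ← hy, pow_orderOf_eq_one]⟩, h2, by_contra fun h4 => ?_⟩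
  obtain ⟨g, hg⟩ := H630.NH.exists_conj_le m A hA _ h4
  have h5 := h3 (g⁻¹ * y * g) (by
    rw [show g⁻¹ * y * g = g⁻¹ * y * g⁻¹⁻¹ by rw [inv_inv], conj_pow, ← hy, pow_orderOf_eq_one, mul_one, mul_inv_cancel])
    fun a ha => by
      rw [show a * (g⁻¹ * y * g) = g⁻¹ * (g * a * g⁻¹ * y) * g by group, mem_centralizer.1 (hg a ha)]
      group
  rw [mul_assoc, inv_mul_eq_one, ← mul_right_inj y⁻¹, inv_mul_cancel_left, ← mul_inv_eq_one, mul_inv_cancel_right,
    inv_eq_one] at h5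
  rw [h5, orderOf_one] at hy
  exact hl.one_lt.ne hy

omit [Finite G] in
theorem wz_congr (h : WZ l m G) (e : G ≃* H) : WZ l m H := by
  obtain ⟨x, ⟨j, h1⟩, h2, h3⟩ := h
  have h4 := cls_map_dvd e.symm.toMonoidHom e.symm.surjective (e x)
  rw [MulEquiv.toMonoidHom_eq_coe, MonoidHom.coe_coe, e.symm_apply_apply] at h4
  exact ⟨e x, ⟨j, by rw [← map_pow, h1, map_one]⟩, fun h5 => h2 (h5.trans (cls_map_dvd e.toMonoidHom e.surjective x)),
    h3.trans h4⟩

theorem wz_normal (hl : l.Prime) (hm : m.Prime) (h : WZ l m G) (K : Subgroup G) [K.Normal] (h1 : ¬ l ∣ K.index)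
    (h2 : ¬ m ∣ K.index) : WZ l m K := by
  obtain ⟨x, ⟨j, h3⟩, h4, h5⟩ := h
  have h6 : x ∈ K := by
    rw [← QuotientGroup.eq_one_iff]
    refine (pow_eq_one_iff_of_coprime ((hl.coprime_iff_not_dvd.2 h1).pow_left j)).1 ⟨?_, pow_card_eq_one'⟩
    rw [← QuotientGroup.mk_pow, h3, QuotientGroup.mk_one]
  exact ⟨⟨x, h6⟩, ⟨j, Subtype.ext h3⟩, fun h7 => h4 (h7.trans (cls_sub_dvd K ⟨x, h6⟩)),
    (hm.dvd_mul.1 (h5.trans (cls_dvd_sub K ⟨x, h6⟩))).resolve_right h2⟩

omit [Finite G] in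
theorem wz_quot (hl : l.Prime) (h : WZ l m G) (h1 : ¬ l ∣ Nat.card (center G)) : WZ l m (G ⧸ center G) := by
  obtain ⟨x, h3, h4, h5⟩ := h
  have h6 := cls_map_eq hl (QuotientGroup.mk' (center G)) (QuotientGroup.mk'_surjective _)
    (fun z hz g => mem_center_iff.1 ((QuotientGroup.eq_one_iff z).1 hz) g) (by rwa [QuotientGroup.ker_mk']) h3
  obtain ⟨j, h3⟩ := h3
  exact ⟨QuotientGroup.mk' _ x, ⟨j, by rw [← map_pow, h3, map_one]⟩, h6 ▸ h4, h6 ▸ h5⟩

theorem com_of_pt (hl : l.Prime) (hm : m.Prime) (h : PT {l, m} G) : Com l m G := by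
  have := Fact.mk hl
  have := Fact.mk hm
  obtain ⟨T, hT, h1⟩ := h
  obtain ⟨P⟩ : Nonempty (Sylow l T) := inferInstance
  obtain ⟨Q⟩ : Nonempty (Sylow m T) := inferInstance
  refine Red.com_mk hl hm (P.2.map T.subtype) ?_ (Q.2.map T.subtype) ?_ ?_
  · rw [index_map_subtype, hl.dvd_mul, not_or]
    exact ⟨P.not_dvd_index, h1 l (by simp)⟩
  · rw [index_map_subtype, hm.dvd_mul, not_or]
    exact ⟨Q.not_dvd_index, h1 m (by simp)⟩
  · rintro _ ⟨x, -, rfl⟩ _ ⟨y, -, rfl⟩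
    exact congrArg Subtype.val (hT.is_comm.comm x y)

omit [Finite G] in
/-- a semidirect product inside `K` -/
theorem card_mul_dvd {A B : Type} [Group A] [Group B] (α : A →* G) (β : B →* G) (K : Subgroup G) (h1 : ∀ a, α a ∈ K)
    (h2 : ∀ b, β b ∈ K) (h3 : ∀ a b, ∃ a', β b * α a = α a' * β b) (h4 : ∀ a b, α a = β b → a = 1 ∧ b = 1) :
    Nat.card A * Nat.card B ∣ Nat.card K := by
  let L : Subgroup G :=
    { carrier := {g | ∃ a b, g = α a * β b}
      one_mem' := ⟨1, 1, by rw [map_one, map_one, mul_one]⟩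
      mul_mem' := by
        rintro _ _ ⟨a, b, rfl⟩ ⟨a', b', rfl⟩
        obtain ⟨c, hc⟩ := h3 a' b
        exact ⟨a * c, b * b', by rw [map_mul, map_mul, mul_assoc, ← mul_assoc (β b), hc, mul_assoc, mul_assoc]⟩
      inv_mem' := by
        rintro _ ⟨a, b, rfl⟩
        obtain ⟨c, hc⟩ := h3 a⁻¹ b⁻¹
        exact ⟨c, b⁻¹, by rw [← hc, mul_inv_rev, map_inv, map_inv]⟩ }
  have h5 : Nat.card (A × B) = Nat.card L := Nat.card_eq_of_bijective (fun x => ⟨α x.1 * β x.2, x.1, x.2, rfl⟩)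
    ⟨fun x y h => by
      have h6 : α x.1 * β x.2 = α y.1 * β y.2 := congrArg Subtype.val h
      obtain ⟨h7, h8⟩ := h4 (y.1⁻¹ * x.1) (y.2 * x.2⁻¹) (by
        rw [map_mul, map_mul, map_inv, map_inv, inv_mul_eq_iff_eq_mul, ← mul_assoc, ← h6, mul_inv_cancel_right])
      exact Prod.ext (inv_mul_eq_one.1 h7).symm (mul_inv_eq_one.1 h8).symm, fun ⟨_, a, b, h⟩ => ⟨(a, b), Subtype.ext h.symm⟩⟩
  rw [← Nat.card_prod, h5]
  refine card_dvd_of_le ?_
  rintro _ ⟨a, b, rfl⟩
  exact mul_mem (h1 a) (h2 b)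

theorem ce_prod_ge {A B : Type} [Group A] [Group B] [Finite A] [Finite B] (f : A × B →* G) (hf : Function.Injective f) (m : ℕ)
    (a : A) (b : B) : ce m a + ce m b ≤ ce m (f (a, b)) := by
  have h : Nat.card ((centralizer ({a} : Set A)).prod (centralizer ({b} : Set B))) ∣
      Nat.card (centralizer ({f (a, b)} : Set G)) := by
    rw [← card_map_of_injective hf]
    refine card_dvd_of_le ?_
    rintro _ ⟨x, ⟨h1, h2⟩, rfl⟩
    rw [mem_centralizer, ← map_mul, ← map_mul]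
    exact congrArg f (Prod.ext (mem_centralizer.1 h1) (mem_centralizer.1 h2))
  rw [Nat.card_congr (prodEquiv _ _).toEquiv, Nat.card_prod] at h
  have h1 := (Nat.factorization_le_iff_dvd (mul_ne_zero Nat.card_pos.ne' Nat.card_pos.ne') Nat.card_pos.ne').2 h m
  rwa [Nat.factorization_mul Nat.card_pos.ne' Nat.card_pos.ne'] at h1

end Grp

/-! ### spaces -/

variable {F : Type} [Field F] {X Y M : Spc F} {m : ℕ}

theorem ce_emb_ge (m : ℕ) (a : X.G) (b : Y.G) : ce m a + ce m b ≤ ce m (emb X Y (a, b)) :=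
  ce_prod_ge (emb X Y) emb_injective m a b

/-- the sum of `k` copies -/
abbrev pw (M : Spc F) (k : ℕ) : Spc F where
  V := Fin k → M.V
  f x y := ∑ i, M.f (x i) (y i)

variable {k : ℕ}

/-- block diagonal elements -/
def dg (M : Spc F) (k : ℕ) : (Fin k → M.G) →* (pw M k).G where
  toFun g := ⟨LinearEquiv.piCongrRight fun i => (g i).1, fun u v =>
    Finset.sum_congr (s₁ := Finset.univ) rfl fun i _ => (g i).2 (u i) (v i)⟩
  map_one' := rfl
  map_mul' _ _ := rfl

theorem dg_apply (g : Fin k → M.G) (u : Fin k → M.V) (i : Fin k) : (dg M k g).1 u i = (g i).1 (u i) := rfl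

/-- permutations of the blocks -/
def pm (M : Spc F) (k : ℕ) : Perm (Fin k) →* (pw M k).G where
  toFun σ := ⟨LinearEquiv.funCongrLeft F M.V σ.symm, fun u v => Equiv.sum_comp σ.symm fun i => M.f (u i) (v i)⟩
  map_one' := rfl
  map_mul' _ _ := rfl

theorem pm_apply (σ : Perm (Fin k)) (u : Fin k → M.V) (i : Fin k) : (pm M k σ).1 u i = u (σ.symm i) := rfl

theorem ce_dg (m : ℕ) {a : M.G} (ha : a ≠ 1) (k : ℕ) :
    k * ce m a + k.factorial.factorization m ≤ ce m (dg M k fun _ => a) := by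
  obtain ⟨u, hu⟩ : ∃ u : M.V, u ≠ 0 := by
    by_contra h
    push Not at h
    exact ha (Subtype.ext (LinearEquiv.ext fun u => (h _).trans (h _).symm))
  have h := card_mul_dvd ((dg M k).comp (MonoidHom.compLeft (centralizer ({a} : Set M.G)).subtype (Fin k))) (pm M k)
    (centralizer {dg M k fun _ => a})
    (fun x => mem_centralizer.2 ((map_mul _ _ _).symm.trans ((congrArg (dg M k)
      (funext fun i => mem_centralizer.1 (x i).2)).trans (map_mul _ _ _))))
    (fun σ => mem_centralizer.2 (Subtype.ext (LinearEquiv.ext fun _ => funext fun _ => rfl)))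
    (fun x σ => ⟨fun i => x (σ.symm i), Subtype.ext (LinearEquiv.ext fun _ => funext fun _ => rfl)⟩) fun x σ h => by
      have h1 : ∀ (w : Fin k → M.V) i, (x i).1.1 (w i) = w (σ.symm i) := fun w i =>
        congrFun (congrArg (fun g : (pw M k).G => g.1 w) h) i
      have h2 : σ = 1 := Equiv.ext fun i => by_contra fun h2 => hu (by
        have h3 := h1 (Pi.single i u) (σ i)
        rwa [σ.symm_apply_apply, Pi.single_eq_same, Pi.single_eq_of_ne (show σ i ≠ i from h2), map_zero, eq_comm] at h3)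
      subst h2
      exact ⟨funext fun i => Subtype.ext (Subtype.ext (LinearEquiv.ext fun w => h1 (fun _ => w) i)), rfl⟩
  rw [Nat.card_fun, Nat.card_perm, Nat.card_eq_fintype_card (α := Fin k), Fintype.card_fin] at h
  have h1 := (Nat.factorization_le_iff_dvd (mul_ne_zero (pow_ne_zero _ Nat.card_pos.ne') (Nat.factorial_ne_zero k))
    Nat.card_pos.ne').2 h m
  rwa [Nat.factorization_mul (pow_ne_zero _ Nat.card_pos.ne') (Nat.factorial_ne_zero k), Nat.factorization_pow] at h1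

theorem ni_dg {M' : Spc F} {k' : ℕ} {a : M.G} {b : M'.G} (h : k = 0 ∨ k' = 0 ∨ NI a.1 b.1) :
    NI (dg M k fun _ => a).1 (dg M' k' fun _ => b).1 := by
  intro (γ : (Fin k → M.V) →ₗ[F] (Fin k' → M'.V)) hγ
  have h1 : ∀ (i : Fin k) (u : M.V) (j : Fin k'), γ (Pi.single i u) j = 0 := by
    intro i u j
    rcases h with rfl | rfl | h
    · exact i.elim0
    · exact j.elim0
    · have h2 : ∀ w : M.V, γ (Pi.single i (a.1 w)) j = b.1 (γ (Pi.single i w) j) := fun w => by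
        have h3 : (dg M k fun _ => a).1 (Pi.single i w) = Pi.single i (a.1 w) := funext fun i' =>
          Pi.apply_single (fun (_ : Fin k) (x : M.V) => a.1 x) (fun _ => map_zero _) i w i'
        rw [← h3, hγ, dg_apply]
      exact LinearMap.congr_fun (h ((LinearMap.proj j).comp (γ.comp (LinearMap.single F (fun _ => M.V) i))) h2) u
  exact LinearMap.pi_ext fun i u => funext (h1 i u)

end Cfsg.Agent.PQ.SS.RB
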