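import Cfsg.Agent.H630.ExcRowsB
import Cfsg.Agent.H630.ExcRowsC
import Cfsg.Agent.H759.TwF.Main

/-!
# PQ, bad primes: class sizes of the elements of prime order in the exceptional groups (helper59)

One-sided versions of the criteria of `H630.Exc` and `H759.TwF`.

* `AllD r s X` : the class size of every element of order `s` is divisible by `r`; `SomeD r s X` : of some element.
-/

set_option autoImplicit false
set_option linter.unusedSectionVars false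
set_option linter.unusedVariables false

namespace Cfsg.Agent.PQ.SS.Bad

open CoxeterSystem Cfsg Cfsg.Lie Cfsg.Lie.ChevalleyDatum
open Cfsg.Agent.ChevalleyStructure Cfsg.Agent.ChevalleyStructure.Elts Cfsg.Agent.ChevalleyStructure.CoxeterGeom
  Cfsg.Agent.ChevalleyStructure.CoxeterGeomTypes Cfsg.Agent.ChevalleyStructure.NPerm
open Cfsg.Agent.Tits.Roots Cfsg.Agent.Tits.Core Cfsg.Agent.Nodes Cfsg.Agent.Nodes.Reps Cfsg.Agent.Nodes.BNOf
  Cfsg.Agent.Nodes.RGDChev Cfsg.Agent.Nodes.Bruhat Cfsg.Agent.Nodes.SubComb Cfsg.Agent.Nodes.Coroot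
open Cfsg.Agent.KFacts.RgdField Cfsg.Agent.KFacts.RgdChevCoord Cfsg.Agent.BpExc.TorCent Cfsg.Agent.BpExc.TorChev
open Cfsg.Agent.GpExc.Field Cfsg.Agent.BpExc.Tow Cfsg.Agent.BpExc.TowChev Cfsg.Agent.BpExc.Fr
  Cfsg.Agent.BpExc.LangFr Cfsg.Agent.LangThm Cfsg.Agent.BpExc Cfsg.Agent.H129.TorusChar Cfsg.Agent.H129.TorusMain
open Cfsg.Agent.H129.TorAct (cX_tau tau_mem exists_theta)
open Cfsg.Agent.H630.NH Cfsg.Agent.H630.Exc Cfsg.Agent.H130.WeylCk Cfsg.Agent.H130.PolyL Cfsg.Agent.H130.WeylTab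

universe u v

/-- the class size of every element of order `s` is divisible by `r` -/
def AllD (r s : ℕ) (X : Type v) [Group X] : Prop :=
  ∀ y : X, orderOf y = s → r ∣ (Subgroup.centralizer ({y} : Set X)).index

/-- the class size of some element of order `s` is divisible by `r` -/
def SomeD (r s : ℕ) (X : Type v) [Group X] : Prop :=
  ∃ y : X, orderOf y = s ∧ r ∣ (Subgroup.centralizer ({y} : Set X)).index

theorem AllD.someD {r s : ℕ} {X : Type v} [Group X] [Finite X] (h : AllD r s X) (hs : s.Prime) (hd : s ∣ Nat.card X) :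
    SomeD r s X := by
  have : Fact s.Prime := ⟨hs⟩
  obtain ⟨y, hy⟩ := exists_prime_orderOf_dvd_card' s hd
  exact ⟨y, hy, h y hy⟩

theorem index_congr {X : Type u} {X' : Type v} [Group X] [Group X'] (e : X ≃* X') (y : X) :
    (Subgroup.centralizer ({e y} : Set X')).index = (Subgroup.centralizer ({y} : Set X)).index := by
  rw [← Subgroup.index_comap_of_surjective (f := e.toMonoidHom) _ e.surjective]
  congr 1
  ext a
  rw [Subgroup.mem_comap, Subgroup.mem_centralizer_singleton_iff, Subgroup.mem_centralizer_singleton_iff]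
  show e a * e y = e y * e a ↔ _
  rw [← map_mul, ← map_mul, e.apply_eq_iff_eq]

theorem AllD.congr {r s : ℕ} {X : Type u} {X' : Type v} [Group X] [Group X'] (e : X ≃* X') (h : AllD r s X') :
    AllD r s X := fun y hy => by
  rw [← index_congr e]
  exact h _ (by rw [e.orderOf_eq, hy])

theorem SomeD.congr {r s : ℕ} {X : Type u} {X' : Type v} [Group X] [Group X'] (e : X ≃* X') (h : SomeD r s X') :
    SomeD r s X :=
  let ⟨y, h1, h2⟩ := h
  ⟨e.symm y, by rw [e.symm.orderOf_eq, h1], by rw [index_congr e.symm]; exact h2⟩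

/-- an `r`-subgroup which centralises no element of order `s` -/
theorem allD_of (r : ℕ) [Fact r.Prime] {s : ℕ} {X : Type v} [Group X] [Finite X] (A : Subgroup X) (hA : IsPGroup r A)
    (h : ∀ y : X, orderOf y = s → (∀ a ∈ A, a * y = y * a) → False) : AllD r s X := by
  intro y hy
  by_contra hodd
  obtain ⟨g, hg⟩ := exists_conj_le r A hA _ hodd
  refine h (g⁻¹ * y * g) ?_ ?_
  · rw [← hy]
    have := orderOf_injective (MulAut.conj g⁻¹).toMonoidHom (MulAut.conj g⁻¹).injective y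
    simpa using this
  · intro a ha
    have h2 := hg a ha
    rw [Subgroup.mem_centralizer_singleton_iff] at h2
    have h3 : a * (g⁻¹ * y * g) = g⁻¹ * (g * a * g⁻¹ * y) * g := by group
    rw [h3, h2]
    group

section Gen

variable {D : ChevalleyDatum} {l : ℕ} {M : CoxeterMatrix (Fin l)} (hp : IsType D l M) {k : Type u} [Field k]
  {W : Type*} [Group W] (cs : CoxeterSystem M W)
  {p e : ℕ} [hpF : Fact p.Prime] [CharP k p] {σ : MulAut ↥(D.group k)} {g : (Fin l → ℤ) ≃+ (Fin l → ℤ)}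
  {X : Type v} [Group X] {e0 : X →* ↥(D.group k)} {d : ℕ} (S : Setup hp cs p e σ g e0 d)

include S

/-- an elementary abelian group and an `r`-element acting without fixed points -/
theorem allD_B [IsAlgClosed k] [Finite W] [Finite X] {r s' : ℕ} (hrp : r.Prime) (hsp : s'.Prime)
    (hrs : r ≠ s') (hrc : r ≠ p) (hrd : ¬ r ∣ d) (w : W) {n : ℕ}
    (hn0 : 0 < n) (hθ : ∀ x, (theta hp cs w g)^[n] x = x) (hq : (r : ℤ) ∣ ((p ^ e : ℕ) : ℤ) ^ n - 1)
    (hroot : ∀ a, IsRoot cs hp.isCartan a → ∃ L : (Fin l → ℤ) →+ ℤ, ¬ (r : ℤ) ∣ Lq L (theta hp cs w g) (p ^ e) n a)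
    {s : W} (hs : ∀ x, rep cs hp.isCartan s (theta hp cs w g x) = theta hp cs w g (rep cs hp.isCartan s x))
    {j : ℕ} (hsr : s ^ r ^ j = 1)
    (hfree : ∀ t ∈ TT D k, (∀ x, cX hp t (theta hp cs w g x) = cX hp t x ^ p ^ e) → t ^ s' = 1 →
      (∀ x, cX hp t (rep cs hp.isCartan s x) = cX hp t x) → t = 1) : AllD r s' X := by
  have : Fact r.Prime := ⟨hrp⟩
  have : Fact s'.Prime := ⟨hsp⟩
  have hNs := S.nsys hp cs
  obtain ⟨n', hn'⟩ := exists_rp cs hNs w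
  obtain ⟨z, hz⟩ := lang_all hp cs S.pos S.frob S.fr 1 n'
  rw [map_one, one_mul] at hz
  obtain ⟨x, hx, hxs⟩ := S.exists_rep hp cs hn0 hθ hn' hz hs hrp hrd hsr
  refine allD_of r _ (isPGroup_E hp cs S.inj hx hxs) ?_
  intro y hy hyc
  have hyT := S.mem_torus hp cs hrp hsp hrs hrc hrd hn' hz hθ hq hroot hy
    (fun a ha => hyc a (Subgroup.mem_sup_right ha))
  have h1 : z⁻¹ * e0 y * z = 1 := by
    refine hfree _ hyT ((tau_iff hp cs S.lf S.frob S.fr hn' hyT).1 (S.tau hp cs hz y)) ?_ ?_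
    · have h1 : (z⁻¹ * e0 y * z) ^ s' = z⁻¹ * e0 y ^ s' * z := by
        have h2 := conj_pow (i := s') (a := z⁻¹) (b := e0 y)
        rwa [inv_inv] at h2
      rw [h1, ← map_pow, ← hy, pow_orderOf_eq_one, map_one, mul_one, inv_mul_cancel]
    · refine fix_of_rp hp cs S.lf p hxs hyT ?_
      have h2 := hyc x (Subgroup.mem_sup_left (Subgroup.mem_zpowers x))
      calc z⁻¹ * e0 x * z * (z⁻¹ * e0 y * z) = z⁻¹ * (e0 (x * y)) * z := by rw [map_mul]; group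
        _ = z⁻¹ * (e0 (y * x)) * z := by rw [h2]
        _ = _ := by rw [map_mul]; group
  have h4 : e0 y = 1 := by
    have : e0 y = z * (z⁻¹ * e0 y * z) * z⁻¹ := by group
    rw [this, h1]; group
  have h5 : y = 1 := S.inj (by rw [h4, map_one])
  rw [h5, orderOf_one] at hy
  exact hsp.one_lt.ne hy

/-- counting roots -/
theorem ncard_le [IsAlgClosed k] [Finite W] [Finite X] {r s' : ℕ} (hrp : r.Prime)
    (hsp : s'.Prime) (hrs : r ≠ s') (hrc : r ≠ p) (hsc : s' ≠ p) (hrd : ¬ r ∣ d)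
    (hsd : ¬ s' ∣ d) (w : W) {n : ℕ}
    (hn0 : 0 < n) (hθ : ∀ x, (theta hp cs w g)^[n] x = x) (hq : (r : ℤ) ∣ ((p ^ e : ℕ) : ℤ) ^ n - 1)
    (hq' : (s' : ℤ) ∣ ((p ^ e : ℕ) : ℤ) ^ n - 1)
    (hroot : ∀ a, IsRoot cs hp.isCartan a → ∃ L : (Fin l → ℤ) →+ ℤ, ¬ (r : ℤ) ∣ Lq L (theta hp cs w g) (p ^ e) n a)
    {s : W} (hs : ∀ x, rep cs hp.isCartan s (theta hp cs w g x) = theta hp cs w g (rep cs hp.isCartan s x))
    {j : ℕ} (hsr : s ^ r ^ j = 1) (L : (Fin l → ℤ) →+ ℤ) (hL : ∃ a, ¬ (s' : ℤ) ∣ Lq L (theta hp cs w g) (p ^ e) n a)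
    (hc : ¬ SomeD r s' X) :
    {a | IsRoot cs hp.isCartan a ∧ ∑ i ∈ Finset.range (r ^ j), rep cs hp.isCartan (s ^ i) a = 0}.ncard ≤
      {a | IsRoot cs hp.isCartan a ∧ (s' : ℤ) ∣ Lq L (theta hp cs w g) (p ^ e) n a}.ncard := by
  have : Fact r.Prime := ⟨hrp⟩
  have : Fact s'.Prime := ⟨hsp⟩
  have hNs := S.nsys hp cs
  obtain ⟨n', hn'⟩ := exists_rp cs hNs w
  obtain ⟨z, hz⟩ := lang_all hp cs S.pos S.frob S.fr 1 n'
  rw [map_one, one_mul] at hz
  have hsk : (s' : k) ≠ 0 := by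
    rw [Ne, CharP.cast_eq_zero_iff k p]
    intro h
    exact hsc ((Nat.prime_dvd_prime_iff_eq (Fact.out : p.Prime) hsp).1 h).symm
  obtain ⟨B, d', hd', hB⟩ := S.inv
  obtain ⟨t0, ht0, ht0θ, ht0s, ht0c⟩ := exists_torsion' hp hB hd' hθ hsk hq' L
  obtain ⟨y0, hy0⟩ := S.exists_of_tau hp cs hz ((tau_iff hp cs S.lf S.frob S.fr hn' ht0).2 ht0θ) hsp hsd ⟨1, by
    rw [pow_one]; exact ht0s⟩
  have hy0e : e0 y0 = z * t0 * z⁻¹ := by rw [← hy0]; group
  have hy0s : y0 ^ s' = 1 := by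
    apply S.inj
    rw [map_pow, map_one, hy0e, conj_pow, ht0s]; group
  have hy01 : orderOf y0 = s' := by
    refine orderOf_eq_prime hy0s ?_
    rintro rfl
    obtain ⟨a, ha⟩ := hL
    apply ha
    rw [← ht0c, ← hy0, map_one, mul_one, inv_mul_cancel, cX_one]
  obtain ⟨x, hx, hxs⟩ := S.exists_rep hp cs hn0 hθ hn' hz hs hrp hrd hsr
  obtain ⟨h, hh⟩ := exists_conj_le r _ (isPGroup_E hp cs S.inj hx hxs) _
    (fun h => hc ⟨y0, hy01, h⟩)
  obtain ⟨y, hy⟩ : ∃ y, y = h⁻¹ * y0 * h := ⟨_, rfl⟩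
  have hys : orderOf y = s' := by
    rw [← hy01, hy]
    have := orderOf_injective (MulAut.conj h⁻¹).toMonoidHom (MulAut.conj h⁻¹).injective y0
    simpa using this
  have hyc : ∀ a ∈ (Subgroup.zpowers x ⊔ tXr hp S.inj z r : Subgroup X), a * y = y * a := by
    intro a ha
    have h2 := hh a ha
    rw [Subgroup.mem_centralizer_singleton_iff] at h2
    have h3 : a * (h⁻¹ * y0 * h) = h⁻¹ * (h * a * h⁻¹ * y0) * h := by group
    rw [hy, h3, h2]
    group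
  have hyT := S.mem_torus hp cs hrp hsp hrs hrc hrd hn' hz hθ hq hroot hys
    (fun a ha => hyc a (Subgroup.mem_sup_right ha))
  have hyx : ∀ a, cX hp (z⁻¹ * e0 y * z) (rep cs hp.isCartan s a) = cX hp (z⁻¹ * e0 y * z) a := by
    refine fix_of_rp hp cs S.lf p hxs hyT ?_
    have h2 := hyc x (Subgroup.mem_sup_left (Subgroup.mem_zpowers x))
    calc z⁻¹ * e0 x * z * (z⁻¹ * e0 y * z) = z⁻¹ * (e0 (x * y)) * z := by rw [map_mul]; group
      _ = z⁻¹ * (e0 (y * x)) * z := by rw [h2]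
      _ = _ := by rw [map_mul]; group
  have hys1 : (z⁻¹ * e0 y * z) ^ s' = 1 := by
    have h1 : (z⁻¹ * e0 y * z) ^ s' = z⁻¹ * e0 y ^ s' * z := by
      have h2 := conj_pow (i := s') (a := z⁻¹) (b := e0 y)
      rwa [inv_inv] at h2
    rw [h1, ← map_pow, ← hys, pow_orderOf_eq_one, map_one, mul_one, inv_mul_cancel]
  -- conjugacy
  obtain ⟨v, hv⟩ := exists_weyl_of_conj hp cs S.lf p (s := z⁻¹ * e0 y * z) (t := t0) (c := z⁻¹ * e0 h * z) hyT ht0 (by
    have h7 : e0 y = (e0 h)⁻¹ * (z * t0 * z⁻¹) * e0 h := by rw [← hy0e, hy, map_mul, map_mul, map_inv]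
    rw [h7]; group)
  have hfinr := finite_roots hp cs
  have hmc := isMC_cX hp hyT
  refine le_trans (Set.ncard_le_ncard (t := Kill hp cs (z⁻¹ * e0 y * z)) ?_ (hfinr.subset fun a ha => ha.1)) ?_
  · rintro a ⟨ha, hsum⟩
    refine ⟨ha, ?_⟩
    have h1 : ∀ i, cX hp (z⁻¹ * e0 y * z) (rep cs hp.isCartan (s ^ i) a) = cX hp (z⁻¹ * e0 y * z) a := by
      intro i
      induction i with
      | zero => rw [pow_zero, map_one, Module.End.one_apply]
      | succ i ih => rw [pow_succ', rep_mul_apply, hyx, ih]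
    have h2 : cX hp (z⁻¹ * e0 y * z) a ^ (r ^ j) = 1 := by
      have h3 := hmc.sum (Finset.range (r ^ j)) (fun i => rep cs hp.isCartan (s ^ i) a)
      rw [hsum, hmc.zero, Finset.prod_congr rfl (fun i _ => h1 i), Finset.prod_const, Finset.card_range] at h3
      exact h3.symm
    have h3 : cX hp (z⁻¹ * e0 y * z) a ^ s' = 1 := by
      rw [← cX_pow hp hyT, hys1, cX_one]
    have h4 : orderOf (cX hp (z⁻¹ * e0 y * z) a) ∣ 1 := by
      have hco : Nat.Coprime (r ^ j) s' := Nat.Coprime.pow_left _ ((Nat.coprime_primes hrp hsp).2 hrs)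
      have := Nat.dvd_gcd (orderOf_dvd_of_pow_eq_one h2) (orderOf_dvd_of_pow_eq_one h3)
      rwa [hco.gcd_eq_one] at this
    exact orderOf_eq_one_iff.1 (Nat.dvd_one.1 h4)
  · refine Set.ncard_le_ncard_of_injOn (fun a => rep cs hp.isCartan v a) ?_ ?_ (hfinr.subset fun a ha => ha.1)
    · rintro a ⟨ha, h1⟩
      refine ⟨ha.act v, ?_⟩
      rw [← ht0c, hv, h1]
    · intro a _ b _ hab
      have h1 := congrArg (rep cs hp.isCartan v⁻¹) hab
      simpa only [rep_inv_apply] using h1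

theorem allD_sum [IsAlgClosed k] [Finite W] [Finite X] {r s' : ℕ} (hrp : r.Prime)
    (hsp : s'.Prime) (hrs : r ≠ s') (hrc : r ≠ p) (hrd : ¬ r ∣ d) (hr2 : r ≠ 2)
    {ε Q : ℤ} (hε : ε = 1 ∨ ε = -1) (hQ : Q = ε * (p ^ e : ℕ)) {w1 : W}
    (hT : HasTor hp cs g ε w1) {n : ℕ} (hn0 : 0 < n) (hw : rep cs hp.isCartan w1 ^ n = 1) (hrQ : (r : ℤ) ∣ Q ^ n - 1)
    (hreg : RegAt cs hp.isCartan w1 n r Q) {sW : W}
    (hcomm : ∀ x, rep cs hp.isCartan sW (rep cs hp.isCartan w1 x) = rep cs hp.isCartan w1 (rep cs hp.isCartan sW x))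
    {j : ℕ} (hsj : rep cs hp.isCartan sW ^ r ^ j = 1) {m : ℕ} (c : Fin m → ℤ)
    (hsum : ∀ x, ∑ i ∈ Finset.range (r ^ j), (rep cs hp.isCartan sW ^ i)
      (∑ t : Fin m, c t • (rep cs hp.isCartan w1 ^ (t : ℕ)) x) = 0)
    (hcs : ¬ (s' : ℤ) ∣ ∑ t : Fin m, c t * Q ^ (t : ℕ)) : AllD r s' X := by
  obtain ⟨w, hw'⟩ := hT
  have hrZ := Nat.prime_iff_prime_int.1 hrp
  have hsZ := Nat.prime_iff_prime_int.1 hsp
  have hsj' : sW ^ r ^ j = 1 := rep_injective cs hp.isCartan (by rw [map_pow, hsj, map_one])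
  refine allD_B hp cs S hrp hsp hrs hrc hrd w (n := 2 * n) (by omega) (fun x => ?_) ?_ (fun a ha => ?_)
    (s := sW) (fun x => ?_) hsj' ?_
  · rw [theta_iter hp cs hw', eps_pow_two hε, one_smul, mul_comm, pow_mul, hw, one_pow, Module.End.one_apply]
  · have h1 : ((p ^ e : ℕ) : ℤ) ^ (2 * n) = Q ^ (2 * n) := by rw [hQ, mul_pow, eps_pow_two hε, one_mul]
    rw [h1]
    refine hrQ.trans ⟨Q ^ n + 1, ?_⟩
    ring
  · obtain ⟨L, hL⟩ := hreg a ha
    refine ⟨L, fun h1 => ?_⟩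
    rw [Lq_eq hp cs hε hw' hw _ hQ] at h1
    rcases hrZ.dvd_mul.1 h1 with h2 | h2
    · have h3 : (r : ℤ) ∣ 2 := by
        have h4 := dvd_sub h2 hrQ
        have h5 : Q ^ n + 1 - (Q ^ n - 1) = 2 := by ring
        rwa [h5] at h4
      have h4 : r ∣ 2 := by exact_mod_cast h3
      exact hr2 ((Nat.prime_dvd_prime_iff_eq hrp Nat.prime_two).1 h4)
    · exact hL h2
  · rw [hw', hw', map_zsmul, hcomm]
  · intro t ht hθ hts hfix
    have hmc := isMC_cX hp ht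
    refine cX_inj hp ht (one_mem _) fun i => ?_
    rw [cX_one]
    obtain ⟨x, hx⟩ : ∃ x : Fin l → ℤ, x = sr i := ⟨_, rfl⟩
    rw [← hx]
    obtain ⟨y, hy⟩ : ∃ y, y = ∑ t : Fin m, c t • (rep cs hp.isCartan w1 ^ (t : ℕ)) x := ⟨_, rfl⟩
    have h0 := hmc.ne_zero x
    have h1 : cX hp t y = cX hp t x ^ (∑ t : Fin m, c t * Q ^ (t : ℕ)) := by
      rw [hy, hmc.sum]
      have h2 : ∀ s : Finset (Fin m), cX hp t x ^ (∑ t ∈ s, c t * Q ^ (t : ℕ)) =
          ∏ t' ∈ s, cX hp t (c t' • (rep cs hp.isCartan w1 ^ (t' : ℕ)) x) := by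
        intro s
        classical
        induction s using Finset.induction_on with
        | empty => simp
        | insert a s ha ih =>
          rw [Finset.sum_insert ha, Finset.prod_insert ha, zpow_add₀ h0, ih, hmc.zsmul,
            cX_w1 hp cs hε hw' hQ ht hθ, ← zpow_mul, mul_comm (Q ^ _)]
      exact (h2 Finset.univ).symm
    have h2 : ∀ i, cX hp t ((rep cs hp.isCartan sW ^ i) y) = cX hp t y := by
      intro i
      induction i with
      | zero => rw [pow_zero, Module.End.one_apply]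
      | succ i ih => rw [pow_succ', Module.End.mul_apply, hfix, ih]
    have h3 : cX hp t y ^ r ^ j = 1 := by
      have h4 := hmc.sum (Finset.range (r ^ j)) (fun i => (rep cs hp.isCartan sW ^ i) y)
      rw [hy, hsum, ← hy, hmc.zero, Finset.prod_congr rfl (fun i _ => h2 i), Finset.prod_const,
        Finset.card_range] at h4
      exact h4.symm
    have h4 : cX hp t x ^ ((∑ t : Fin m, c t * Q ^ (t : ℕ)) * (r ^ j : ℕ)) = 1 := by
      rw [zpow_mul, ← h1, zpow_natCast, h3]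
    have h5 : cX hp t x ^ (s' : ℤ) = 1 := by
      rw [zpow_natCast, ← cX_pow hp ht, hts, cX_one]
    have hco : IsCoprime ((∑ t : Fin m, c t * Q ^ (t : ℕ)) * (r ^ j : ℕ)) (s' : ℤ) := by
      rw [isCoprime_comm, hsZ.irreducible.coprime_iff_not_dvd]
      intro h
      rcases hsZ.dvd_mul.1 h with h | h
      · exact hcs h
      · rw [Nat.cast_pow] at h
        have h6 := hsZ.dvd_of_dvd_pow h
        exact hrs ((Nat.prime_dvd_prime_iff_eq hsp hrp).1 (Int.natCast_dvd_natCast.1 h6)).symm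
    obtain ⟨a, b, hab⟩ := hco
    calc cX hp t x = cX hp t x ^ (1 : ℤ) := (zpow_one _).symm
      _ = 1 := by
        rw [← hab, zpow_add₀ h0, mul_comm a, mul_comm b, zpow_mul, h4, zpow_mul, h5, one_zpow, one_zpow, one_mul]

theorem someD_count [IsAlgClosed k] [Finite W] [Finite X] {r s' : ℕ} (hrp : r.Prime)
    (hsp : s'.Prime) (hrs : r ≠ s') (hrc : r ≠ p) (hsc : s' ≠ p) (hrd : ¬ r ∣ d)
    (hsd : ¬ s' ∣ d) (hr2 : r ≠ 2) (hs2 : s' ≠ 2)
    {ε Q : ℤ} (hε : ε = 1 ∨ ε = -1) (hQ : Q = ε * (p ^ e : ℕ))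
    (hT : HasTor hp cs g ε (1 : W)) (hrQ : (r : ℤ) ∣ Q - 1) (hsQ : (s' : ℤ) ∣ Q - 1) {sW : W}
    {j : ℕ} (hsj : rep cs hp.isCartan sW ^ r ^ j = 1) (L : (Fin l → ℤ) →+ ℤ)
    (hL : ∃ a, ¬ (s' : ℤ) ∣ L a)
    (hcard : {a | IsRoot cs hp.isCartan a ∧ (s' : ℤ) ∣ L a}.ncard <
      {a | IsRoot cs hp.isCartan a ∧ ∑ i ∈ Finset.range (r ^ j), (rep cs hp.isCartan sW ^ i) a = 0}.ncard) :
    SomeD r s' X := by
  by_contra hc
  obtain ⟨w, hw'⟩ := hT
  have hpp : p.Prime := Fact.out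
  have hsZ := Nat.prime_iff_prime_int.1 hsp
  have hQr := not_dvd_Q hpp hrp hrc hε hQ
  have hQs := not_dvd_Q hpp hsp hsc hε hQ
  have hw : rep cs hp.isCartan (1 : W) ^ 1 = 1 := by rw [map_one, one_pow]
  have hsj' : sW ^ r ^ j = 1 := rep_injective cs hp.isCartan (by rw [map_pow, hsj, map_one])
  have hrZ := Nat.prime_iff_prime_int.1 hrp
  have hpow : ∀ {r : ℕ}, (r : ℤ) ∣ Q - 1 → (r : ℤ) ∣ ((p ^ e : ℕ) : ℤ) ^ (2 * 1) - 1 := by
    intro r h
    have h1 : ((p ^ e : ℕ) : ℤ) ^ (2 * 1) = Q ^ (2 * 1) := by rw [hQ, mul_pow, eps_pow_two hε, one_mul]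
    rw [h1]
    exact h.trans ⟨Q + 1, by ring⟩
  have hLq : ∀ (L : (Fin l → ℤ) →+ ℤ) (a : Fin l → ℤ), Lq L (theta hp cs w g) (p ^ e) (2 * 1) a = (Q + 1) * (Q * L a) := by
    intro L a
    rw [Lq_eq hp cs hε hw' hw _ hQ, Finset.sum_range_one, pow_zero, Module.End.one_apply, Nat.sub_zero, pow_one]
  have hiff : ∀ {r : ℕ}, r.Prime → r ≠ 2 → ¬ (r : ℤ) ∣ Q → (r : ℤ) ∣ Q - 1 → ∀ (L : (Fin l → ℤ) →+ ℤ) (a : Fin l → ℤ),
      (r : ℤ) ∣ Lq L (theta hp cs w g) (p ^ e) (2 * 1) a → (r : ℤ) ∣ L a := by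
    intro r hr hr2 hrQ0 hrQ L a h
    have hrZ := Nat.prime_iff_prime_int.1 hr
    rw [hLq] at h
    rcases hrZ.dvd_mul.1 h with h2 | h2
    · exfalso
      have h3 : (r : ℤ) ∣ 2 := by
        have h4 := dvd_sub h2 hrQ
        have h5 : Q + 1 - (Q - 1) = 2 := by ring
        rwa [h5] at h4
      have h4 : r ∣ 2 := by exact_mod_cast h3
      exact hr2 ((Nat.prime_dvd_prime_iff_eq hr Nat.prime_two).1 h4)
    · exact (hrZ.dvd_mul.1 h2).resolve_left hrQ0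
  have key := ncard_le hp cs S hrp hsp hrs hrc hsc hrd hsd w (n := 2 * 1) (by omega) (fun x => by
      rw [theta_iter hp cs hw', eps_pow_two hε, one_smul, mul_comm, pow_mul, hw, one_pow, Module.End.one_apply])
    (hpow hrQ) (hpow hsQ) (fun a ha => by
      obtain ⟨i, hi⟩ := exists_coord hp cs ha hrp
      exact ⟨coordF l i, fun h => hi (hiff hrp hr2 hQr hrQ _ _ h)⟩) (s := sW) (fun x => by
      rw [hw', hw', map_zsmul, map_one, Module.End.one_apply, Module.End.one_apply]) hsj' L (by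
      obtain ⟨a, ha⟩ := hL
      exact ⟨a, fun h => ha (hiff hsp hs2 hQs hsQ _ _ h)⟩) hc
  have h1 : {a | IsRoot cs hp.isCartan a ∧ (s' : ℤ) ∣ Lq L (theta hp cs w g) (p ^ e) (2 * 1) a} ⊆
      {a | IsRoot cs hp.isCartan a ∧ (s' : ℤ) ∣ L a} := fun a ha => ⟨ha.1, hiff hsp hs2 hQs hsQ _ _ ha.2⟩
  have h2 := Set.ncard_le_ncard h1 ((finite_roots hp cs).subset fun a ha => ha.1)
  have h3 : {a | IsRoot cs hp.isCartan a ∧ ∑ i ∈ Finset.range (r ^ j), rep cs hp.isCartan (sW ^ i) a = 0} =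
      {a | IsRoot cs hp.isCartan a ∧ ∑ i ∈ Finset.range (r ^ j), (rep cs hp.isCartan sW ^ i) a = 0} := by
    ext a
    simp only [map_pow]
  rw [h3] at key
  omega

theorem allD_sum_ck [IsAlgClosed k] [Finite W] [Finite X] {r s' : ℕ} (hrp : r.Prime)
    (hsp : s'.Prime) (hrs : r ≠ s') (hrc : r ≠ p) (hrd : ¬ r ∣ d) (hr2 : r ≠ 2)
    {ε Q : ℤ} (hε : ε = 1 ∨ ε = -1) (hQ : Q = ε * (p ^ e : ℕ)) {word : List (Fin l)}
    {k1 k2 : ℕ} (hT : HasTor hp cs g ε (cs.wordProd word ^ k1)) {n : ℕ} (hn0 : 0 < n)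
    (hw : rep cs hp.isCartan (cs.wordProd word ^ k1) ^ n = 1) (hrQ : (r : ℤ) ∣ Q ^ n - 1)
    (hreg : RegAt cs hp.isCartan (cs.wordProd word ^ k1) n r Q) {Al : List (List ℤ)}
    (hA : MatList (cartanOf D l) Al) {m : List (List ℤ)} {j : ℕ} (H : SumCk l Al word k2 (r ^ j) m) :
    AllD r s' X := by
  refine allD_sum hp cs S hrp hsp hrs hrc hrd hr2 hε hQ hT hn0 hw hrQ hreg
    (sW := cs.wordProd word ^ k2) (fun x => ?_) (rep_pow_eq_one hp cs hA word k2 (r ^ j) H.2.2.1) ![1] (fun x => ?_) ?_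
  · rw [← Module.End.mul_apply, ← Module.End.mul_apply, ← map_mul, ← map_mul, ← pow_add, ← pow_add, add_comm]
  · rw [Fin.sum_univ_one]
    show ∑ i ∈ Finset.range (r ^ j), (rep cs hp.isCartan (cs.wordProd word ^ k2) ^ i)
      ((1 : ℤ) • (rep cs hp.isCartan (cs.wordProd word ^ k1) ^ 0) x) = 0
    rw [one_smul, pow_zero, Module.End.one_apply]
    exact sum_of_ck hp cs hA H x
  · rw [Fin.sum_univ_one]
    show ¬ (s' : ℤ) ∣ 1 * Q ^ 0
    rw [pow_zero, mul_one]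
    intro h
    have h1 : s' ∣ 1 := by exact_mod_cast h
    exact hsp.one_lt.ne' (Nat.dvd_one.1 h1)

theorem someD_count_ck [IsAlgClosed k] [Finite W] [Finite X] {r s' : ℕ} (hrp : r.Prime)
    (hsp : s'.Prime) (hrs : r ≠ s') (hrc : r ≠ p) (hsc : s' ≠ p) (hrd : ¬ r ∣ d)
    (hsd : ¬ s' ∣ d) (hr2 : r ≠ 2) (hs2 : s' ≠ 2)
    {ε Q : ℤ} (hε : ε = 1 ∨ ε = -1) (hQ : Q = ε * (p ^ e : ℕ))
    (hT : HasTor hp cs g ε (1 : W)) (hrQ : (r : ℤ) ∣ Q - 1) (hsQ : (s' : ℤ) ∣ Q - 1)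
    {Al : List (List ℤ)} (hA : MatList (cartanOf D l) Al) {word : List (Fin l)} {kk : ℕ} {m : List (List ℤ)} {j : ℕ}
    {b : List ℤ} {C : ℕ} (H : CountCk D l Al word kk (r ^ j) m b C) (hsC : C ≤ s') : SomeD r s' X := by
  obtain ⟨⟨h1, h2⟩, h3, h4, h5, ⟨v0, hv0, hv0'⟩, h6, h7⟩ := H
  have hlen : ∀ v ∈ rootL D l, v.length = l := by
    intro v hv
    obtain ⟨r, -, rfl⟩ := List.mem_map.1 hv
    rw [List.length_map, List.length_finRange]
  have hL : ∀ v ∈ rootL D l, (fn l b).toAddMonoidHom (toFn l v) = dot b v := fun v hv =>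
    (dot_eq b v h5 (hlen v hv)).symm
  refine someD_count hp cs S hrp hsp hrs hrc hsc hrd hsd hr2 hs2 hε hQ hT hrQ hsQ
    (sW := cs.wordProd word ^ kk) (j := j) (rep_pow_eq_one hp cs hA word kk (r ^ j) h4) (fn l b).toAddMonoidHom ?_ ?_
  · refine ⟨toFn l v0, ?_⟩
    rw [hL v0 hv0, hv0']
    intro h
    have h1 : s' ∣ 1 := by exact_mod_cast h
    exact hsp.one_lt.ne' (Nat.dvd_one.1 h1)
  · rw [ncard_root hp cs (fun a => (s' : ℤ) ∣ (fn l b).toAddMonoidHom a) (fun v => dot b v = 0) (fun v hv => ?_),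
      ncard_root hp cs (fun a => ∑ i ∈ Finset.range (r ^ j), (rep cs hp.isCartan (cs.wordProd word ^ kk) ^ i) a = 0)
        (fun v => sumIt l m (r ^ j) v = List.replicate l 0) (fun v hv => ?_)]
    · exact h7
    · rw [← toFn_sumIt h1 h2 (rep_single hp cs hA word kk h3) _ _ (hlen v hv), decide_eq_true_iff]
      constructor
      · intro h
        rw [h, toFn_replicate]
      · intro h
        have hl := length_sumIt h2 (r ^ j) v (hlen v hv)
        refine List.ext_getElem (by rw [hl, List.length_replicate]) fun i hi hi' => ?_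
        rw [hl] at hi
        have h8 := congrFun h ⟨i, hi⟩
        rw [List.getElem_replicate]
        have h9 : toFn l (sumIt l m (r ^ j) v) ⟨i, hi⟩ = (sumIt l m (r ^ j) v).getD i 0 := rfl
        rw [h9, List.getD_eq_getElem _ _ (by rw [hl]; exact hi)] at h8
        exact h8
    · rw [hL v hv, decide_eq_true_iff]
      constructor
      · intro h
        rw [h]
        exact dvd_zero _
      · intro h
        have h8 := h6 v hv
        have h9 : s' ∣ (dot b v).natAbs := Int.natCast_dvd.1 h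
        have h10 := Nat.eq_zero_of_dvd_of_lt h9 (by omega)
        exact Int.natAbs_eq_zero.1 h10

theorem allD_comm [IsAlgClosed k] [Finite W] [Finite X] (hcm : CommIn σ e0) {r s' : ℕ}
    (hrp : r.Prime) (hsp : s'.Prime) (hrs : r ≠ s') (hrc : r ≠ p) (hr2 : r ≠ 2)
    {ε Q : ℤ} (hε : ε = 1 ∨ ε = -1) (hQ : Q = ε * (p ^ e : ℕ))
    (hT : HasTor hp cs g ε (1 : W)) (hrQ : (r : ℤ) ∣ Q - 1) {a b : W} {j : ℕ}
    (hsj : (a * b * a⁻¹ * b⁻¹) ^ r ^ j = 1)
    (hsum : ∀ x, ∑ i ∈ Finset.range (r ^ j), (rep cs hp.isCartan (a * b * a⁻¹ * b⁻¹) ^ i) x = 0) : AllD r s' X := by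
  have : Fact r.Prime := ⟨hrp⟩
  have : Fact s'.Prime := ⟨hsp⟩
  have hrZ := Nat.prime_iff_prime_int.1 hrp
  have hQr := not_dvd_Q (p := p) (e := e) Fact.out hrp hrc hε hQ
  have hNs := S.nsys hp cs
  obtain ⟨w, hw'⟩ := hT
  obtain ⟨n', hn'⟩ := exists_rp cs hNs w
  obtain ⟨z, hz⟩ := lang_all hp cs S.pos S.frob S.fr 1 n'
  rw [map_one, one_mul] at hz
  have hw : rep cs hp.isCartan (1 : W) ^ 1 = 1 := by rw [map_one, one_pow]
  have hθ : ∀ x, (theta hp cs w g)^[2 * 1] x = x := fun x => by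
    rw [theta_iter hp cs hw', eps_pow_two hε, one_smul, mul_comm, pow_mul, hw, one_pow, Module.End.one_apply]
  have hq : (r : ℤ) ∣ ((p ^ e : ℕ) : ℤ) ^ (2 * 1) - 1 := by
    have h1 : ((p ^ e : ℕ) : ℤ) ^ (2 * 1) = Q ^ (2 * 1) := by rw [hQ, mul_pow, eps_pow_two hε, one_mul]
    rw [h1]
    exact hrQ.trans ⟨Q + 1, by ring⟩
  have hroot : ∀ a, IsRoot cs hp.isCartan a →
      ∃ L : (Fin l → ℤ) →+ ℤ, ¬ (r : ℤ) ∣ Lq L (theta hp cs w g) (p ^ e) (2 * 1) a := by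
    intro a ha
    obtain ⟨i, hi⟩ := exists_coord hp cs ha hrp
    refine ⟨coordF l i, fun h => hi ?_⟩
    rw [Lq_eq hp cs hε hw' hw _ hQ, Finset.sum_range_one, pow_zero, Module.End.one_apply, Nat.sub_zero, pow_one] at h
    rcases hrZ.dvd_mul.1 h with h2 | h2
    · exfalso
      have h3 : (r : ℤ) ∣ 2 := by
        have h4 := dvd_sub h2 hrQ
        have h5 : Q + 1 - (Q - 1) = 2 := by ring
        rwa [h5] at h4
      have h4 : r ∣ 2 := by exact_mod_cast h3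
      exact hr2 ((Nat.prime_dvd_prime_iff_eq hrp Nat.prime_two).1 h4)
    · exact (hrZ.dvd_mul.1 h2).resolve_left hQr
  have hcw : ∀ (v : W) (x), rep cs hp.isCartan v (theta hp cs w g x) = theta hp cs w g (rep cs hp.isCartan v x) := by
    intro v x
    rw [hw', hw', map_zsmul, map_one, Module.End.one_apply, Module.End.one_apply]
  -- a representative of the commutator in `X`
  obtain ⟨ya, hya, hFa⟩ := S.exists_norm hp cs (by norm_num) hθ hn' (hcw a)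
  obtain ⟨yb, hyb, hFb⟩ := S.exists_norm hp cs (by norm_num) hθ hn' (hcw b)
  obtain ⟨x0, hx0⟩ := hcm.exists_of hz hFa hFb
  obtain ⟨sW, hsW⟩ : ∃ sW, sW = a * b * a⁻¹ * b⁻¹ := ⟨_, rfl⟩
  rw [← hsW] at hsj hsum
  have hx0s : Rp cs hNs sW (z⁻¹ * e0 x0 * z) := by
    rw [hx0, hsW]
    exact ((hya.mul hyb).mul hya.inv).mul hyb.inv
  -- its `r`-part
  have hord : 0 < orderOf x0 := orderOf_pos x0
  obtain ⟨a', b', hb', hab⟩ := Nat.exists_eq_pow_mul_and_not_dvd (n := r ^ j * orderOf x0)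
    (mul_ne_zero (pow_ne_zero _ hrp.ne_zero) hord.ne') r hrp.ne_one
  have hja : j ≤ a' := by
    have h4 : r ^ j ∣ r ^ a' * b' := by rw [← hab]; exact dvd_mul_right _ _
    have h5 : r ^ j ∣ r ^ a' :=
      (Nat.Coprime.pow_left _ ((Nat.Prime.coprime_iff_not_dvd hrp).2 hb')).dvd_of_dvd_mul_right h4
    exact (Nat.pow_dvd_pow_iff_le_right hrp.one_lt).1 h5
  have hbc : ∃ c : ℕ, (b' * c) ≡ 1 [MOD r ^ a'] := by
    have hco : Nat.Coprime b' (r ^ a') := (Nat.Coprime.pow_left _ ((Nat.Prime.coprime_iff_not_dvd hrp).2 hb')).symm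
    rcases Nat.lt_or_ge 1 (r ^ a') with h7 | h7
    · obtain ⟨c, -, hc⟩ := Nat.exists_mul_mod_eq_one_of_coprime hco h7
      exact ⟨c, by rw [Nat.ModEq, hc, Nat.mod_eq_of_lt h7]⟩
    · have h8 : r ^ a' = 1 := le_antisymm h7 (Nat.one_le_iff_ne_zero.2 (pow_ne_zero _ hrp.ne_zero))
      exact ⟨1, by rw [h8]; exact Nat.modEq_one⟩
  obtain ⟨c, hc⟩ := hbc
  obtain ⟨x, hxd⟩ : ∃ x, x = x0 ^ (b' * c) := ⟨_, rfl⟩
  have hx : ∃ a, x ^ r ^ a = 1 := by
    refine ⟨a', ?_⟩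
    rw [hxd, ← pow_mul]
    have h7 : b' * c * r ^ a' = orderOf x0 * (r ^ j * c) := by
      have : b' * c * r ^ a' = (r ^ a' * b') * c := by ring
      rw [this, ← hab]; ring
    rw [h7, pow_mul, pow_orderOf_eq_one, one_pow]
  have hxs : Rp cs hNs sW (z⁻¹ * e0 x * z) := by
    have h7 := rp_pow hp cs hx0s (b' * c)
    rw [S.conj_pow_eq hp cs, ← hxd] at h7
    have h8 : sW ^ (b' * c) = sW := by
      have h9 : (b' * c) ≡ 1 [MOD r ^ j] := hc.of_dvd (pow_dvd_pow r hja)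
      have h10 : (b' * c) ≡ 1 [MOD orderOf sW] := h9.of_dvd (orderOf_dvd_of_pow_eq_one hsj)
      have h11 := pow_eq_pow_iff_modEq.2 h10
      rwa [pow_one] at h11
    rwa [h8] at h7
  refine allD_of r _ (isPGroup_E hp cs S.inj hx hxs) ?_
  intro y hy hyc
  have hcs : (z⁻¹ * e0 y * z) ^ s' = 1 := by
    rw [S.conj_pow_eq hp cs, ← hy, pow_orderOf_eq_one, map_one]
    group
  have hyT : z⁻¹ * e0 y * z ∈ TT D k := by
    refine mem_TT_of_pow hp cs S.lf p hNs (A := (fun x : X => z⁻¹ * e0 x * z) '' (tXr hp S.inj z r : Set X))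
      ((Set.toFinite _).image _) ?_ ?_ (r := r) ?_ hsp.pos ((Nat.coprime_primes hsp hrp).2 (Ne.symm hrs)) ?_ hcs
    · rintro _ ⟨x, hx, rfl⟩
      exact hx.1
    · intro a ha
      obtain ⟨x, hx, h1⟩ := S.root_comm hp cs hcm hrp hrc hr2 hn' hz (by norm_num) hθ hq hroot hcw ha
      exact ⟨_, ⟨x, hx, rfl⟩, h1⟩
    · rintro _ ⟨x, hx, rfl⟩
      show (z⁻¹ * e0 x * z) ^ r = 1
      rw [S.conj_pow_eq hp cs, hx.2, map_one]
      group
    · rintro _ ⟨x, hx, rfl⟩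
      have h2 := hyc x (Subgroup.mem_sup_right hx)
      calc z⁻¹ * e0 y * z * (z⁻¹ * e0 x * z) = z⁻¹ * (e0 (y * x)) * z := by rw [map_mul]; group
        _ = z⁻¹ * (e0 (x * y)) * z := by rw [h2]
        _ = _ := by rw [map_mul]; group
  have hfix : ∀ v, cX hp (z⁻¹ * e0 y * z) (rep cs hp.isCartan sW v) = cX hp (z⁻¹ * e0 y * z) v := by
    refine fix_of_rp hp cs S.lf p hxs hyT ?_
    have h2 := hyc x (Subgroup.mem_sup_left (Subgroup.mem_zpowers x))
    calc z⁻¹ * e0 x * z * (z⁻¹ * e0 y * z) = z⁻¹ * (e0 (x * y)) * z := by rw [map_mul]; group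
      _ = z⁻¹ * (e0 (y * x)) * z := by rw [h2]
      _ = _ := by rw [map_mul]; group
  have hmc := isMC_cX hp hyT
  have h1 : z⁻¹ * e0 y * z = 1 := by
    refine cX_inj hp hyT (one_mem _) fun i => ?_
    rw [cX_one]
    obtain ⟨v, hv⟩ : ∃ v : Fin l → ℤ, v = sr i := ⟨_, rfl⟩
    rw [← hv]
    have h2 : ∀ i, cX hp (z⁻¹ * e0 y * z) ((rep cs hp.isCartan sW ^ i) v) = cX hp (z⁻¹ * e0 y * z) v := by
      intro i
      induction i with
      | zero => rw [pow_zero, Module.End.one_apply]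
      | succ i ih => rw [pow_succ', Module.End.mul_apply, hfix, ih]
    have h3 : cX hp (z⁻¹ * e0 y * z) v ^ r ^ j = 1 := by
      have h4 := hmc.sum (Finset.range (r ^ j)) (fun i => (rep cs hp.isCartan sW ^ i) v)
      rw [hsum, hmc.zero, Finset.prod_congr rfl (fun i _ => h2 i), Finset.prod_const, Finset.card_range] at h4
      exact h4.symm
    have h5 : cX hp (z⁻¹ * e0 y * z) v ^ s' = 1 := by
      rw [← cX_pow hp hyT, hcs, cX_one]
    have h10 : orderOf (cX hp (z⁻¹ * e0 y * z) v) ∣ 1 := by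
      have h11 := Nat.dvd_gcd (orderOf_dvd_of_pow_eq_one h3) (orderOf_dvd_of_pow_eq_one h5)
      rwa [(Nat.Coprime.pow_left j ((Nat.coprime_primes hrp hsp).2 hrs) : Nat.gcd (r ^ j) s' = 1)] at h11
    exact orderOf_eq_one_iff.1 (Nat.dvd_one.1 h10)
  have h4 : e0 y = 1 := by
    have : e0 y = z * (z⁻¹ * e0 y * z) * z⁻¹ := by group
    rw [this, h1]; group
  have h5 : y = 1 := S.inj (by rw [h4, map_one])
  rw [h5, orderOf_one] at hy
  exact hsp.one_lt.ne hy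

theorem allD_sum12 [IsAlgClosed k] [Finite W] [Finite X]
    (hT : ∀ ε : ℤ, ε = 1 ∨ ε = -1 → ∀ w1, HasTor hp cs g ε w1) {r s' : ℕ} (hrp : r.Prime)
    (hsp : s'.Prime) (hrs : r ≠ s') (hrc : r ≠ p) (hrd : ¬ r ∣ d) (hr2 : r ≠ 2)
    {ε Q : ℤ} (hε : ε = 1 ∨ ε = -1) (hQ : Q = ε * (p ^ e : ℕ))
    (h12 : orderOf (Q : ZMod r) = 1 ∨ orderOf (Q : ZMod r) = 2) {word : List (Fin l)} {k2 : ℕ} {Al : List (List ℤ)}
    (hA : MatList (cartanOf D l) Al) {m : List (List ℤ)} {j : ℕ} (H : SumCk l Al word k2 (r ^ j) m) :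
    AllD r s' X := by
  obtain ⟨ε', Q', hε', hQ', hrQ, -⟩ := exists_eps hε hQ hrp rfl h12
  refine allD_sum_ck hp cs S hrp hsp hrs hrc hrd hr2 hε' hQ' (k1 := 0) (hT ε' hε' _) one_pos ?_
    (by rw [pow_one]; exact hrQ) ?_ hA H
  · rw [pow_zero, map_one, one_pow]
  · rw [pow_zero]
    exact regAt_one hp cs hrp (not_dvd_Q Fact.out hrp hrc hε' hQ')

/-- primes which do not divide the order of the torus -/
theorem allD_reg [IsAlgClosed k] [Finite W] [Finite X] {r s' : ℕ} (hrp : r.Prime) (hsp : s'.Prime) (hrs : r ≠ s')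
    (hrc : r ≠ p) (hrd : ¬ r ∣ d) (hr2 : r ≠ 2) {ε Q : ℤ} (hε : ε = 1 ∨ ε = -1) (hQ : Q = ε * (p ^ e : ℕ))
    (hT : HasTor hp cs g ε (1 : W)) (hrQ : (r : ℤ) ∣ Q - 1) (hsQ : ¬ (s' : ℤ) ∣ Q - 1) : AllD r s' X := by
  refine allD_sum hp cs S hrp hsp hrs hrc hrd hr2 hε hQ hT one_pos (by rw [map_one, one_pow]) (by rwa [pow_one])
    (regAt_one hp cs hrp (not_dvd_Q Fact.out hrp hrc hε hQ)) (sW := 1) (fun x => rfl) (j := 0)
    (by rw [map_one, one_pow]) ![-1, 1] (fun x => ?_) ?_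
  · rw [pow_zero, Finset.sum_range_one, pow_zero, Module.End.one_apply, Fin.sum_univ_two, map_one, one_pow, one_pow,
      Module.End.one_apply]
    show (-1 : ℤ) • x + (1 : ℤ) • x = 0
    rw [← add_smul, neg_add_cancel, zero_smul]
  · rw [Fin.sum_univ_two]
    show ¬ (s' : ℤ) ∣ -1 * Q ^ 0 + 1 * Q ^ 1
    rwa [pow_zero, pow_one, mul_one, one_mul, neg_add_eq_sub]

end Gen

end Cfsg.Agent.PQ.SS.Bad
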