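import Cfsg.Agent.KZ.Lie.DGen
import Cfsg.Agent.H809.PQ.LinearTest

/-!
# PQ, SEMI: descent of characters (helper81)

* `mem_of_central` : principal blocks and central quotients;
* `ratio_dvd` : the ratio of the degrees divides the norm of the restriction; `ratio_pow`.
-/

set_option autoImplicit false
set_option linter.unusedSectionVars false
set_option maxHeartbeats 400000

namespace Cfsg.Agent.PQ.SS

open Cfsg Cfsg.Agent.KZ Cfsg.Agent.KZ.Tool Cfsg.Agent.KZ.Red Cfsg.Agent.KZ.Res Cfsg.Agent.Characters.Core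
  Cfsg.Agent.Blocks.Basic

variable {M : Ideal AlgInt} {l : ℕ}

theorem exists_reg {A B : Type*} [Group A] [Group B] [Finite A] (hl : l.Prime) (f : A →* B) (a : A)
    (h : ¬ l ∣ orderOf (f a)) : ∃ a', ¬ l ∣ orderOf a' ∧ f a' = f a := by
  obtain ⟨u, hu⟩ := exists_pow_eq_self_of_coprime (x := f a) (n := l ^ (orderOf a).factorization l)
    ((hl.coprime_iff_not_dvd.2 h).pow_left _)
  refine ⟨(a ^ l ^ (orderOf a).factorization l) ^ u, fun h1 => ?_, by rw [map_pow, map_pow, hu]⟩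
  refine Nat.not_dvd_ordCompl hl (orderOf_pos a).ne' (h1.trans ((orderOf_pow_dvd u).trans (orderOf_dvd_of_pow_eq_one ?_)))
  rw [← pow_mul, Nat.ordProj_mul_ordCompl_eq_self, pow_orderOf_eq_one]

theorem reg_mul {A : Type*} [Group A] (hl : l.Prime) {a b : A} (h : Commute a b) (ha : ¬ l ∣ orderOf a)
    (hb : ¬ l ∣ orderOf b) : ¬ l ∣ orderOf (a * b) := fun h1 =>
  ((hl.dvd_mul).1 (h1.trans h.orderOf_mul_dvd_mul_orderOf)).elim ha hb

/-- central kernel: the inflation is a member only if the character is -/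
theorem mem_of_central {A B : Type} [Group A] [Group B] [Finite A] (hM : IsPModular l M) (f : A →* B)
    (hf : Function.Surjective f) (hz : ∀ z, f z = 1 → ∀ g, g * z = z * g) {ψ : IrrCharacter B}
    (h : pull f hf ψ ∈ principalBlock M A) : ψ ∈ principalBlock M B := by
  classical
  have hl : l.Prime := hM.1
  have : Fact l.Prime := ⟨hl⟩
  have := Fintype.ofFinite A
  have : Finite B := Finite.of_surjective f hf
  have := Fintype.ofFinite B
  refine H809.PQ.mem_principal_of_sum hl hM ψ fun h1 => H133.PB.sum_regular_ne_zero hM h ?_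
  rw [← Finset.sum_fiberwise_of_maps_to (s := Finset.univ.filter fun a : A => ¬ l ∣ orderOf a)
    (t := Finset.univ.filter fun b : B => ¬ l ∣ orderOf b) (g := f)
    fun a ha => Finset.mem_filter.2 ⟨Finset.mem_univ _, fun h2 =>
      (Finset.mem_filter.1 ha).2 (h2.trans (orderOf_map_dvd f a))⟩]
  rw [← mul_zero (((Finset.univ.filter fun a : A => ¬ l ∣ orderOf a).filter fun a => f a = 1).card : ℂ), ← h1,
    Finset.mul_sum]
  refine Finset.sum_congr rfl fun b hb => ?_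
  obtain ⟨a, rfl⟩ := hf b
  obtain ⟨a, ha, e⟩ := exists_reg hl f a (Finset.mem_filter.1 hb).2
  rw [← e, Finset.sum_congr rfl fun x hx => show (pull f hf ψ : A → ℂ) x = (ψ : B → ℂ) (f a) from
    congrArg (ψ : B → ℂ) (Finset.mem_filter.1 hx).2, Finset.sum_const, nsmul_eq_mul]
  congr 2
  symm
  refine Finset.card_nbij' (fun z => a * z) (fun x => a⁻¹ * x) (fun z hz' => ?_) (fun x hx => ?_)
    (fun z _ => inv_mul_cancel_left _ _) fun x _ => mul_inv_cancel_left _ _
  · simp only [Finset.coe_filter, Finset.mem_filter, Finset.mem_univ, true_and, Set.mem_setOf_eq] at hz' ⊢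
    exact ⟨reg_mul hl (hz z hz'.2 a) ha hz'.1, by rw [map_mul, hz'.2, mul_one]⟩
  · simp only [Finset.coe_filter, Finset.mem_filter, Finset.mem_univ, true_and, Set.mem_setOf_eq] at hx ⊢
    have h2 : f (a⁻¹ * x) = 1 := by rw [map_mul, map_inv, hx.2, inv_mul_cancel]
    have h3 : Commute a x := by
      have := hz _ h2 a
      rw [mul_inv_cancel_left, mul_assoc, eq_inv_mul_iff_mul_eq] at this
      exact this
    exact ⟨reg_mul hl h3.inv_left (by rwa [orderOf_inv]) hx.1, h2⟩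

variable {A : Type} [Group A] [Finite A] {N : Subgroup A} [N.Normal]

theorem ratio_dvd [Fintype ↥N] {χ : IrrCharacter A} {θ : IrrCharacter ↥N} (h : Over N χ θ) {n : ℕ}
    (hn : classInner (fun n : ↥N => (χ : A → ℂ) n) (fun n : ↥N => (χ : A → ℂ) n) = n) :
    ∃ r, r ∣ n ∧ charDegree (χ : A → ℂ) = charDegree (θ : ↥N → ℂ) * r := by
  classical
  have := Fintype.ofFinite A
  have := @Fintype.ofFinite _ (finite_irr (G := ↥N))
  obtain ⟨m, hm⟩ := exists_nat_comb (Characters.Clifford.isCharacter_restrict N (isIrr_isCharacter χ.2))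
  have hm' : (fun n : ↥N => (χ : A → ℂ) n) = ∑ ψ : IrrCharacter ↥N, m ψ • (ψ : ↥N → ℂ) := hm
  have h1 : ∀ ψ : IrrCharacter ↥N, classInner (fun n : ↥N => (χ : A → ℂ) n) ψ = m ψ := fun ψ => by
    rw [hm', classInner_sum_nsmul_irr]
  have h2 : ∀ ψ, m ψ ≠ 0 → m ψ = m θ ∧ charDegree (ψ : ↥N → ℂ) = charDegree (θ : ↥N → ℂ) := fun ψ h0 => by
    have h3 := gconj_of_over h (θ' := ψ) (by rw [over_iff, h1]; exact Nat.cast_ne_zero.2 h0)
    refine ⟨?_, (deg_of_gconj h3).symm⟩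
    obtain ⟨g, rfl⟩ := gconj_iff.1 h3
    have h4 : classInner (fun n : ↥N => (χ : A → ℂ) n) (cj g θ : ↥N → ℂ) = classInner (fun n : ↥N => (χ : A → ℂ) n) θ :=
      Characters.Clifford.classInner_restrict_conjNormal (isIrr_isClassFunction χ.2) (θ : ↥N → ℂ) g
    rw [h1, h1] at h4
    exact Nat.cast_injective h4
  rw [hm'] at hn
  simp only [← Nat.cast_smul_eq_nsmul ℂ] at hn
  rw [classInner_sum_smul_sum_smul] at hn
  simp only [map_natCast, ← Nat.cast_mul, ← Nat.cast_sum, Nat.cast_inj] at hn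
  refine ⟨∑ ψ, m ψ, ⟨m θ, ?_⟩, ?_⟩
  · rw [← hn, Finset.sum_mul]
    refine Finset.sum_congr rfl fun ψ _ => ?_
    by_cases h0 : m ψ = 0
    · rw [h0, zero_mul, zero_mul]
    · rw [(h2 ψ h0).1]
  · have h3 := congrFun hm' 1
    rw [OneMemClass.coe_one, irr_one_eq_charDegree χ.2, Finset.sum_apply] at h3
    refine Nat.cast_injective (R := ℂ) (h3.trans ?_)
    rw [Finset.mul_sum, Nat.cast_sum]
    refine Finset.sum_congr rfl fun ψ _ => ?_
    rw [Pi.smul_apply, irr_one_eq_charDegree ψ.2, nsmul_eq_mul, Nat.cast_mul, mul_comm]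
    by_cases h0 : m ψ = 0
    · rw [h0, Nat.cast_zero, mul_zero, mul_zero]
    · rw [(h2 ψ h0).2]

/-- if only linear characters of `l`-power order fix `χ`, the ratio of the degrees is a power of `l` -/
theorem ratio_pow (hl : l.Prime) (hab : ∀ x y : A, x * y * x⁻¹ * y⁻¹ ∈ N) {χ : IrrCharacter A} {θ : IrrCharacter ↥N}
    (h : Over N χ θ) (ht : ∀ μ : A →* ℂˣ, (∀ n ∈ N, μ n = 1) → (∀ g, μ g * (χ : A → ℂ) g = (χ : A → ℂ) g) →
      ∃ j : ℕ, μ ^ l ^ j = 1) :
    ∃ i, charDegree (χ : A → ℂ) = charDegree (θ : ↥N → ℂ) * l ^ i ∧ l ^ i ∣ N.index := by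
  have := Fintype.ofFinite ↥N
  have : Fact l.Prime := ⟨hl⟩
  let K : Subgroup (A →* ℂˣ) :=
    { carrier := {μ | (∀ n ∈ N, μ n = 1) ∧ ∀ g, μ g * (χ : A → ℂ) g = (χ : A → ℂ) g}
      one_mem' := ⟨fun _ _ => rfl, fun g => by simp⟩
      mul_mem' := fun {a b} ha hb => ⟨fun n hn => by rw [MonoidHom.mul_apply, ha.1 n hn, hb.1 n hn, mul_one],
        fun g => by rw [MonoidHom.mul_apply, Units.val_mul, mul_assoc, hb.2, ha.2]⟩
      inv_mem' := fun {a} ha => ⟨fun n hn => by rw [MonoidHom.inv_apply, ha.1 n hn, inv_one],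
        fun g => by rw [MonoidHom.inv_apply, Units.inv_mul_eq_iff_eq_mul, ha.2]⟩ }
  have hK : IsPGroup l K := fun μ => by
    obtain ⟨j, hj⟩ := ht μ.1 μ.2.1 μ.2.2
    exact ⟨j, Subtype.ext hj⟩
  have : Finite (A →* ℂˣ) := inferInstance
  obtain ⟨a, ha⟩ := hK.exists_card_eq
  obtain ⟨r, h1, h2⟩ := ratio_dvd h (DGen.norm_res hab χ)
  obtain ⟨i, -, rfl⟩ := (Nat.dvd_prime_pow hl).1 (ha ▸ h1 : r ∣ l ^ a)
  refine ⟨i, h2, ?_⟩
  have h3 := (over_dvd h).2
  rwa [h2, Nat.mul_div_cancel_left _ (Nat.pos_of_ne_zero fun e => ?_)] at h3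
  have := irr_one_eq_charDegree θ.2
  rw [e, Nat.cast_zero] at this
  exact irr_one_ne_zero θ.2 this

end Cfsg.Agent.PQ.SS
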