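import Cfsg.Agent.PQ.SS.Cmb
import Cfsg.Agent.PQ.SS.Gen
import Cfsg.Agent.KZ.TF.MixA
import Cfsg.Agent.KZ.Mts.Main

/-!
# PQ, SEMI: the semisimple class function of a label (helper81)

* `ss f w c` : the average of the `RW (u w) c` over the stabiliser of `c`; `ss_norm`, `ss_reg`, `ss_one`;
* `exists_irr` : if it is a generalized character, it is up to sign a member of the principal block; `down`;
* `molien` : the average of `sg w / ordT w`.
-/

set_option autoImplicit false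
set_option linter.unusedSectionVars false
set_option maxHeartbeats 400000

namespace Cfsg.Agent.PQ.SS

open Cfsg Cfsg.Agent.DL Cfsg.Agent.DL.PP Cfsg.Agent.DL.Uni Cfsg.Agent.DL.Asm Cfsg.Agent.KZ Cfsg.Agent.KZ.Lie
  Cfsg.Agent.LV.Blk Cfsg.Agent.KZ.ClD Cfsg.Agent.Characters.Core Matrix
open scoped ComplexConjugate

variable {p : ℕ} [Fact p.Prime] {k : Type} [Field k] [CharP k p] {Y : Type} [Group Y] {N : Type} [Fintype N]
  [DecidableEq N] {ρ : Y →* GL N k} {F : MulAut Y} {G : Subgroup Y} [IsAlgClosed k] {D : Datum p ρ F G} {l : ℕ}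
  {M : Ideal AlgInt} {w : D.W} {c : Lbl D}

variable (D) in
/-- Molien's identity -/
theorem molien : ∃ ε : ℂ, (ε = 1 ∨ ε = -1) ∧
    (Nat.card D.W : ℂ)⁻¹ * (∑ᶠ w, sg D w / ordT D w) * pc' p (GF F G) = ε := by
  obtain ⟨f⟩ := nonempty_fr D
  obtain ⟨St, hSt⟩ := St.stD D
  obtain ⟨w₀, h0⟩ := eps_gen hSt
  have := Fintype.ofFinite D.W
  have := @Fintype.ofFinite _ (finite_GF D)
  refine ⟨sg D w₀, sg_sign D w₀, ?_⟩
  have h1 := congrFun (avg_one f) 1
  rw [avg_top, finsum_eq_sum_of_fintype] at h1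
  have h2 : ∀ w, RW f w 1 1 = sg D w₀ * (sg D w / ordT D w * pc' p (GF F G)) := fun w => by
    have h3 := hSt.degree (sys' D) (Tw_mem w) (th f w 1)
    rw [(th_spec f (fx_one w)).1.one, mul_one, card_Tw, Tw, h0 _ (yw_mem D w) w (yw_rp D w)] at h3
    refine h3.trans ?_
    ring
  simp only [h2, one_mul, ← Finset.mul_sum, ← Finset.sum_mul] at h1
  rw [finsum_eq_sum_of_fintype, ← one_mul (_ * _ * _), ← sg_mul_self D w₀]
  linear_combination sg D w₀ * h1

variable [Fintype ↥(GF F G)] (f : Fr D)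

/-- the semisimple class function -/
noncomputable abbrev ss (w : D.W) (c : Lbl D) : ↥(GF F G) → ℂ := avg f (Wc D c) (fun _ => 1) w c

theorem ss_ip (h : Fx D w c) : classInner (ss f w c) (RW f w c) = 1 := by
  have := TF.Mix.ip_ser (f := f) (φ := fun _ => 1) h (fun _ _ _ _ => rfl) (one_mem _)
  rwa [one_mul] at this

theorem ss_norm (h : Fx D w c) : classInner (ss f w c) (ss f w c) = 1 := by
  rw [ip_avg', finsum_congr fun u : Wc D c => by rw [TF.Mix.ip_ser h (fun _ _ _ _ => rfl) u.2, map_one, one_mul],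
    finsum_const, mul_one, inv_mul_cancel₀ (card_ne _)]

theorem ss_one (hq : D.QS) (h : Fx D w c) : ss f w c 1 =
    (Nat.card (Wc D c) : ℂ)⁻¹ * (∑ᶠ u : Wc D c, sg D (u * w) / ordT D (u * w)) * pc' p (GF F G) := by
  have := Fintype.ofFinite (Wc D c)
  rw [ss, avg, finsum_eq_sum_of_fintype, finsum_eq_sum_of_fintype, mul_assoc, Finset.sum_mul]
  refine congrArg _ (Finset.sum_congr rfl fun u _ => ?_)
  rw [one_mul, div_mul_eq_mul_div, eq_div_iff (Nat.cast_ne_zero.2 (ordT_ne _))]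
  exact RW_deg f hq (h.mul u.2)

theorem RW_reg (hl : l.Prime) (hp : l ≠ p) (h : Fx D w c) (hc : IsL l c) :
    classInner (RW f w c) (reg l) = ((((l : ℝ) ^ (ordT D w).factorization l)⁻¹ : ℝ) : ℂ) := by
  have h1 := mL_reg f hl hp h fun _ => 1
  rw [mL_triv f h, if_pos hc] at h1
  have h2 : classInner (RW f w c) (reg l) = conj (classInner (fun _ => 1) (reg l * RW f w c)) := by
    rw [classInner_conj_symm, classInner_def, classInner_def]
    refine congrArg _ (Finset.sum_congr rfl fun g _ => ?_)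
    rw [conj_reg, map_one, mul_one, Pi.mul_apply, mul_comm]
  rw [h2, eq_inv_of_mul_eq_one_right h1.symm]
  simp

theorem ss_reg (hl : l.Prime) (hp : l ≠ p) (h : Fx D w c) (hc : IsL l c) : classInner (ss f w c) (reg l) ≠ 0 := by
  have := Fintype.ofFinite (Wc D c)
  rw [ip_avg, finsum_eq_sum_of_fintype, Finset.sum_congr rfl fun (u : Wc D c) _ => by
    rw [one_mul, RW_reg f hl hp (h.mul u.2) hc], ← Complex.ofReal_sum]
  refine mul_ne_zero (inv_ne_zero (card_ne _)) (Complex.ofReal_ne_zero.2 (Finset.sum_pos (fun u _ => ?_) ?_).ne')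
  · exact inv_pos.2 (pow_pos (Nat.cast_pos.2 hl.pos) _)
  · exact ⟨1, Finset.mem_univ _⟩

/-- the member of the principal block -/
theorem exists_irr (hM : IsPModular l M) (hp : l ≠ p) (h : Fx D w c) (hc : IsL l c)
    (hg : IsGeneralizedCharacter ↥(GF F G) (ss f w c)) :
    ∃ χ ∈ principalBlock M ↥(GF F G), ∃ ε : ℂ, (ε = 1 ∨ ε = -1) ∧ (χ : GF F G → ℂ) = ε • ss f w c := by
  classical
  obtain ⟨χ, ε, h1, h2⟩ : ∃ (χ : IrrCharacter ↥(GF F G)) (ε : ℂ), (ε = 1 ∨ ε = -1) ∧ (χ : GF F G → ℂ) = ε • ss f w c := by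
    rcases isIrr_of_generalized hg (ss_norm f h) with h1 | h1
    exacts [⟨⟨_, h1⟩, 1, .inl rfl, (one_smul _ _).symm⟩, ⟨⟨_, h1⟩, -1, .inr rfl, (neg_one_smul _ _).symm⟩]
  refine ⟨χ, H809.PQ.mem_principal_of_sum hM.1 hM χ fun h3 => ss_reg f hM.1 hp h hc ?_, ε, h1, h2⟩
  have h4 : classInner (χ : GF F G → ℂ) (reg l) = 0 := by
    rw [classInner_def, ← mul_zero (Nat.card ↥(GF F G) : ℂ)⁻¹, ← h3, Finset.sum_filter]
    refine congrArg _ (Finset.sum_congr rfl fun g _ => ?_)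
    rw [conj_reg, reg]
    split_ifs <;> simp
  rw [h2, classInner_smul_left] at h4
  refine (mul_eq_zero.1 h4).resolve_left ?_
  rcases h1 with rfl | rfl <;> simp

theorem isL_rel {v : D.W} {c' : Lbl D} (h : Rel D v c c') (hc : IsL l c) : IsL l c' := by
  obtain ⟨j, hj⟩ := hc
  refine ⟨j, eq_of_chr D fun x => ?_⟩
  rw [map_pow, ← h.symm, ← map_pow, hj, map_one, map_one]

variable {Adm : Matrix D.R D.R ℤ → Prop} {S : Type} [Group S] (s : Sit D Adm S)

/-- descent to the simple group -/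
theorem down (hM : IsPModular l M) (h : Fx D w c) (hc : IsL l c) (hz : s.Z1 f c) {χ : IrrCharacter ↥(GF F G)}
    (hχ : χ ∈ principalBlock M ↥(GF F G)) {ε : ℂ} (hε : ε = 1 ∨ ε = -1) (e : (χ : GF F G → ℂ) = ε • ss f w c) :
    ∃ ψ ∈ principalBlock M S, ∃ i, charDegree (χ : GF F G → ℂ) = charDegree (ψ : S → ℂ) * l ^ i ∧
      l ^ i ∣ s.H1.index := by
  have : Fact l.Prime := ⟨hM.1⟩
  have := Fintype.ofFinite ↥s.H1
  have := s.normal
  have h0 : ε ≠ 0 := by rcases hε with rfl | rfl <;> simp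
  have hne : classInner χ.1 (RW f w c) ≠ 0 := by
    rw [e, classInner_smul_left, ss_ip f h, mul_one]
    exact h0
  obtain ⟨θ, hθ⟩ := Res.exists_under s.H1 χ
  obtain ⟨ψ, rfl⟩ := DGen.exists_push s.π1 s.π1_surj (θ := θ) fun z h1 => by
    have h6 := Res.over_iff.1 hθ
    have h7 : ∀ g : ↥s.H1, χ.1 ((z * g : ↥s.H1) : ↥(GF F G)) = χ.1 g := fun g => by
      rw [Subgroup.coe_mul, irr_cen χ (s.π1_cen z h1),
        show χ.1 z = χ.1 1 from s.ker_of_zw hne (fun z hz' => hz z hz' w) ⟨z.1, z.2⟩ h1,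
        div_self (isIrr_apply_one_ne_zero χ.2), one_mul]
    rw [← classInner_conj_symm, map_ne_zero] at h6
    have h8 : classInner θ.1 (fun n : ↥s.H1 => χ.1 n) = θ.1 z / θ.1 1 * classInner θ.1 (fun n : ↥s.H1 => χ.1 n) := by
      rw [classInner_def, mul_left_comm, Finset.mul_sum _ _ (_ / _), ← Equiv.sum_comp (Equiv.mulLeft z)]
      refine congrArg _ (Finset.sum_congr rfl fun g _ => ?_)
      rw [Equiv.coe_mulLeft, h7, irr_cen θ (fun g => Subtype.ext (s.π1_cen z h1 g)), mul_assoc]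
    exact (div_eq_one_iff_eq (isIrr_apply_one_ne_zero θ.2)).1 ((mul_eq_right₀ h6).1 h8.symm)
  refine ⟨ψ, mem_of_central hM s.π1 s.π1_surj (fun z hz g => Subtype.ext (s.π1_cen z hz g))
    (H611.CoverPrincipal.mem_principalBlock_of_over l hM s.H1 χ _ (Res.over_iff.1 hθ) hχ), ?_⟩
  rw [← Res.pull_deg s.π1 s.π1_surj ψ]
  refine ratio_pow hM.1 s.comm1 hθ fun μ h1 h2 => ?_
  obtain ⟨cl, -, -, h3, h4⟩ := (Mts.boxApi f s.qs).lin μ fun u hu => h1 u (s.uni u u.2 hu)
  have h5 : classInner χ.1 (RW f w (c * cl)) ≠ 0 := by rwa [ip_twist h4 fun g => (h2 g).symm]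
  obtain ⟨v, hv⟩ : ∃ v, Rel D v c (c * cl) := by
    by_contra h6
    rw [e, classInner_smul_left, TF.Mix.ip_ser_ne _ (not_exists.1 h6), mul_zero] at h5
    exact h5 rfl
  obtain ⟨j, hj⟩ := hc.inv.mul (isL_rel hv hc)
  exact ⟨j, (h3 _).2 (by rwa [inv_mul_cancel_left] at hj)⟩

end Cfsg.Agent.PQ.SS
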