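import Cfsg.Agent.PQ.SS.Defs

/-!
# PQ, SEMI: root combinatorics (helper81)

* `Cg n x y` : congruence of vectors; `steinberg` : the stabiliser of a weight modulo `l ^ j` is a reflection group;
* `Dual.dl` : the anti-automorphism of the Weyl group given by `B`; `Dual.root`, `Dual.stab`, `Dual.ordT`.
-/

set_option autoImplicit false
set_option linter.unusedSectionVars false

namespace Cfsg.Agent.PQ.SS

open Cfsg Cfsg.Agent.DL Cfsg.Agent.DL.PP Cfsg.Agent.KZ.Lie Cfsg.Agent.LV.Blk Cfsg.Agent.Nodes.Reps Matrix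
  Cfsg.Agent.ChevalleyStructure.CoxeterGeom Cfsg.Agent.Tits.Roots Cfsg.Agent.Nodes.Coroot Cfsg.Agent.Nodes.BNOf

section Cg

variable {R : Type} [Fintype R] [DecidableEq R] {n : ℤ} {x y z : R → ℤ}

/-- congruence of vectors -/
def Cg (n : ℤ) (x y : R → ℤ) : Prop := ∀ i, n ∣ x i - y i

theorem Cg.refl (n : ℤ) (x : R → ℤ) : Cg n x x := fun i => by rw [sub_self]; exact dvd_zero _

theorem Cg.symm (h : Cg n x y) : Cg n y x := fun i => dvd_sub_comm.1 (h i)

theorem Cg.trans (h : Cg n x y) (h' : Cg n y z) : Cg n x z := fun i => by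
  have := dvd_add (h i) (h' i)
  rwa [sub_add_sub_cancel] at this

theorem Cg.dot (h : Cg n x y) (u : R → ℤ) : n ∣ x ⬝ᵥ u - y ⬝ᵥ u := by
  rw [← sub_dotProduct]
  exact Finset.dvd_sum fun i _ => (h i).mul_right _

theorem cg_of_dot (h : ∀ u, n ∣ x ⬝ᵥ u - y ⬝ᵥ u) : Cg n x y := fun i => by
  simpa using h (Pi.single i 1)

theorem Cg.mulVec (h : Cg n x y) (A : Matrix R R ℤ) : Cg n (A *ᵥ x) (A *ᵥ y) := fun i => by
  have := h.dot (A i)
  rwa [dotProduct_comm x, dotProduct_comm y] at this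

theorem Cg.vecMul (h : Cg n x y) (A : Matrix R R ℤ) : Cg n (x ᵥ* A) (y ᵥ* A) := by
  rw [← mulVec_transpose, ← mulVec_transpose]
  exact h.mulVec _

theorem Cg.cancel {B : Matrix R R ℤ} (hB : IsCoprime n B.det) (h : Cg n (B *ᵥ x) (B *ᵥ y)) : Cg n x y := fun i => by
  have h1 := h.mulVec B.adjugate i
  rw [mulVec_mulVec, mulVec_mulVec, adjugate_mul, smul_mulVec, smul_mulVec, one_mulVec, one_mulVec, Pi.smul_apply,
    Pi.smul_apply, smul_eq_mul, smul_eq_mul, ← mul_sub] at h1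
  exact hB.dvd_of_dvd_mul_left h1

theorem cop_of_not {l : ℕ} (hl : l.Prime) {a : ℤ} (h : ¬ (l : ℤ) ∣ a) (j : ℕ) : IsCoprime ((l : ℤ) ^ j) a :=
  ((Nat.prime_iff_prime_int.1 hl).irreducible.coprime_iff_not_dvd.2 h).pow_left

theorem coch_eq_iff {K : Type} [Field K] {ζ : Kˣ} {m : ℕ} (hζ : IsPrimitiveRoot ζ m) :
    coch x ζ = coch y ζ ↔ Cg m x y := by
  refine funext_iff.trans (forall_congr' fun i => ?_)
  rw [coch_apply, coch_apply, ← hζ.zpow_eq_one_iff_dvd, _root_.zpow_sub, mul_inv_eq_one]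

theorem chr_coch' {K : Type} [Field K] (u x : R → ℤ) (ζ : Kˣ) : chr u (coch x ζ) = ζ ^ (x ⬝ᵥ u) := by
  rw [chr_coch, dotProduct_comm]
  rfl

end Cg

variable {p : ℕ} [Fact p.Prime] {k : Type} [Field k] [CharP k p] {Y : Type} [Group Y] {N : Type} [Fintype N]
  [DecidableEq N] {ρ : Y →* GL N k} {F : MulAut Y} {G : Subgroup Y} [IsAlgClosed k] {D : Datum p ρ F G} {l : ℕ}

theorem eq_one_of_fix' (hl : l.Prime) (hZ : CZl D l) {x : D.R → ℤ} {j : ℕ} (f : (D.I → ℤ) →+ ℤ)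
    (hf : ∀ a, D.Rt a → (l : ℤ) ^ j ∣ x ⬝ᵥ D.cor a → f a ≠ 0) {u : D.W} (hu : Cg ((l : ℤ) ^ j) (x ᵥ* D.Wm u) x)
    (hul : ∀ a, f (D.act u a) = f a) : u = 1 := by
  obtain ⟨m, ϖ, hm, hϖ⟩ := hZ
  have hn : (0 : ℤ) < (l : ℤ) ^ j := pow_pos (Int.natCast_pos.2 hl.pos) _
  have hc := cop_of_not hl (mt Int.natCast_dvd_natCast.1 hm) j
  generalize (l : ℤ) ^ j = n at *
  obtain ⟨β, hβ⟩ := exists_wt D x u
  have h1 : ∀ i, n ∣ β i := fun i => by
    refine hc.dvd_of_dvd_mul_left ?_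
    rw [← hϖ β i]
    refine Finset.dvd_sum fun j _ => Dvd.dvd.mul_right ?_ _
    have := hu j
    rwa [hβ, Pi.add_apply, add_sub_cancel_left] at this
  choose β' hβ' using h1
  let z : D.I → ℤ := ∑ c ∈ PP.Phi D, f c • c
  have hz : ∀ a, D.Rt a → 2 * cp D z a = (∑ c ∈ PP.Phi D, cp D c a ^ 2) * f a := fun a ha => by
    have h2 := two_sum D ((Int.castAddHom ℝ).comp f) ha
    have h3 : cp D z a = ∑ c ∈ PP.Phi D, cp D c a * f c := by
      rw [cp, ← ell_apply _ _ ha, map_sum]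
      exact Finset.sum_congr rfl fun c _ => by rw [map_zsmul, smul_eq_mul, mul_comm]; rfl
    rw [h3]
    simp only [AddMonoidHom.comp_apply, Int.coe_castAddHom] at h2
    exact_mod_cast h2
  have hzu : D.act u⁻¹ z = z := by
    rw [Datum.act, map_sum, ← sum_act D u]
    exact Finset.sum_congr rfl fun c _ => by rw [map_zsmul, hul]; exact congrArg _ (act_inv_act D u c)
  let K : ℤ := 1 + ∑ c ∈ PP.Phi D, |cp D z c|
  have hK : ∀ a, D.Rt a → |cp D z a| < K := fun a ha => by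
    have := Finset.single_le_sum (f := fun c => |cp D z c|) (fun _ _ => abs_nonneg _) ((mem_Phi D).2 ha)
    omega
  have hK0 : 0 < K := by
    have : 0 ≤ ∑ c ∈ PP.Phi D, |cp D z c| := Finset.sum_nonneg fun _ _ => abs_nonneg _
    omega
  refine eq_one_of_generic D (η := K • x + D.wt z) (mul_pos hK0 hn) (fun a ha hd => ?_) (β := β') ?_
  · rw [add_dotProduct, smul_dotProduct, wt_dot_cor D z ha, smul_eq_mul] at hd
    have h2 : K ∣ cp D z a := (dvd_add_right (Dvd.intro _ rfl)).1 ((Dvd.intro _ rfl).trans hd)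
    have h3 : cp D z a = 0 := Int.eq_zero_of_abs_lt_dvd h2 (hK a ha)
    rw [h3, add_zero] at hd
    have h4 := hz a ha
    rw [h3, mul_zero] at h4
    exact mul_ne_zero (sum_sq_pos D ha).ne' (hf a ha ((mul_dvd_mul_iff_left hK0.ne').1 hd)) h4.symm
  · have h2 : β = n • β' := funext hβ'
    rw [add_vecMul, smul_vecMul, hβ, ← D.wt_act', hzu, h2, map_zsmul, smul_add, smul_smul]
    abel

variable (D) in
/-- the stabiliser of a weight modulo `n` -/
def SX (n : ℤ) (x : D.R → ℤ) : Subgroup D.W where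
  carrier := {u | Cg n (x ᵥ* D.Wm u) x}
  one_mem' := by
    show Cg n (x ᵥ* D.Wm 1) x
    rw [D.Wm_one, vecMul_one]
    exact Cg.refl _ _
  mul_mem' {a b} ha hb := by
    show Cg n (x ᵥ* D.Wm (a * b)) x
    rw [D.Wm_mul, ← vecMul_vecMul]
    exact (Cg.vecMul ha _).trans hb
  inv_mem' {a} ha := by
    have := (Cg.vecMul ha (D.Wm a⁻¹)).symm
    rwa [vecMul_vecMul, ← D.Wm_mul, mul_inv_cancel, D.Wm_one, vecMul_one] at this

variable (D) in
/-- the stabiliser of a cocharacter modulo `n` -/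
def SY (n : ℤ) (v : D.R → ℤ) : Subgroup D.W where
  carrier := {u | Cg n (D.Wm u *ᵥ v) v}
  one_mem' := by
    show Cg n (D.Wm 1 *ᵥ v) v
    rw [D.Wm_one, one_mulVec]
    exact Cg.refl _ _
  mul_mem' {a b} ha hb := by
    show Cg n (D.Wm (a * b) *ᵥ v) v
    rw [D.Wm_mul, ← mulVec_mulVec]
    exact (Cg.mulVec hb _).trans ha
  inv_mem' {a} ha := by
    have := (Cg.mulVec ha (D.Wm a⁻¹)).symm
    rwa [mulVec_mulVec, ← D.Wm_mul, inv_mul_cancel, D.Wm_one, one_mulVec] at this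

theorem rf_mem_SX {n : ℤ} {x : D.R → ℤ} {a : D.I → ℤ} (ha : D.Rt a) (h : n ∣ x ⬝ᵥ D.cor a) : D.rf a ∈ SX D n x :=
  fun i => by
    rw [vecMul_rf D x ha, Pi.sub_apply, sub_sub_cancel_left, Pi.smul_apply, smul_eq_mul]
    exact (h.mul_right _).neg_right

theorem rf_mem_SY {n : ℤ} {v : D.R → ℤ} {a : D.I → ℤ} (ha : D.Rt a) (h : n ∣ D.wt a ⬝ᵥ v) : D.rf a ∈ SY D n v :=
  fun i => by
    rw [D.Wm_rf ha, sub_mulVec, one_mulVec, vecMulVec_mulVec, Pi.sub_apply, sub_sub_cancel_left, op_smul_eq_smul,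
      Pi.smul_apply, smul_eq_mul]
    exact (h.mul_right _).neg_right

theorem SX.dvd_act {n : ℤ} {x : D.R → ℤ} {u : D.W} (hu : u ∈ SX D n x) {a : D.I → ℤ} (ha : D.Rt a)
    (h : n ∣ x ⬝ᵥ D.cor a) : n ∣ x ⬝ᵥ D.cor (D.act u a) := by
  rw [dot_cor_act D x u ha]
  exact (dvd_sub_left h).1 (Cg.dot hu _)

theorem ht_ne {a : D.I → ℤ} (ha : D.Rt a) : Nodes.Slope.htHom a ≠ 0 := by
  rcases ha.pos_or_neg with h2 | h2
  · exact (D.ht_pos_of_pos a ⟨ha, h2⟩).ne'
  · have := D.ht_pos_of_pos _ ⟨ha.neg, neg_nonneg.2 h2⟩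
    rw [map_neg] at this
    omega

/-- Steinberg: the stabiliser is generated by reflections -/
theorem steinberg (hl : l.Prime) (hZ : CZl D l) {x : D.R → ℤ} {j : ℕ} {H : Subgroup D.W}
    (hH : ∀ a, D.Rt a → (l : ℤ) ^ j ∣ x ⬝ᵥ D.cor a → D.rf a ∈ H) : SX D ((l : ℤ) ^ j) x ≤ H := by
  intro u hu
  obtain ⟨h, hh, h1⟩ := exists_align D (H ⊓ SX D ((l : ℤ) ^ j) x)
    ((Int.castAddHom ℝ).comp (Nodes.Slope.htHom.comp (rep D.cs D.h u).toAddMonoidHom))
    ((Int.castAddHom ℝ).comp Nodes.Slope.htHom)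
  have h2 : u * h ∈ SX D ((l : ℤ) ^ j) x := mul_mem hu hh.2
  have h3 : ∀ a, D.Rt a → (l : ℤ) ^ j ∣ x ⬝ᵥ D.cor a →
      0 < Nodes.Slope.htHom (D.act (u * h) a) * Nodes.Slope.htHom a := fun a ha hd => by
    have h4 := h1 a ha ⟨hH a ha hd, rf_mem_SX ha hd⟩
    refine lt_of_le_of_ne ?_ (mul_ne_zero (ht_ne (ha.act _)) (ht_ne ha)).symm
    rw [CF.act_mul]
    have h5 : (0 : ℝ) ≤ ((Nodes.Slope.htHom (D.act u (D.act h a)) : ℤ) : ℝ) * ((Nodes.Slope.htHom a : ℤ) : ℝ) := h4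
    exact_mod_cast h5
  suffices h4 : u * h = 1 by
    rw [eq_inv_of_mul_eq_one_left h4]
    exact inv_mem hh.1
  generalize u * h = g at h2 h3
  have h4 : ∀ (i : ℕ) a, D.Rt a → (l : ℤ) ^ j ∣ x ⬝ᵥ D.cor a →
      0 < Nodes.Slope.htHom (D.act (g ^ i) a) * Nodes.Slope.htHom a := fun i => by
    induction i with
    | zero => exact fun a ha _ => by rw [pow_zero, CF.act_one]; exact mul_self_pos.2 (ht_ne ha)
    | succ i ih =>
      intro a ha hd
      have h5 := ih _ (ha.act g) (SX.dvd_act h2 ha hd)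
      have h6 := h3 a ha hd
      rw [pow_succ, CF.act_mul]
      have h7 := mul_pos h5 h6
      have h8 := mul_self_pos.2 (ht_ne (ha.act g))
      by_contra h9
      nlinarith
  let f : (D.I → ℤ) →+ ℤ :=
    ∑ i ∈ Finset.range (orderOf g), Nodes.Slope.htHom.comp (rep D.cs D.h (g ^ i)).toAddMonoidHom
  have hf : ∀ a, f a = ∑ i ∈ Finset.range (orderOf g), Nodes.Slope.htHom (D.act (g ^ i) a) := fun a =>
    AddMonoidHom.finsetSum_apply _ _ _
  refine eq_one_of_fix' hl hZ f (fun a ha hd h5 => ?_) h2 fun a => ?_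
  · have h6 : 0 < f a * Nodes.Slope.htHom a := by
      rw [hf, Finset.sum_mul]
      exact Finset.sum_pos (fun i _ => h4 i a ha hd) ⟨0, Finset.mem_range.2 (orderOf_pos g)⟩
    rw [h5, zero_mul] at h6
    exact lt_irrefl _ h6
  · have h5 := (Finset.sum_range_succ (fun i => Nodes.Slope.htHom (D.act (g ^ i) a)) (orderOf g)).symm.trans
      (Finset.sum_range_succ' _ _)
    rw [pow_orderOf_eq_one, pow_zero, add_left_inj] at h5
    rw [hf, hf, h5]
    exact Finset.sum_congr rfl fun i _ => by rw [pow_succ, CF.act_mul]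

/-! ### the duality -/

namespace Dual

variable {B : Matrix D.R D.R ℤ} (h : Dual D l B)
include h

theorem det_ne : B.det ≠ 0 := fun e => h.det (e ▸ dvd_zero _)

theorem cancel {A A' : Matrix D.R D.R ℤ} (e : B * A = B * A') : A = A' := by
  have := congrArg (B.adjugate * ·) e
  simp only [← mul_assoc, adjugate_mul, smul_mul_assoc, one_mul] at this
  exact smul_right_injective _ h.det_ne this

theorem cancel' {A A' : Matrix D.R D.R ℤ} (e : A * B = A' * B) : A = A' := by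
  have := congrArg (· * B.adjugate) e
  simp only [mul_assoc, mul_adjugate, mul_smul_comm, mul_one] at this
  exact smul_right_injective _ h.det_ne this

omit h in
theorem simple {i i' : D.I} {n : ℤ} (h1 : D.cw i ᵥ* B = n • D.wt (sr i')) (h2 : B *ᵥ D.cw i' = n • D.wt (sr i)) :
    (D.Wm (D.cs.simple i))ᵀ * B = B * D.Wm (D.cs.simple i') := by
  rw [D.Wm_simple, D.Wm_simple, transpose_sub, transpose_one, transpose_vecMulVec, sub_mul, mul_sub, one_mul, mul_one,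
    vecMulVec_mul, mul_vecMulVec, h1, h2, smul_vecMulVec, vecMulVec_smul]

theorem exists_dl (u : D.W) : ∃ u', (D.Wm u)ᵀ * B = B * D.Wm u' := by
  induction u using D.cs.simple_induction_right with
  | one => exact ⟨1, by rw [D.Wm_one, transpose_one, one_mul, mul_one]⟩
  | mul_simple_right w i ih =>
    obtain ⟨w', hw⟩ := ih
    obtain ⟨i', n, -, h1, h2⟩ := h.sim i
    exact ⟨D.cs.simple i' * w', by rw [D.Wm_mul, transpose_mul, mul_assoc, hw, ← mul_assoc, simple h1 h2, D.Wm_mul,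
      mul_assoc]⟩

/-- the anti-automorphism -/
noncomputable def dl : D.W ≃ D.W :=
  Equiv.ofBijective (fun u => (h.exists_dl u).choose) (Finite.injective_iff_bijective.1 fun a b e =>
    D.Wm_injective (transpose_injective (h.cancel' (by
      rw [(h.exists_dl a).choose_spec, (h.exists_dl b).choose_spec]
      exact congrArg (fun u => B * D.Wm u) e))))

theorem dl_spec (u : D.W) : (D.Wm u)ᵀ * B = B * D.Wm (h.dl u) := (h.exists_dl u).choose_spec

theorem dl_eq {u u' : D.W} (e : (D.Wm u)ᵀ * B = B * D.Wm u') : h.dl u = u' :=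
  D.Wm_injective (h.cancel ((h.dl_spec u).symm.trans e))

theorem dl_mul (a b : D.W) : h.dl (a * b) = h.dl b * h.dl a :=
  h.dl_eq (by rw [D.Wm_mul, transpose_mul, mul_assoc, h.dl_spec, ← mul_assoc, h.dl_spec, D.Wm_mul, mul_assoc])

theorem dl_one : h.dl 1 = 1 := h.dl_eq (by rw [D.Wm_one, transpose_one, one_mul, mul_one])

theorem dl_inv (a : D.W) : h.dl a⁻¹ = (h.dl a)⁻¹ :=
  eq_inv_of_mul_eq_one_left (by rw [← h.dl_mul, mul_inv_cancel, h.dl_one])

theorem vecMul_B (u : D.W) (v : D.R → ℤ) : (B *ᵥ v) ᵥ* D.Wm u = B *ᵥ (D.Wm (h.dl u) *ᵥ v) := by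
  rw [← mulVec_transpose, mulVec_mulVec, h.dl_spec, mulVec_mulVec]

theorem root {a : D.I → ℤ} (ha : D.Rt a) : ∃ (a' : D.I → ℤ) (n : ℤ), D.Rt a' ∧ ¬ (l : ℤ) ∣ n ∧ h.dl (D.rf a) = D.rf a' ∧
    ∀ v, (B *ᵥ v) ⬝ᵥ D.cor a = n * (D.wt a' ⬝ᵥ v) := by
  obtain ⟨w, i, rfl⟩ := ha
  obtain ⟨i', n, hn, h1, h2⟩ := h.sim i
  refine ⟨D.act (h.dl w)⁻¹ (sr i'), n, (isRoot_sr _ _ i').act _, hn, ?_, fun v => ?_⟩
  · refine (congrArg h.dl (D.rf_act w i)).trans ?_
    rw [D.rf_act, h.dl_mul, h.dl_mul, h.dl_inv, h.dl_eq (simple h1 h2), inv_inv, mul_assoc]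
  · refine (dot_cor_act D _ w (isRoot_sr _ _ i)).trans ?_
    rw [h.vecMul_B, D.cor_sr, dotProduct_comm, dotProduct_mulVec, h1, smul_dotProduct, D.wt_act', dotProduct_mulVec,
      smul_eq_mul]

theorem stab (hl : l.Prime) (j : ℕ) (v : D.R → ℤ) (u : D.W) :
    u ∈ SX D ((l : ℤ) ^ j) (B *ᵥ v) ↔ h.dl u ∈ SY D ((l : ℤ) ^ j) v := by
  show Cg _ _ _ ↔ Cg _ _ _
  rw [h.vecMul_B]
  exact ⟨Cg.cancel (cop_of_not hl h.det j), fun e => e.mulVec B⟩

theorem sg_dl (u : D.W) : sg D (h.dl u) = sg D u := by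
  have := congrArg Matrix.det (h.dl_spec u)
  rw [det_mul, det_mul, det_transpose, mul_comm] at this
  rw [sg, sg, mul_left_cancel₀ h.det_ne this]

theorem ordT_dl (u w : D.W) : ordT D (u * w) = ordT D (h.dl u * D.Fw (h.dl w)) := by
  have h1 : (D.Wm (u * w) * D.Mx - 1)ᵀ * B = B * (D.Wm (D.Fw (h.dl w)) * D.Mx * D.Wm (h.dl u) - 1) := by
    rw [transpose_sub, transpose_mul, transpose_one, sub_mul, mul_sub, one_mul, mul_one, mul_assoc, h.dl_spec,
      ← mul_assoc, h.mx, h.dl_mul, D.Wm_mul, mul_assoc, ← mul_assoc D.Mx, D.Mx_Wm]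
  have h2 := congrArg Matrix.det h1
  rw [det_mul, det_mul, det_transpose, mul_comm] at h2
  have h3 : D.Wm (h.dl u) * (D.Wm (D.Fw (h.dl w)) * D.Mx * D.Wm (h.dl u) - 1) =
      (D.Wm (h.dl u * D.Fw (h.dl w)) * D.Mx - 1) * D.Wm (h.dl u) := by
    rw [D.Wm_mul, mul_sub, sub_mul, mul_one, one_mul, ← mul_assoc, ← mul_assoc]
  have h4 := congrArg (fun A => (Matrix.det A).natAbs) h3
  simp only [det_mul, Int.natAbs_mul, natAbs_det_Wm, one_mul, mul_one] at h4
  rw [ordT, ordT, mul_left_cancel₀ h.det_ne h2, h4]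

/-- the stabiliser of an element of the torus is a reflection group -/
theorem steinberg' (hl : l.Prime) (hZ : CZl D l) {v : D.R → ℤ} {j : ℕ} {H : Subgroup D.W}
    (hH : ∀ a, D.Rt a → (l : ℤ) ^ j ∣ D.wt a ⬝ᵥ v → D.rf a ∈ H) : SY D ((l : ℤ) ^ j) v ≤ H := by
  intro u hu
  obtain ⟨u, rfl⟩ := h.dl.surjective u
  let H' : Subgroup D.W :=
    { carrier := {u | h.dl u ∈ H}
      one_mem' := by
        show h.dl 1 ∈ H
        rw [h.dl_one]
        exact one_mem _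
      mul_mem' := fun {a b} ha hb => by
        show h.dl (a * b) ∈ H
        rw [h.dl_mul]
        exact mul_mem hb ha
      inv_mem' := fun {a} ha => by
        show h.dl a⁻¹ ∈ H
        rw [h.dl_inv]
        exact inv_mem ha }
  refine steinberg hl hZ (H := H') (fun a ha hd => ?_) ((h.stab hl j v u).2 hu)
  obtain ⟨a', n, h1, h2, h3, h4⟩ := h.root ha
  show h.dl _ ∈ H
  rw [h3]
  exact hH a' h1 ((cop_of_not hl h2 j).dvd_of_dvd_mul_left (h4 v ▸ hd))

end Dual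

end Cfsg.Agent.PQ.SS
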