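import Cfsg.Agent.PQ.SS.Bad
import Cfsg.Agent.TO.E6.Tool

/-!
# PQ, a toral element in the centre of a Sylow subgroup (helper23)

`C6.exists_z` : if `F` fixes the elements of order `l` of the torus, no root and no element of the Weyl group is trivial
modulo `l`, and `u : W` is an `l`-element, then some element of order `l` of the torus is fixed by `u` and has class size
prime to `l`.
-/

set_option autoImplicit false
set_option linter.unusedSectionVars false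

namespace Cfsg.Agent.PQ.SS.C6

open Cfsg Cfsg.Agent.DL Cfsg.Agent.DL.PP Cfsg.Agent.KZ.Lie Cfsg.Agent.LV.Blk Matrix Cfsg.Agent.Nodes.Reps

variable {p : ℕ} [Fact p.Prime] {k : Type} [Field k] [CharP k p] {Y : Type} [Group Y] {N : Type} [Fintype N]
  [DecidableEq N] {ρ : Y →* GL N k} {F : MulAut Y} {G : Subgroup Y} [IsAlgClosed k] (D : Datum p ρ F G)

theorem coch_congr {R : Type} [Fintype R] {ζ : kˣ} {n : ℕ} (hζ : IsPrimitiveRoot ζ n) {v v' : R → ℤ}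
    (h : ∀ i, (n : ℤ) ∣ v i - v' i) : coch v ζ = coch v' ζ := funext fun i => by
  rw [coch_apply, coch_apply, ← mul_inv_eq_one, ← _root_.zpow_sub]
  exact (hζ.zpow_eq_one_iff_dvd _).2 (h i)

/-- an `l`-element of the Weyl group has a representative which is an `l`-element -/
theorem exists_rep [Finite ↥(GF F G)] {l : ℕ} (hl : l.Prime) {c : ℤ} (hM : D.Mx = c • 1) {u : D.W} {n : ℕ}
    (hu : u ^ l ^ n = 1) : ∃ m : ↥(GF F G), D.Rp u m ∧ ∃ j, m ^ l ^ j = 1 := by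
  obtain ⟨m, h1, h2⟩ := TO.E6.exists_fix_rep D (u := u) (by rw [hM, smul_mul_assoc, mul_smul_comm, one_mul, mul_one])
  let g : ↥(GF F G) := ⟨m, Datum.Rp.mem_G h1, h2⟩
  obtain ⟨e, n', h3, h4⟩ := Nat.exists_eq_pow_mul_and_not_dvd (orderOf_pos g).ne' l hl.one_lt.ne'
  obtain ⟨t, ht⟩ := exists_pow_eq_self_of_coprime (x := u) (n := n')
    (Nat.Coprime.coprime_dvd_right (orderOf_dvd_of_pow_eq_one hu) ((hl.coprime_iff_not_dvd.2 h3).symm.pow_right n))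
  refine ⟨(g ^ n') ^ t, ?_, e, ?_⟩
  · have h5 := KFacts.RgdDiag.rp_pow (KFacts.RgdDiag.rp_pow h1 n') t
    rw [ht] at h5
    exact h5
  · rw [← pow_mul, ← pow_mul, mul_comm t, ← mul_assoc, mul_comm n', ← h4, pow_mul, pow_orderOf_eq_one, one_pow]

/-- the elements of order `l` of the rational torus -/
def VV (l : ℕ) : Subgroup ↥(GF F G) where
  carrier := {x | (x : Y) ∈ D.T ∧ x ^ l = 1}
  mul_mem' {a b} ha hb := ⟨mul_mem ha.1 hb.1, by
    rw [Commute.mul_pow (Subtype.ext (D.T_comm ha.1 hb.1) : a * b = b * a), ha.2, hb.2, one_mul]⟩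
  one_mem' := ⟨one_mem _, one_pow _⟩
  inv_mem' ha := ⟨inv_mem ha.1, by rw [inv_pow, ha.2, inv_one]⟩

theorem exists_coch {l : ℕ} (hl : l.Prime) {ζ : kˣ} (hζ : IsPrimitiveRoot ζ l) {t : Y} (ht : t ∈ D.T) (h : t ^ l = 1) :
    ∃ v : D.R → ℤ, t = D.τ (coch v ζ) := by
  obtain ⟨c, rfl⟩ := (D.mem_T _).1 ht
  have : NeZero l := ⟨hl.ne_zero⟩
  have h1 : c ^ l = 1 := D.τ_inj (by rw [map_pow, h, map_one])
  have h2 : ∀ i, ∃ e : ℕ, ζ ^ e = c i := fun i => by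
    obtain ⟨e, -, he⟩ := hζ.eq_pow_of_mem_rootsOfUnity (ξ := c i) ((mem_rootsOfUnity _ _).2 (congrFun h1 i))
    exact ⟨e, he⟩
  choose v hv using h2
  exact ⟨fun i => v i, congrArg _ (funext fun i => by rw [coch_apply, zpow_natCast, hv])⟩

/-- the centraliser of the elements of order `l` of the torus -/
theorem mem_T_of_comm {l : ℕ} {ζ : kˣ} (hζ : IsPrimitiveRoot ζ l) (hS : ∀ a, D.Rt a → ∃ i, ¬ (l : ℤ) ∣ D.wt a i)
    (hW : ∀ w, (∀ i j, (l : ℤ) ∣ (D.Wm w - 1) i j) → w = 1) {z : Y} (hz : z ∈ G)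
    (h : ∀ v, D.τ (coch v ζ) * z = z * D.τ (coch v ζ)) : z ∈ D.T := by
  obtain ⟨w, hw⟩ := TO.E6.mem_NN_of_empty D (Z := Set.range fun v => D.τ (coch v ζ))
    (by rintro _ ⟨v, rfl⟩; exact D.τ_mem _) (Set.eq_empty_of_forall_notMem fun a ha => by
      obtain ⟨i, hi⟩ := hS a ha.1
      have h1 := ha.2 _ ⟨Pi.single i 1, rfl⟩
      rw [D.χ_τ, Units.val_eq_one, chr_coch, hζ.zpow_eq_one_iff_dvd] at h1
      refine hi ?_
      rwa [show ∑ j, D.wt a j * (Pi.single i 1 : D.R → ℤ) j = D.wt a i from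
        (dotProduct_single _ _ _).trans (mul_one _)] at h1) hz (by
      rintro _ ⟨v, rfl⟩
      rw [mul_assoc, h, inv_mul_cancel_left]
      exact D.τ_mem _)
  obtain rfl : w = 1 := hW w fun i j => by
    have h1 := (mon_coch_iff hζ (D.Wm w) (Pi.single j 1)).1 (D.τ_inj (by
      rw [← D.conj_τ hw, ← h, mul_inv_cancel_right])) i
    rwa [mulVec_single_one] at h1
  exact Rp.mem_of_one hw

/-- **a toral element in the centre of a Sylow subgroup** -/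
theorem exists_z [Finite ↥(GF F G)] {l : ℕ} (hl : l.Prime) {ζ : kˣ} (hζ : IsPrimitiveRoot ζ l) {c : ℤ}
    (hc : (l : ℤ) ∣ c - 1) (hM : D.Mx = c • 1) (hS : ∀ a, D.Rt a → ∃ i, ¬ (l : ℤ) ∣ D.wt a i)
    (hW : ∀ w, (∀ i j, (l : ℤ) ∣ (D.Wm w - 1) i j) → w = 1) (i₀ : D.R) {u : D.W} {n : ℕ} (hu : u ^ l ^ n = 1) :
    ∃ (z : ↥(GF F G)) (v : D.R → ℤ), (z : Y) = D.τ (coch v ζ) ∧ orderOf z = l ∧ ¬ l ∣ cls z ∧
      ∀ i, (l : ℤ) ∣ ((D.Wm u - 1) *ᵥ v) i := by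
  have : Fact l.Prime := ⟨hl⟩
  obtain ⟨m, hm, j, hj⟩ := exists_rep D hl hM hu
  have h1 : ∀ v, D.τ (coch v ζ) ∈ GF F G := fun v => ⟨D.T_le_G (D.τ_mem _), by
    show F _ = D.τ _
    rw [D.F_τ, (mon_coch_iff hζ _ _).2 fun i => hM ▸ Bad.scal_dvd hc v i]⟩
  have h2 : ∀ v, (⟨_, h1 v⟩ : ↥(GF F G)) ∈ VV D l := fun v => ⟨D.τ_mem _, Subtype.ext (by
    show D.τ (coch v ζ) ^ l = 1
    rw [← map_pow, ← map_pow, hζ.pow_eq_one, map_one, map_one])⟩
  have h3 : IsPGroup l (VV D l) := fun x => ⟨1, Subtype.ext (by rw [pow_one]; exact x.2.2)⟩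
  have h4 : IsPGroup l (Subgroup.zpowers m) := by
    rintro ⟨_, t, rfl⟩
    refine ⟨j, Subtype.ext ?_⟩
    show (m ^ t) ^ l ^ j = 1
    rw [← zpow_natCast, ← _root_.zpow_mul, mul_comm, _root_.zpow_mul, zpow_natCast, hj, _root_.one_zpow]
  have h5 : Subgroup.zpowers m ≤ Subgroup.normalizer (VV D l : Set ↥(GF F G)) :=
    Subgroup.zpowers_le.2 (Subgroup.mem_normalizer_fintype fun x hx => ⟨by
      obtain ⟨t, ht⟩ := (D.mem_T _).1 hx.1
      show (m : Y) * x * (m : Y)⁻¹ ∈ D.T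
      rw [← ht, D.conj_τ hm]
      exact D.τ_mem _, by rw [conj_pow, hx.2, mul_one, mul_inv_cancel]⟩)
  obtain ⟨P, hP⟩ := (h4.to_sup_of_normal_right' h3 h5).exists_le_sylow
  have : Nontrivial ↥(P : Subgroup ↥(GF F G)) := ⟨⟨⟨_, hP (Subgroup.mem_sup_right (h2 (Pi.single i₀ 1)))⟩, 1, fun h => by
    have h6 : D.τ (coch (Pi.single i₀ 1) ζ) = D.τ 1 := (congrArg (fun x => x.1.1) h).trans (map_one _).symm
    have h7 := congrFun (D.τ_inj h6) i₀
    rw [coch_apply, Pi.single_eq_same, zpow_one] at h7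
    exact hζ.ne_one hl.one_lt h7⟩⟩
  have := P.2.center_nontrivial
  obtain ⟨e, he, h6⟩ := (P.2.to_subgroup (Subgroup.center _)).nontrivial_iff_card.1 this
  obtain ⟨z, hz⟩ := exists_prime_orderOf_dvd_card' (G := Subgroup.center ↥(P : Subgroup ↥(GF F G))) l
    (h6 ▸ dvd_pow_self l he.ne')
  have h7 : ∀ g ∈ (P : Subgroup ↥(GF F G)), g * z.1.1 = z.1.1 * g := fun g hg =>
    congrArg Subtype.val (Subgroup.mem_center_iff.1 z.2 ⟨g, hg⟩)
  have h8 : orderOf z.1.1 = l := by rw [Subgroup.orderOf_coe, Subgroup.orderOf_coe, hz]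
  have h9 : z.1.1.1 ∈ D.T := mem_T_of_comm D hζ hS hW z.1.1.2.1 fun v =>
    congrArg Subtype.val (h7 _ (hP (Subgroup.mem_sup_right (h2 v))))
  obtain ⟨v, hv⟩ := exists_coch D hl hζ h9 (congrArg Subtype.val (orderOf_dvd_iff_pow_eq_one.1 h8.dvd))
  refine ⟨z.1.1, v, hv, h8, fun h => P.not_dvd_index (h.trans (Subgroup.index_dvd_of_le fun g hg =>
    Subgroup.mem_centralizer_singleton_iff.2 (h7 g hg))), (mon_coch_iff hζ _ _).1 (D.τ_inj ?_)⟩
  have h10 : (m : Y) * z.1.1.1 = z.1.1.1 * m :=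
    congrArg Subtype.val (h7 _ (hP (Subgroup.mem_sup_left (Subgroup.mem_zpowers m))))
  rw [← D.conj_τ hm, ← hv, h10, mul_inv_cancel_right]

end Cfsg.Agent.PQ.SS.C6
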