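import Cfsg.Agent.PQ.SS.Defs
import Cfsg.Agent.PQ.SS.BadA
import Cfsg.Agent.H630.ExcK

/-!
# PQ, strong converse in cross characteristic, exceptional groups: class sizes of torus elements (helper77)

* `core` : an element whose class size is prime to `r` is conjugate to an element of the torus fixed by `s`;
* `dvd_cls` : counting the roots which vanish;
* `exists_cent` : elements of the torus which centralise a Sylow subgroup;
* `wz_ck` : both, from checks on lists.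
-/

set_option autoImplicit false
set_option linter.unusedSectionVars false
set_option linter.unusedVariables false

namespace Cfsg.Agent.PQ.SS.CX

open CoxeterSystem Cfsg Cfsg.Lie Cfsg.Lie.ChevalleyDatum
open Cfsg.Agent.ChevalleyStructure Cfsg.Agent.ChevalleyStructure.Elts Cfsg.Agent.ChevalleyStructure.CoxeterGeom
  Cfsg.Agent.ChevalleyStructure.CoxeterGeomTypes Cfsg.Agent.ChevalleyStructure.NPerm
open Cfsg.Agent.Tits.Roots Cfsg.Agent.Tits.Core Cfsg.Agent.Nodes Cfsg.Agent.Nodes.Reps Cfsg.Agent.Nodes.BNOf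
  Cfsg.Agent.Nodes.RGDChev Cfsg.Agent.Nodes.Bruhat Cfsg.Agent.Nodes.SubComb Cfsg.Agent.Nodes.Coroot
open Cfsg.Agent.KFacts.RgdField Cfsg.Agent.KFacts.RgdChevCoord Cfsg.Agent.BpExc.TorCent Cfsg.Agent.BpExc.TorChev
open Cfsg.Agent.GpExc.Field Cfsg.Agent.BpExc.Tow Cfsg.Agent.BpExc.TowChev Cfsg.Agent.BpExc.Fr
  Cfsg.Agent.BpExc.LangFr Cfsg.Agent.LangThm Cfsg.Agent.BpExc Cfsg.Agent.H129.TorusChar Cfsg.Agent.H129.TorusMain
open Cfsg.Agent.H630.NH Cfsg.Agent.H630.Exc Cfsg.Agent.H130.WeylCk Cfsg.Agent.H130.PolyL Cfsg.Agent.H130.WeylTab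
open Cfsg.Agent.PQ.SS.Bad

universe u v

/-! ### arithmetic -/

theorem geom_one {r : ℕ} {Q : ℤ} (hQ : (r : ℤ) ∣ Q - 1) (i : ℕ) :
    ∃ C : ℤ, Q ^ i - 1 = (Q - 1) * C ∧ (r : ℤ) ∣ C - i := by
  induction i with
  | zero => exact ⟨0, by ring, by simp⟩
  | succ i ih =>
    obtain ⟨C, h1, h2⟩ := ih
    refine ⟨Q * C + 1, by rw [pow_succ]; linear_combination Q * h1, ?_⟩
    have h3 : Q * C + 1 - ((i + 1 : ℕ) : ℤ) = (Q - 1) * C + (C - i) := by push_cast; ring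
    rw [h3]
    exact (hQ.mul_right _).add h2

theorem pow_sub_one {r : ℕ} {Q : ℤ} (hQ : (r : ℤ) ∣ Q - 1) {i : ℕ} (hi : ¬ r ∣ i) :
    ∃ C : ℤ, Q ^ i - 1 = (Q - 1) * C ∧ ¬ (r : ℤ) ∣ C := by
  obtain ⟨C, h1, h2⟩ := geom_one hQ i
  refine ⟨C, h1, fun h => hi (Int.natCast_dvd_natCast.1 ?_)⟩
  have h3 := h.sub h2
  rwa [sub_sub_cancel] at h3

theorem pow_five {Q : ℤ} (hQ : ((5 : ℕ) : ℤ) ∣ Q - 1) {i : ℕ} (hi : ¬ 5 ∣ i) :
    ∃ C : ℤ, Q ^ (5 * i) - 1 = (Q - 1) * ((5 : ℕ) * C) ∧ ¬ ((5 : ℕ) : ℤ) ∣ C := by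
  obtain ⟨m, hm⟩ := hQ
  have h0 : Q = 1 + 5 * m := by push_cast at hm; linarith
  have h1 : Q ^ 5 - 1 = (Q - 1) * (5 * (1 + 5 * (2 * m + 10 * m ^ 2 + 25 * m ^ 3 + 25 * m ^ 4))) := by rw [h0]; ring
  obtain ⟨C, h2, h3⟩ := pow_sub_one (r := 5) (Q := Q ^ 5) (by rw [h1, hm]; exact (dvd_mul_right _ _).mul_right _) hi
  refine ⟨(1 + 5 * (2 * m + 10 * m ^ 2 + 25 * m ^ 3 + 25 * m ^ 4)) * C, by rw [pow_mul, h2, h1]; push_cast; ring,
    fun h => ?_⟩
  rcases (Nat.prime_iff_prime_int.1 Nat.prime_five).dvd_mul.1 h with h4 | h4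
  · push_cast at h4
    omega
  · exact h3 h4

theorem pow_seven {Q : ℤ} (hQ : ((7 : ℕ) : ℤ) ∣ Q - 1) {i : ℕ} (hi : ¬ 7 ∣ i) :
    ∃ C : ℤ, Q ^ (7 * i) - 1 = (Q - 1) * ((7 : ℕ) * C) ∧ ¬ ((7 : ℕ) : ℤ) ∣ C := by
  obtain ⟨m, hm⟩ := hQ
  have h0 : Q = 1 + 7 * m := by push_cast at hm; linarith
  have h1 : Q ^ 7 - 1 = (Q - 1) * (7 * (1 + 7 * (3 * m + 35 * m ^ 2 + 245 * m ^ 3 + 1029 * m ^ 4 + 2401 * m ^ 5 +
      2401 * m ^ 6))) := by rw [h0]; ring
  obtain ⟨C, h2, h3⟩ := pow_sub_one (r := 7) (Q := Q ^ 7) (by rw [h1, hm]; exact (dvd_mul_right _ _).mul_right _) hi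
  refine ⟨(1 + 7 * (3 * m + 35 * m ^ 2 + 245 * m ^ 3 + 1029 * m ^ 4 + 2401 * m ^ 5 + 2401 * m ^ 6)) * C,
    by rw [pow_mul, h2, h1]; push_cast; ring, fun h => ?_⟩
  rcases (Nat.prime_iff_prime_int.1 (by norm_num : (7 : ℕ).Prime)).dvd_mul.1 h with h4 | h4
  · push_cast at h4
    omega
  · exact h3 h4

/-! ### groups -/

theorem dvd_relIndex {X : Type v} [Group X] [Finite X] {T K : Subgroup X} {r : ℕ} (hr : r.Prime) {x : X}
    (hx : ∃ a, x ^ r ^ a = 1) (hxK : x ∈ K) (hxN : x ∈ Subgroup.normalizer (T : Set X)) (hxT : x ∉ T) :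
    r ∣ T.relIndex K := by
  by_contra h
  obtain ⟨a, ha⟩ := hx
  have h1 : ¬ r ∣ T.relIndex (Subgroup.normalizer (T : Set X) ⊓ K) := fun h1 => h (h1.trans (by
    have h2 := Subgroup.relIndex_inf_mul_relIndex T (Subgroup.normalizer (T : Set X)) K
    rw [inf_eq_left.2 Subgroup.le_normalizer] at h2
    exact ⟨_, h2.symm⟩))
  have : (T.subgroupOf (Subgroup.normalizer (T : Set X) ⊓ K)).Normal :=
    Subgroup.normal_subgroupOf_of_le_normalizer inf_le_left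
  have h2 := Subgroup.pow_index_mem (T.subgroupOf (Subgroup.normalizer (T : Set X) ⊓ K)) ⟨x, hxN, hxK⟩
  rw [Subgroup.mem_subgroupOf] at h2
  obtain ⟨u, hu⟩ := exists_pow_eq_self_of_coprime (x := x) (n := T.relIndex (Subgroup.normalizer (T : Set X) ⊓ K))
    (Nat.Coprime.coprime_dvd_right (orderOf_dvd_of_pow_eq_one ha) ((hr.coprime_iff_not_dvd.2 h1).symm.pow_right a))
  exact hxT (hu ▸ pow_mem h2 u)

section Gen

variable {D : ChevalleyDatum} {l : ℕ} {M : CoxeterMatrix (Fin l)} (hp : IsType D l M) {k : Type u} [Field k]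
  {W : Type*} [Group W] (cs : CoxeterSystem M W)
  {p e : ℕ} [hpF : Fact p.Prime] [CharP k p] {σ : MulAut ↥(D.group k)} {g : (Fin l → ℤ) ≃+ (Fin l → ℤ)}
  {X : Type v} [Group X] {e0 : X →* ↥(D.group k)} {d : ℕ} (S : Setup hp cs p e σ g e0 d)

theorem kill_sum {t : ↥(D.group k)} (ht : t ∈ TT D k) {s' N : ℕ} (hN : N.Coprime s') (hts : t ^ s' = 1)
    {R : Module.End ℤ (Fin l → ℤ)} (h : ∀ x, cX hp t (R x) = cX hp t x) {a : Fin l → ℤ}
    (ha : ∑ i ∈ Finset.range N, (R ^ i) a = 0) : cX hp t a = 1 := by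
  have hmc := isMC_cX hp ht
  have h1 : ∀ i, cX hp t ((R ^ i) a) = cX hp t a := by
    intro i
    induction i with
    | zero => rw [pow_zero, Module.End.one_apply]
    | succ i ih => rw [pow_succ', Module.End.mul_apply, h, ih]
  have h2 := hmc.sum (Finset.range N) fun i => (R ^ i) a
  rw [ha, hmc.zero, Finset.prod_congr rfl fun i _ => h1 i, Finset.prod_const, Finset.card_range] at h2
  exact (pow_eq_one_iff_of_coprime hN).1 ⟨h2.symm, by rw [← cX_pow hp ht, hts, cX_one]⟩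

theorem cast_ne {r : ℕ} (hr : r.Prime) (h : r ≠ p) : (r : k) ≠ 0 := fun h1 =>
  h ((Nat.prime_dvd_prime_iff_eq hpF.out hr).1 ((CharP.cast_eq_zero_iff k p r).1 h1)).symm

include S

/-- **The core.** -/
theorem core [IsAlgClosed k] [Finite W] [Finite X] {r s' : ℕ} (hrp : r.Prime) (hsp : s'.Prime) (hrs : r ≠ s')
    (hrd : ¬ r ∣ d) (w : W) {n : ℕ} (hn0 : 0 < n) (hθ : ∀ x, (theta hp cs w g)^[n] x = x)
    (hreg : RegT k hp cs w g (p ^ e) r) {s : W}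
    (hs : ∀ x, rep cs hp.isCartan s (theta hp cs w g x) = theta hp cs w g (rep cs hp.isCartan s x))
    {j : ℕ} (hsr : s ^ r ^ j = 1) {y : X} (hy : y ^ s' = 1) (hc : ¬ r ∣ cls y) :
    ∃ t ∈ TT D k, (∃ c, c * t = e0 y * c) ∧ (∀ x, cX hp t (theta hp cs w g x) = cX hp t x ^ p ^ e) ∧ t ^ s' = 1 ∧
      ∀ x, cX hp t (rep cs hp.isCartan s x) = cX hp t x := by
  have : Fact r.Prime := ⟨hrp⟩
  have hNs := S.nsys hp cs
  obtain ⟨n', hn'⟩ := exists_rp cs hNs w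
  obtain ⟨z, hz⟩ := lang_all hp cs S.pos S.frob S.fr 1 n'
  rw [map_one, one_mul] at hz
  obtain ⟨x, hx, hxs⟩ := S.exists_rep hp cs hn0 hθ hn' hz hs hrp hrd hsr
  obtain ⟨h, hh⟩ := exists_conj_le r _ (isPGroup_E hp cs S.inj hx hxs) _ hc
  obtain ⟨y', hy'⟩ : ∃ y', y' = h⁻¹ * y * h := ⟨_, rfl⟩
  have hyc : ∀ a ∈ (Subgroup.zpowers x ⊔ tXr hp S.inj z r : Subgroup X),
      (z⁻¹ * e0 a * z) * (z⁻¹ * e0 y' * z) = (z⁻¹ * e0 y' * z) * (z⁻¹ * e0 a * z) := by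
    intro a ha
    have h2 := Subgroup.mem_centralizer_singleton_iff.1 (hh a ha)
    have h3 : a * y' = y' * a := by
      rw [hy', show a * (h⁻¹ * y * h) = h⁻¹ * (h * a * h⁻¹ * y) * h by group, h2]
      group
    calc z⁻¹ * e0 a * z * (z⁻¹ * e0 y' * z) = z⁻¹ * (e0 (a * y')) * z := by rw [map_mul]; group
      _ = z⁻¹ * (e0 (y' * a)) * z := by rw [h3]
      _ = _ := by rw [map_mul]; group
  have hcs : (z⁻¹ * e0 y' * z) ^ s' = 1 := by
    have h1 : y' ^ s' = 1 := by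
      have h2 := conj_pow (i := s') (a := h⁻¹) (b := y)
      rw [inv_inv, hy, mul_one, inv_mul_cancel] at h2
      rw [hy', h2]
    rw [S.conj_pow_eq hp cs, h1, map_one, mul_one, inv_mul_cancel]
  have hyT : z⁻¹ * e0 y' * z ∈ TT D k := by
    refine mem_TT_of_pow hp cs S.lf p hNs (A := (fun x : X => z⁻¹ * e0 x * z) '' (tXr hp S.inj z r : Set X))
      ((Set.toFinite _).image _) ?_ ?_ (r := r) ?_ hsp.pos ((Nat.coprime_primes hsp hrp).2 (Ne.symm hrs)) ?_ hcs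
    · rintro _ ⟨x, hx, rfl⟩
      exact hx.1
    · intro a ha
      obtain ⟨t, ht, h1, h2, h3⟩ := hreg a ha
      obtain ⟨x, hx, hx1⟩ := S.exists_of_torsion hp cs hn' hz hrp hrd ht h1 (j := 1) (by rw [pow_one]; exact h2)
      rw [pow_one] at hx1
      refine ⟨_, ⟨x, ⟨by rw [mem_tX, hx]; exact ht, hx1⟩, rfl⟩, ?_⟩
      show cX hp (z⁻¹ * e0 x * z) a ≠ 1
      rw [hx]; exact h3
    · rintro _ ⟨x, hx, rfl⟩
      show (z⁻¹ * e0 x * z) ^ r = 1
      rw [S.conj_pow_eq hp cs, hx.2, map_one]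
      group
    · rintro _ ⟨x, hx, rfl⟩
      exact (hyc x (Subgroup.mem_sup_right hx)).symm
  refine ⟨_, hyT, ⟨e0 h * z, ?_⟩, (tau_iff hp cs S.lf S.frob S.fr hn' hyT).1 (S.tau hp cs hz y'), hcs,
    fix_of_rp hp cs S.lf p hxs hyT (hyc x (Subgroup.mem_sup_left (Subgroup.mem_zpowers x)))⟩
  rw [hy', map_mul, map_mul, map_inv]
  group

/-- **Counting roots.** -/
theorem dvd_cls [IsAlgClosed k] [Finite W] [Finite X] {r s' : ℕ} (hrp : r.Prime) (hsp : s'.Prime) (hrs : r ≠ s')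
    (hrd : ¬ r ∣ d) (w : W) {n : ℕ} (hn0 : 0 < n) (hθ : ∀ x, (theta hp cs w g)^[n] x = x)
    (hreg : RegT k hp cs w g (p ^ e) r) {s : W}
    (hs : ∀ x, rep cs hp.isCartan s (theta hp cs w g x) = theta hp cs w g (rep cs hp.isCartan s x))
    {j : ℕ} (hsr : s ^ r ^ j = 1) {y : X} (hy : y ^ s' = 1) {z0 : ↥(D.group k)} (ht0 : z0⁻¹ * e0 y * z0 ∈ TT D k)
    (hlt : {a | IsRoot cs hp.isCartan a ∧ cX hp (z0⁻¹ * e0 y * z0) a = 1}.ncard <
      {a | IsRoot cs hp.isCartan a ∧ ∑ i ∈ Finset.range (r ^ j), (rep cs hp.isCartan s ^ i) a = 0}.ncard) :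
    r ∣ cls y := by
  by_contra hc
  obtain ⟨t, ht, ⟨c, h1⟩, -, h2, h3⟩ := core hp cs S hrp hsp hrs hrd w hn0 hθ hreg hs hsr hy hc
  obtain ⟨v, hv⟩ := exists_weyl_of_conj hp cs S.lf p (c := z0⁻¹ * c) ht ht0 (by rw [mul_assoc, h1]; group)
  refine absurd hlt (not_lt.2 (Set.ncard_le_ncard_of_injOn (fun a => rep cs hp.isCartan v a) ?_ ?_
    ((finite_roots hp cs).subset fun a ha => ha.1)))
  · rintro a ⟨ha, h4⟩
    exact ⟨ha.act v, (hv a).trans (kill_sum hp ht (((Nat.coprime_primes hrp hsp).2 hrs).pow_left j) h2 h3 h4)⟩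
  · intro a _ b _ hab
    have h4 := congrArg (rep cs hp.isCartan v⁻¹) hab
    simpa only [rep_inv_apply] using h4

theorem regT_scal [IsAlgClosed k] {r : ℕ} (hrp : r.Prime) (hrc : r ≠ p) {ε Q : ℤ} (hε : ε = 1 ∨ ε = -1)
    (hQ : Q = ε * (p ^ e : ℕ)) (hrQ : (r : ℤ) ∣ Q - 1) {w : W} (hw : ∀ x, theta hp cs w g x = ε • x) :
    (∀ L : (Fin l → ℤ) →+ ℤ, ∃ t ∈ TT D k, (∀ x, cX hp t (theta hp cs w g x) = cX hp t x ^ p ^ e) ∧ t ^ r = 1 ∧
      ∀ x, cX hp t x = 1 ↔ (r : ℤ) ∣ L x) ∧ RegT k hp cs w g (p ^ e) r := by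
  obtain ⟨B, d', hd', hB⟩ := S.inv
  have h1 : ∀ L : (Fin l → ℤ) →+ ℤ, ∃ t ∈ TT D k, (∀ x, cX hp t (theta hp cs w g x) = cX hp t x ^ p ^ e) ∧ t ^ r = 1 ∧
      ∀ x, cX hp t x = 1 ↔ (r : ℤ) ∣ L x := fun L => exists_torsionL hp hB hd' (cast_ne hrp hrc) L fun x => by
    have h1 : L (theta hp cs w g x) - ((p ^ e : ℕ) : ℤ) * L x = (Q - 1) * (-ε * L x) := by
      rw [hw, map_zsmul, smul_eq_mul, hQ]
      rcases hε with rfl | rfl <;> ring
    rw [h1]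
    exact hrQ.mul_right _
  refine ⟨h1, fun a ha => ?_⟩
  obtain ⟨i, hi⟩ := exists_coord hp cs ha hrp
  obtain ⟨t, ht, h2, h3, h4⟩ := h1 (coordF l i)
  exact ⟨t, ht, h2, h3, fun h5 => hi ((h4 a).1 h5)⟩

omit S in
theorem iter_scal {ε : ℤ} (hε : ε = 1 ∨ ε = -1) {w : W} (hw : ∀ x, theta hp cs w g x = ε • x) (x : Fin l → ℤ) :
    (theta hp cs w g)^[2] x = x := by
  show theta hp cs w g (theta hp cs w g x) = x
  rw [hw, hw, smul_smul]
  rcases hε with rfl | rfl <;> simp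

/-- **Elements of the torus which centralise a Sylow subgroup.** -/
theorem exists_cent [IsAlgClosed k] [Finite W] [Finite X] {r : ℕ} (hrp : r.Prime) (hrc : r ≠ p) (hrd : ¬ r ∣ d)
    (hr2 : r ≠ 2) {ε Q : ℤ} (hε : ε = 1 ∨ ε = -1) (hQ : Q = ε * (p ^ e : ℕ)) (hrQ : (r : ℤ) ∣ Q - 1) {w : W}
    (hw : ∀ x, theta hp cs w g x = ε • x) {s : W} (hs : s ^ r = 1) (hs1 : s ≠ 1) (L : (Fin l → ℤ) →+ ℤ)
    (hL : ∀ x, L (rep cs hp.isCartan s x) = L x) {fs : ℤ} {N g' : ℕ}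
    (hcard : g' * Nat.card X = (p ^ e) ^ N * fs.natAbs) (hfs : ∃ R, fs = (Q - 1) ^ l * (r * R) ∧ ¬ (r : ℤ) ∣ R) :
    ∃ (y : X) (z : ↥(D.group k)), z⁻¹ * e0 y * z ∈ TT D k ∧ y ^ r = 1 ∧
      (∀ a, cX hp (z⁻¹ * e0 y * z) a = 1 ↔ (r : ℤ) ∣ L a) ∧ ¬ r ∣ cls y := by
  have hNs := S.nsys hp cs
  obtain ⟨n', hn'⟩ := exists_rp cs hNs w
  obtain ⟨z, hz⟩ := lang_all hp cs S.pos S.frob S.fr 1 n'
  rw [map_one, one_mul] at hz
  obtain ⟨t, ht, h1, h2, h3⟩ := (regT_scal hp cs S hrp hrc hε hQ hrQ hw).1 L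
  obtain ⟨y, hy, hy1⟩ := S.exists_of_torsion hp cs hn' hz hrp hrd ht h1 (j := 1) (by rw [pow_one]; exact h2)
  rw [pow_one] at hy1
  obtain ⟨x, hx, hxs⟩ := S.exists_rep hp cs two_pos (iter_scal hp cs hε hw) hn' hz (s := s)
    (fun x => by rw [hw, hw, map_zsmul]) hrp hrd (j := 1) (by rw [pow_one]; exact hs)
  refine ⟨y, z, hy ▸ ht, hy1, hy ▸ h3, ?_⟩
  have hyT : y ∈ tX D k e0 z := by rw [mem_tX, hy]; exact ht
  have hTK : tX D k e0 z ≤ Subgroup.centralizer ({y} : Set X) := fun a ha =>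
    Subgroup.mem_centralizer_singleton_iff.2 (tX_comm hp S.inj z ha hyT)
  have hmc := isMC_cX hp ht
  have hxK : x ∈ Subgroup.centralizer ({y} : Set X) := by
    have h4 : (z⁻¹ * e0 x * z) * t * (z⁻¹ * e0 x * z)⁻¹ = t := by
      refine cX_inj hp ((Subgroup.mem_normalizer_iff.1 hxs.mem_normalizer t).1 ht) ht fun i => ?_
      have h5 := cX_rp hp cs S.lf p hxs ht (rep cs hp.isCartan s⁻¹ (sr i))
      have h6 := (h3 (rep cs hp.isCartan s (rep cs hp.isCartan s⁻¹ (sr i)) - rep cs hp.isCartan s⁻¹ (sr i))).2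
        (by rw [map_sub, hL, sub_self]; exact dvd_zero _)
      rw [hmc.sub, div_eq_one_iff_eq (hmc.ne_zero _)] at h6
      rw [← h6] at h5
      rwa [rep_apply_inv] at h5
    refine Subgroup.mem_centralizer_singleton_iff.2 (S.inj ?_)
    rw [map_mul, map_mul]
    calc e0 x * e0 y = z * ((z⁻¹ * e0 x * z) * (z⁻¹ * e0 y * z) * (z⁻¹ * e0 x * z)⁻¹) * z⁻¹ * e0 x := by group
      _ = z * (z⁻¹ * e0 y * z) * z⁻¹ * e0 x := by rw [hy, h4]
      _ = _ := by group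
  have hxN : x ∈ Subgroup.normalizer (tX D k e0 z : Set X) := by
    rw [Subgroup.mem_normalizer_iff]
    intro a
    have h4 : z⁻¹ * e0 (x * a * x⁻¹) * z = (z⁻¹ * e0 x * z) * (z⁻¹ * e0 a * z) * (z⁻¹ * e0 x * z)⁻¹ := by
      rw [map_mul, map_mul, map_inv]; group
    rw [mem_tX, mem_tX, h4]
    exact Subgroup.mem_normalizer_iff.1 hxs.mem_normalizer _
  have h4 := dvd_relIndex hrp hx hxK hxN fun h => hs1 (rp_unique hp cs S.lf p hNs hxs (rp_of_mem (mem_tX.1 h)))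
  have hQ1 : Q - 1 ≠ 0 := fun h => by
    have h5 : 1 < p ^ e := Nat.one_lt_pow S.pos.ne' hpF.out.one_lt
    rcases hε with rfl | rfl <;> omega
  obtain ⟨v, b, hv, hb⟩ := exists_part hrp hQ1
  have : Fact r.Prime := ⟨hrp⟩
  have h5 : (r ^ v) ^ l ∣ Nat.card (tX D k e0 z) := by
    refine S.pow_dvd_card_tX hp cs hε (w1 := 1) (fun x => by rw [hw, map_one, Module.End.one_apply]) hn' hz hrp hrc hrd
      hr2 hQ (n := 1) ?_ (by rw [map_one, one_pow]) (fun i => Pi.single i 1) (fun i => LinearMap.proj i) 1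
      (fun h => hrp.not_dvd_one (by exact_mod_cast h)) (fun i => ?_) (fun i i' j hj => ?_) ?_
    · exact Nat.dvd_one.1 ((dvd_pow_sub_one_iff 1).1 (by rwa [pow_one]))
    · rw [map_one, Polynomial.cyclotomic_one, map_sub, Polynomial.aeval_X, map_one, sub_self, LinearMap.zero_apply]
    · rw [Polynomial.natDegree_cyclotomic, Nat.totient_one] at hj ⊢
      obtain rfl : j = 0 := by omega
      rw [pow_zero, Module.End.one_apply, LinearMap.proj_apply, Pi.single_apply]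
      simp
    · rw [Polynomial.cyclotomic_one, Polynomial.eval_sub, Polynomial.eval_X, Polynomial.eval_one]
      exact ⟨b, hv⟩
  obtain ⟨R, h6, h7⟩ := hfs
  have hrZ := Nat.prime_iff_prime_int.1 hrp
  refine not_dvd_index _ hrp (F := fs) (a := 1) ⟨1, by ring, fun h => hrp.not_dvd_one (by exact_mod_cast h)⟩
    (fun h => hrc ((Nat.prime_dvd_prime_iff_eq hrp hpF.out).1 (hrp.dvd_of_dvd_pow h))) hcard (v := v * l + 1)
    (b := b ^ l * R) (by rw [h6, hv]; push_cast; ring)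
    (fun h => (hrZ.dvd_mul.1 h).elim (fun h => hb (hrZ.dvd_of_dvd_pow h)) h7) ?_
  have h8 := (tX D k e0 z).subgroupOf (Subgroup.centralizer ({y} : Set X)) |>.card_mul_index
  rw [Nat.card_congr (Subgroup.subgroupOfEquivOfLe hTK).toEquiv] at h8
  rw [pow_one, ← h8, pow_succ, pow_mul]
  exact Nat.mul_dvd_mul h5 h4

omit S in
theorem count_ck {Al : List (List ℤ)} (hA : MatList (cartanOf D l) Al) {word : List (Fin l)} {kk N : ℕ}
    {m : List (List ℤ)} {b : List ℤ} {C s' : ℕ} (H : CountCk D l Al word kk N m b C) (hsC : C ≤ s') :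
    {a | IsRoot cs hp.isCartan a ∧ (s' : ℤ) ∣ fn l b a}.ncard <
      {a | IsRoot cs hp.isCartan a ∧
        ∑ i ∈ Finset.range N, (rep cs hp.isCartan (cs.wordProd word ^ kk) ^ i) a = 0}.ncard := by
  obtain ⟨⟨h1, h2⟩, h3, h4, h5, -, h6, h7⟩ := H
  have hlen : ∀ v ∈ rootL D l, v.length = l := by
    intro v hv
    obtain ⟨r, -, rfl⟩ := List.mem_map.1 hv
    rw [List.length_map, List.length_finRange]
  rw [ncard_root hp cs (fun a => (s' : ℤ) ∣ fn l b a) (fun v => dot b v = 0) (fun v hv => ?_),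
    ncard_root hp cs (fun a => ∑ i ∈ Finset.range N, (rep cs hp.isCartan (cs.wordProd word ^ kk) ^ i) a = 0)
      (fun v => sumIt l m N v = List.replicate l 0) (fun v hv => ?_)]
  · exact h7
  · rw [← toFn_sumIt h1 h2 (rep_single hp cs hA word kk h3) _ _ (hlen v hv), decide_eq_true_iff]
    refine ⟨fun h => by rw [h, toFn_replicate], fun h => ?_⟩
    have hl := length_sumIt h2 N v (hlen v hv)
    refine List.ext_getElem (by rw [hl, List.length_replicate]) fun i hi hi' => ?_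
    rw [hl] at hi
    have h8 := congrFun h ⟨i, hi⟩
    rw [List.getElem_replicate]
    have h9 : toFn l (sumIt l m N v) ⟨i, hi⟩ = (sumIt l m N v).getD i 0 := rfl
    rw [h9, List.getD_eq_getElem _ _ (by rw [hl]; exact hi)] at h8
    exact h8
  · rw [show fn l b (toFn l v) = dot b v from (dot_eq b v h5 (hlen v hv)).symm, decide_eq_true_iff]
    refine ⟨fun h => h ▸ dvd_zero _, fun h => ?_⟩
    have h8 := h6 v hv
    exact Int.natAbs_eq_zero.1 (Nat.eq_zero_of_dvd_of_lt (Int.natCast_dvd.1 h) (by omega))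

omit hp cs S in
/-- the check for `exists_cent`: the word has order `r` and fixes the functional `b` -/
def FixCk (l : ℕ) (Al : List (List ℤ)) (word : List (Fin l)) (r : ℕ) (b : List ℤ) : Prop :=
  (∀ i : Fin l, acn Al word (1 * r) (bas l i) = bas l i) ∧
  (∃ i : Fin l, toFn l (acn Al word 1 (bas l i)) ≠ toFn l (bas l i)) ∧
  ∀ i : Fin l, fn l b (toFn l (acn Al word 1 (bas l i))) = fn l b (toFn l (bas l i))

/-- **An `s'`-element with class size prime to `s'` and divisible by `r`.** -/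
theorem wz_ck [IsAlgClosed k] [Finite W] [Finite X] {r s' : ℕ} (hrp : r.Prime) (hsp : s'.Prime) (hrs : r ≠ s')
    (hrc : r ≠ p) (hsc : s' ≠ p) (hrd : ¬ r ∣ d) (hsd : ¬ s' ∣ d) (hs2 : s' ≠ 2) {ε Q : ℤ} (hε : ε = 1 ∨ ε = -1)
    (hQ : Q = ε * (p ^ e : ℕ)) (hT : HasTor hp cs g ε (1 : W)) (hrQ : (r : ℤ) ∣ Q - 1) (hsQ : (s' : ℤ) ∣ Q - 1)
    {Al : List (List ℤ)} (hA : MatList (cartanOf D l) Al) {word word' : List (Fin l)} {kk C : ℕ} {m : List (List ℤ)}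
    {b : List ℤ} (H : CountCk D l Al word kk (r ^ 1) m b C) (hsC : C ≤ s') (H' : FixCk l Al word' s' b)
    {fs : ℤ} {N g' : ℕ} (hcard : g' * Nat.card X = (p ^ e) ^ N * fs.natAbs)
    (hfs : ∃ R, fs = (Q - 1) ^ l * (s' * R) ∧ ¬ (s' : ℤ) ∣ R) :
    ∃ y : X, y ^ s' = 1 ∧ ¬ s' ∣ cls y ∧ r ∣ cls y := by
  obtain ⟨w, hw⟩ := hT
  simp only [map_one, Module.End.one_apply] at hw
  have h0 : ∀ i : Fin l, toFn l (acn Al word' 1 (bas l i)) = rep cs hp.isCartan (cs.wordProd word' ^ 1) (toFn l (bas l i)) :=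
    fun i => by rw [map_pow]; exact toFn_acn cs hp.isCartan hA word' _ _ (length_bas i.1)
  obtain ⟨y, z, h1, h2, h3, h4⟩ := exists_cent hp cs S hsp hsc hsd hs2 hε hQ hsQ hw (s := cs.wordProd word' ^ 1)
    (rep_injective cs hp.isCartan (by rw [map_pow, rep_pow_eq_one hp cs hA word' 1 s' H'.1, map_one]))
    (fun h => by
      obtain ⟨i, hi⟩ := H'.2.1
      exact hi (by rw [h0, h, map_one, Module.End.one_apply])) (fn l b).toAddMonoidHom
    (fun x => by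
      have h1 : (fn l b).comp (rep cs hp.isCartan (cs.wordProd word' ^ 1)) = fn l b := by
        refine LinearMap.pi_ext' fun i => LinearMap.ext_ring ?_
        have h2 := H'.2.2 i
        rw [h0, toFn_bas] at h2
        exact h2
      exact LinearMap.congr_fun h1 x) hcard hfs
  refine ⟨y, h2, h4, dvd_cls hp cs S hrp hsp hrs hrd w two_pos (iter_scal hp cs hε hw)
    (regT_scal hp cs S hrp hrc hε hQ hrQ hw).2 (s := cs.wordProd word ^ kk) (fun x => by rw [hw, hw, map_zsmul]) (j := 1)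
    (rep_injective cs hp.isCartan (by rw [map_pow, rep_pow_eq_one hp cs hA word kk _ H.2.2.1, map_one])) h2 h1 ?_⟩
  simp only [h3]
  exact count_ck hp cs hA H hsC

end Gen

end Cfsg.Agent.PQ.SS.CX
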