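import Cfsg.Agent.PQ.SS.CrsXA
import Cfsg.Agent.PQ.SS.Bad
import Cfsg.Agent.H630.ExcRowsD

/-!
# PQ, strong converse in cross characteristic, exceptional groups: the families (helper77)

`AbT`, `wz_of_px`, `wz_of_allD`; `e6_five`, `t6_five`, `e7_rows`, `e8_seven`, `d4_three`.
-/

set_option autoImplicit false
set_option linter.unusedSectionVars false
set_option linter.unusedVariables false

namespace Cfsg.Agent.PQ.SS.CX

open CoxeterSystem Cfsg Cfsg.Lie Cfsg.Lie.ChevalleyDatum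
open Cfsg.Agent.ChevalleyStructure Cfsg.Agent.ChevalleyStructure.Elts Cfsg.Agent.ChevalleyStructure.CoxeterGeom
  Cfsg.Agent.ChevalleyStructure.CoxeterGeomTypes Cfsg.Agent.ChevalleyStructure.NPerm
open Cfsg.Agent.Tits.Roots Cfsg.Agent.Tits.Core Cfsg.Agent.Nodes Cfsg.Agent.Nodes.Reps Cfsg.Agent.Nodes.BNOf
  Cfsg.Agent.Nodes.RGDChev
open Cfsg.Agent.KFacts.RgdField Cfsg.Agent.KFacts.RgdChevCoord Cfsg.Agent.BpExc.TorCent Cfsg.Agent.BpExc.TorChev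
open Cfsg.Agent.GpExc.Field Cfsg.Agent.BpExc.Tow Cfsg.Agent.BpExc.TowChev Cfsg.Agent.BpExc.Fr
  Cfsg.Agent.BpExc.LangFr Cfsg.Agent.LangThm Cfsg.Agent.BpExc Cfsg.Agent.H129.TorusChar Cfsg.Agent.H129.TorusMain
open Cfsg.Agent.H630.NH Cfsg.Agent.H630.Exc Cfsg.Agent.H130.WeylCk Cfsg.Agent.H130.PolyL Cfsg.Agent.H130.WeylTab
open Cfsg.Agent.PQ.SS.Bad

/-! ### groups -/

/-- an abelian subgroup contains a Sylow `l`-subgroup -/
def AbT (l : ℕ) (S : Type) [Group S] : Prop := ∃ T : Subgroup S, IsMulCommutative T ∧ ¬ l ∣ T.index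

section Grp

variable {S S' : Type} [Group S] [Group S'] {l m : ℕ}

theorem isL_symm (e : S ≃* S') {x : S'} (h : LV.Blk.IsL l x) : LV.Blk.IsL l (e.symm x) :=
  let ⟨j, h⟩ := h
  ⟨j, by rw [← map_pow, h, map_one]⟩

theorem px_congr (e : S ≃* S') (h : PX l m S') : PX l m S :=
  let ⟨x, h1, h2⟩ := h
  ⟨e.symm x, isL_symm e h1, h2.trans (index_congr e.symm x).symm.dvd⟩

theorem wz_congr (e : S ≃* S') (h : WZ l m S') : WZ l m S :=
  let ⟨x, h1, h2, h3⟩ := h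
  ⟨e.symm x, isL_symm e h1, fun h => h2 (h.trans (index_congr e.symm x).dvd), h3.trans (index_congr e.symm x).symm.dvd⟩

theorem AbT.congr (e : S ≃* S') (h : AbT l S') : AbT l S := by
  obtain ⟨T, h1, h2⟩ := h
  refine ⟨T.comap e.toMonoidHom, ⟨⟨fun a b => Subtype.ext (e.injective ?_)⟩⟩,
    by rwa [Subgroup.index_comap_of_surjective _ e.surjective]⟩
  rw [Subgroup.coe_mul, Subgroup.coe_mul, map_mul, map_mul]
  exact congrArg Subtype.val (h1.is_comm.comm (⟨e a, a.2⟩ : T) ⟨e b, b.2⟩)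

variable [Finite S]

theorem wz_of_px (hl : l.Prime) (hA : AbT l S) (h : PX l m S) : WZ l m S := by
  have : Fact l.Prime := ⟨hl⟩
  obtain ⟨T, h1, h2⟩ := hA
  obtain ⟨x, ⟨j, h3⟩, h4⟩ := h
  obtain ⟨g, hg⟩ := exists_conj_le l (Subgroup.zpowers x) (by
    rintro ⟨_, i, rfl⟩
    refine ⟨j, Subtype.ext ?_⟩
    show (x ^ i) ^ l ^ j = 1
    rw [← zpow_natCast, ← zpow_mul, mul_comm, zpow_mul, zpow_natCast, h3, one_zpow]) T h2
  refine ⟨x, ⟨j, h3⟩, fun h5 => h2 ?_, h4⟩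
  rw [cls, ← index_congr (MulAut.conj g)] at h5
  refine h5.trans (Subgroup.index_dvd_of_le fun a ha => Subgroup.mem_centralizer_singleton_iff.2 ?_)
  exact congrArg Subtype.val (h1.is_comm.comm (⟨a, ha⟩ : T) ⟨_, hg x (Subgroup.mem_zpowers x)⟩)

theorem wz_of_allD (hl : l.Prime) (hd : l ∣ Nat.card S) (h : AllD m l S) : WZ l m S := by
  have : Fact l.Prime := ⟨hl⟩
  obtain ⟨P⟩ : Nonempty (Sylow l S) := inferInstance
  have : Nontrivial P := (Subgroup.nontrivial_iff_ne_bot _).2 (P.ne_bot_of_dvd_card hd)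
  have h1 := P.isPGroup'.center_nontrivial
  obtain ⟨x, hx⟩ := exists_prime_orderOf_dvd_card' (G := Subgroup.center P) l
    ((P.isPGroup'.to_subgroup _).card_eq_or_dvd.resolve_left (Finite.one_lt_card).ne')
  have h2 : orderOf ((x : P) : S) = l := by rw [Subgroup.orderOf_coe, Subgroup.orderOf_coe, hx]
  refine ⟨_, ⟨1, orderOf_dvd_iff_pow_eq_one.1 (h2.trans (pow_one l).symm).dvd⟩, fun h3 => P.not_dvd_index (h3.trans
    (Subgroup.index_dvd_of_le fun a ha => Subgroup.mem_centralizer_singleton_iff.2 ?_)), h _ h2⟩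
  exact congrArg Subtype.val (Subgroup.mem_center_iff.1 x.2 ⟨a, ha⟩)

omit [Finite S] in
theorem wz_of {y : S} (h : y ^ l = 1 ∧ ¬ l ∣ cls y ∧ m ∣ cls y) : WZ l m S := ⟨y, ⟨1, by rw [pow_one, h.1]⟩, h.2⟩

end Grp

theorem prod_one {r : ℕ} (hr : r.Prime) {Q : ℤ} (hQ : (r : ℤ) ∣ Q - 1) : ∀ L : List ℕ, (∀ i ∈ L, ¬ r ∣ i) →
    ∃ R, (L.map fun i => Q ^ i - 1).prod = (Q - 1) ^ L.length * R ∧ ¬ (r : ℤ) ∣ R
  | [], _ => ⟨1, by simp, fun h => hr.not_dvd_one (by exact_mod_cast h)⟩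
  | i :: L, h => by
    obtain ⟨R, h1, h2⟩ := prod_one hr hQ L fun j hj => h j (List.mem_cons_of_mem _ hj)
    obtain ⟨C, h3, h4⟩ := pow_sub_one hQ (h i List.mem_cons_self)
    exact ⟨C * R, by rw [List.map_cons, List.prod_cons, h1, h3, List.length_cons]; ring,
      fun h5 => ((Nat.prime_iff_prime_int.1 hr).dvd_mul.1 h5).elim h4 h2⟩

theorem prod_two {r : ℕ} (hr : r.Prime) {Q A : ℤ} (hQ : (r : ℤ) ∣ Q - 1) (L : List ℕ) (hL : ∀ i ∈ L, ¬ r ∣ i)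
    (hA : ∃ C : ℤ, A = (Q - 1) * (r * C) ∧ ¬ (r : ℤ) ∣ C) :
    ∃ R, A * (L.map fun i => Q ^ i - 1).prod = (Q - 1) ^ (L.length + 1) * (r * R) ∧ ¬ (r : ℤ) ∣ R := by
  obtain ⟨R, h1, h2⟩ := prod_one hr hQ L hL
  obtain ⟨C, h3, h4⟩ := hA
  exact ⟨C * R, by rw [h1, h3]; ring, fun h5 => ((Nat.prime_iff_prime_int.1 hr).dvd_mul.1 h5).elim h4 h2⟩

theorem dvd_of_ord {r : ℕ} {Q : ℤ} (h : orderOf (Q : ZMod r) = 1) : (r : ℤ) ∣ Q - 1 := by
  have := (dvd_pow_sub_one_iff (r := r) (Q := Q) 1).2 (by rw [h])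
  rwa [pow_one] at this

theorem ord_seven {Q : ℤ} (h : ¬ ((7 : ℕ) : ℤ) ∣ Q) :
    (orderOf (Q : ZMod 7) = 1 ∨ orderOf (Q : ZMod 7) = 2) ∨ orderOf (Q : ZMod 7) = 3 ∨ orderOf (Q : ZMod 7) = 6 := by
  have h1 : orderOf (Q : ZMod 7) ∣ 6 := ord_dvd (by norm_num) h
  have h2 : ∀ n < 7, n ∣ 6 → (n = 1 ∨ n = 2) ∨ n = 3 ∨ n = 6 := by decide
  exact h2 _ (Nat.lt_succ_of_le (Nat.le_of_dvd (by norm_num) h1)) h1

section Gen

variable {D : ChevalleyDatum} {l : ℕ} {M : CoxeterMatrix (Fin l)} (hp : IsType D l M) {k : Type} [Field k]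
  {W : Type} [Group W] (cs : CoxeterSystem M W)
  {p e : ℕ} [hpF : Fact p.Prime] [CharP k p] {σ : MulAut ↥(D.group k)} {g : (Fin l → ℤ) ≃+ (Fin l → ℤ)}
  {X : Type} [Group X] {e0 : X →* ↥(D.group k)} {d : ℕ} (S : Setup hp cs p e σ g e0 d)
  [IsAlgClosed k] [Finite W] [Finite X]

include S

theorem abT_of {ε Q : ℤ} (hε : ε = 1 ∨ ε = -1) (hQ : Q = ε * (p ^ e : ℕ)) {Al : List (List ℤ)}
    (hA : MatList (cartanOf D l) Al) (hT : ∀ w1, HasTor hp cs g ε w1) {degs : List ℕ} {N g' : ℕ}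
    (hcard : g' * Nat.card X = (p ^ e) ^ N * ((degs.map fun i => Q ^ i - 1).prod).natAbs) {r : ℕ} (hr : r.Prime)
    (hr2 : r ≠ 2) (hrp : r ≠ p) (hrd : ¬ r ∣ d) {n : ℕ} (hn : orderOf (Q : ZMod r) = n)
    (hi : 0 < n ∧ n ∈ H130.PolyL.idx) (H : HasF Al l degs n) (hd : ∀ i ∈ degs, n ∣ i → ¬ r ∣ i) : AbT r X := by
  obtain ⟨T, h1, h2⟩ := S.pos_of_hasF hp cs hε hA hT hQ hi.1 hi.2 H hcard (π := {r}) (by
    rintro _ rfl
    refine ⟨hr, hr2, hrp, hrd, hn, hd, ?_⟩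
    subst hn
    exact exists_prod hr (not_dvd_Q hpF.out hr hrp hε hQ) degs hd)
  exact ⟨T, h1, h2 r rfl⟩

theorem px_of {ε Q : ℤ} (hε : ε = 1 ∨ ε = -1) (hQ : Q = ε * (p ^ e : ℕ)) (hT : HasTor hp cs g ε (1 : W))
    {r s : ℕ} (hr : r.Prime) (hs : s.Prime) (hrs : r ≠ s) (hrp : r ≠ p) (hsp : s ≠ p) (hrd : ¬ r ∣ d) (hsd : ¬ s ∣ d)
    (hr2 : r ≠ 2) (hs2 : s ≠ 2) (hrQ : (r : ℤ) ∣ Q - 1) (hd : s ∣ Nat.card X) {Al : List (List ℤ)}
    (hA : MatList (cartanOf D l) Al) {word : List (Fin l)} {kk C : ℕ} {m : List (List ℤ)} {b : List ℤ}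
    (H : CountCk D l Al word kk (r ^ 1) m b C) (hC : C ≤ s) : PX s r X := by
  by_cases h : (s : ℤ) ∣ Q - 1
  · exact (someD_count_ck hp cs S hr hs hrs hrp hsp hrd hsd hr2 hs2 hε hQ hT hrQ h hA H hC).px
  · exact ((allD_reg hp cs S hr hs hrs hrp hrd hr2 hε hQ hT hrQ h).someD hs hd).px

end Gen

/-! ### `E₆`, `²E₆` -/

theorem count_E6_two : CountCk chevE6 6 alE6 [1, 2, 3, 4] 3 2 [[1, 1, 2, 2, 1, 0], [0, -1, 0, 0, 0, 0],
    [0, 0, -1, 0, 0, 0], [0, 0, 0, -1, 0, 0], [0, 0, 0, 0, -1, 0], [0, 1, 1, 2, 2, 1]] [0, 0, 1, 0, 0, 0] 3 := by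
  decide +kernel

theorem fix_E6 : FixCk 6 alE6 [1, 3, 4, 5] 5 [0, 0, 1, 0, 0, 0] := by
  unfold FixCk
  decide +kernel

/-- the prime `5` in type `E₆` -/
def Five6 (p : ℕ) (X : Type) [Group X] : Prop :=
  5 ≠ p → AbT 5 X ∨ ((2 ≠ p → WZ 5 2 X) ∧ ∀ s, s.Prime → 7 ≤ s → s ≠ p → s ∣ Nat.card X → PX s 5 X)

theorem Five6.congr {p : ℕ} {S S' : Type} [Group S] [Group S'] (e : S ≃* S') (h : Five6 p S') : Five6 p S :=
  fun h5 => (h h5).imp (AbT.congr e) fun h1 => ⟨fun h2 => wz_congr e (h1.1 h2), fun s h2 h3 h4 h6 =>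
    px_congr e (h1.2 s h2 h3 h4 (Nat.card_congr e.toEquiv ▸ h6))⟩

theorem five_gen {W : Type} [Group W] (cs : CoxeterSystem CoxeterMatrix.E₆ W) {k : Type} [Field k] {p e : ℕ}
    [hpF : Fact p.Prime] [CharP k p] {σ : MulAut ↥(chevE6.group k)} {g : (Fin 6 → ℤ) ≃+ (Fin 6 → ℤ)} {X : Type}
    [Group X] {e0 : X →* ↥(chevE6.group k)} {d : ℕ} (S : Setup e6T cs p e σ g e0 d) [IsAlgClosed k] [Finite W] [Finite X]
    {ε Q : ℤ} (hε : ε = 1 ∨ ε = -1) (hQ : Q = ε * (p ^ e : ℕ)) (hT : ∀ w1, HasTor e6T cs g ε w1) (hd : d ∣ 3) {g' : ℕ}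
    (hcard : g' * Nat.card X = (p ^ e) ^ 36 * (([2, 5, 6, 8, 9, 12].map fun i => Q ^ i - 1).prod).natAbs) :
    Five6 p X := by
  intro h5
  have hr := Nat.prime_five
  have nd : ∀ s : ℕ, s ≠ 1 → s ≠ 3 → ¬ s ∣ d := fun s h1 h2 h3 =>
    ((Nat.dvd_prime Nat.prime_three).1 (h3.trans hd)).elim h1 h2
  rcases ord_five (not_dvd_Q hpF.out hr h5 hε hQ) with (h | h) | h
  · refine .inr ⟨fun h2 => ?_, fun s h1 h2 h3 h4 => px_of e6T cs S hε hQ (hT 1) hr h1 (by omega) h5 h3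
      (nd 5 (by decide) (by decide)) (nd s (by omega) (by omega)) (by decide) (by omega) (dvd_of_ord h) h4 lists_E6
      count_E6_five (by omega)⟩
    have h3 : ((2 : ℕ) : ℤ) ∣ Q - 1 := by
      have := not_dvd_Q hpF.out Nat.prime_two h2 hε hQ
      omega
    obtain ⟨y, hy⟩ := wz_ck e6T cs S Nat.prime_two hr (by decide) h2 h5 (nd 2 (by decide) (by decide))
      (nd 5 (by decide) (by decide)) (by decide) hε hQ (hT 1) h3 (dvd_of_ord h) lists_E6 count_E6_two (by decide) fix_E6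
      hcard (by
        obtain ⟨R, h4, h6⟩ := prod_two hr (dvd_of_ord h) [2, 6, 8, 9, 12] (by decide)
          (pow_five (dvd_of_ord h) (i := 1) (by decide))
        refine ⟨R, Eq.trans ?_ h4, h6⟩
        simp only [List.map_cons, List.map_nil, List.prod_cons, List.prod_nil]
        ring)
    exact wz_of hy
  · exact .inl (abT_of e6T cs S hε hQ lists_E6 hT hcard hr (by decide) h5 (nd 5 (by decide) (by decide)) h (by decide)
      hasF_E6_2 (by decide))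
  · exact .inl (abT_of e6T cs S hε hQ lists_E6 hT hcard hr (by decide) h5 (nd 5 (by decide) (by decide)) h (by decide)
      hasF_E6_4 (by decide))

theorem e6_five (r : ℕ) [Fact r.Prime] (F : Type) [Field F] [Fintype F] [CharP F r] : Five6 r ↥(chevE6.group F) := by
  obtain ⟨k, _, _, f, p, hpp, hkp, e, hk, hka, he0, hcF⟩ := H378.TorFin.exists_closure F
  have hkr : CharP k r := charP_of_injective_ringHom f.injective r
  obtain rfl : r = p := CharP.eq k hkr hkp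
  have cs := CoxeterMatrix.E₆.toCoxeterSystem
  have hW := finite_W e6T cs
  have hcF' : Fintype.card F = r ^ e := by rw [← Nat.card_eq_fintype_card, hcF]
  refine five_gen cs (setup_untw e6T cs hk f he0 hcF' invC_E6 three_ne_zero) (Or.inl rfl) (one_mul _).symm
    (hasTor_one e6T cs) (Nat.gcd_dvd_left _ _) (g' := Nat.gcd 3 (r ^ e - 1)) ?_
  rw [natAbs_prod _ (pow_pos hpp.out.pos _), S1063.result hcF']
  simp only [List.map_cons, List.map_nil, List.prod_cons, List.prod_nil, mul_one]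
  ring

theorem exists_exp {r e' q j : ℕ} (hr : r.Prime) (hq : IsPrimePow q) (hj : j ≠ 0) (h : r ^ e' = q ^ j) :
    ∃ e, 0 < e ∧ q = r ^ e := by
  obtain ⟨r', e, hr', he, rfl⟩ := hq
  have h1 : r' ∣ r ^ e' := h ▸ (dvd_pow_self r' he.ne').trans (dvd_pow_self _ hj)
  exact ⟨e, he, by rw [(Nat.prime_dvd_prime_iff_eq hr'.nat_prime hr).1 (hr'.nat_prime.dvd_of_dvd_pow h1)]⟩

theorem t6_five (r : ℕ) [Fact r.Prime] (F : Type) [Field F] [Fintype F] [CharP F r] {q : ℕ} (hq : IsPrimePow q)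
    (hF : Fintype.card F = q ^ 2) : Five6 r ↥(twistedE6 F q) := by
  obtain ⟨k, _, _, f, p, hpp, hkp, e', hk, hka, he0', hcF⟩ := H378.TorFin.exists_closure F
  have hkr : CharP k r := charP_of_injective_ringHom f.injective r
  obtain rfl : r = p := CharP.eq k hkr hkp
  obtain ⟨e, he0, hqe⟩ := exists_exp hpp.out hq two_ne_zero (by rw [← hcF, Nat.card_eq_fintype_card, hF])
  have cs := CoxeterMatrix.E₆.toCoxeterSystem
  have hW := finite_W e6T cs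
  have hpos : 0 < q := hq.pos
  refine five_gen cs (setup_twE6 cs hk f he0 hqe hq hF) (Or.inr rfl) (Q := -(q : ℤ)) (by rw [hqe]; ring)
    (hasTor_tw cs) (Nat.gcd_dvd_left _ _) (g' := Nat.gcd 3 (q + 1)) ?_
  rw [S1066.result hq hF, ← hqe]
  have ev : ∀ i : ℕ, Even i → ((-(q : ℤ)) ^ i - 1).natAbs = q ^ i - 1 := by
    intro i hi
    rw [hi.neg_pow]
    have h1 : 1 ≤ q ^ i := Nat.one_le_pow _ _ hpos
    have h2 : ((q : ℕ) : ℤ) ^ i - 1 = ((q ^ i - 1 : ℕ) : ℤ) := by push_cast [Nat.cast_sub h1]; ring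
    rw [h2, Int.natAbs_natCast]
  have od : ∀ i : ℕ, Odd i → ((-(q : ℤ)) ^ i - 1).natAbs = q ^ i + 1 := by
    intro i hi
    rw [hi.neg_pow]
    have h2 : -((q : ℕ) : ℤ) ^ i - 1 = -((q ^ i + 1 : ℕ) : ℤ) := by push_cast; ring
    rw [h2, Int.natAbs_neg, Int.natAbs_natCast]
  simp only [List.map_cons, List.map_nil, List.prod_cons, List.prod_nil, mul_one, Int.natAbs_mul]
  rw [ev 2 (by decide), od 5 (by decide), ev 6 (by decide), ev 8 (by decide), od 9 (by decide), ev 12 (by decide)]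
  ring

/-! ### `E₇` -/

theorem count_E7_a : CountCk chevE7 7 alE7 [0, 1, 2, 3, 4, 5, 6] 6 3 [[0, 0, 1, 1, 1, 0, 0], [1, 1, 1, 2, 2, 1, 1],
    [0, 1, 0, 1, 1, 1, 0], [0, -1, 0, -1, -1, 0, 0], [-1, 0, -1, -1, -1, -1, 0], [0, -1, -1, -1, -1, -1, -1],
    [0, 0, 0, -1, 0, 0, 0]] [0, 1, 0, 0, 0, 0, 0] 3 := by decide +kernel

theorem count_E7_b : CountCk chevE7 7 alE7 [0, 2, 3, 4, 5, 6] 1 7 [[0, 0, 1, 0, 0, 0, 0], [1, 1, 1, 1, 0, 0, 0],
    [0, 0, 0, 1, 0, 0, 0], [0, 0, 0, 0, 1, 0, 0], [0, 0, 0, 0, 0, 1, 0], [0, 0, 0, 0, 0, 0, 1],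
    [-1, 0, -1, -1, -1, -1, -1]] [0, 0, 0, 0, 1, 0, 0] 4 := by decide +kernel

theorem fix_E7_a : FixCk 7 alE7 [0, 2, 3, 4] 5 [0, 1, 0, 0, 0, 0, 0] := by
  unfold FixCk
  decide +kernel

theorem fix_E7_b : FixCk 7 alE7 [0, 2, 3, 4, 5, 6] 7 [0, 1, 0, 0, 0, 0, 0] := by
  unfold FixCk
  decide +kernel

theorem fix_E7_c : FixCk 7 alE7 [0, 2, 3, 1] 5 [0, 0, 0, 0, 1, 0, 0] := by
  unfold FixCk
  decide +kernel

/-- the primes `5`, `7` in `E₇` -/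
structure Rows7 (p : ℕ) (X : Type) [Group X] : Prop where
  three : ∀ s, s = 5 ∨ s = 7 → 3 ≠ p → s ≠ p → s ∣ Nat.card X → WZ s 3 X
  both : 5 ≠ p → 7 ≠ p → 5 ∣ Nat.card X → 7 ∣ Nat.card X → WZ 5 7 X ∨ WZ 7 5 X ∨ (AbT 5 X ∧ AbT 7 X)
  big : ∀ l, l = 5 ∨ l = 7 → l ≠ p → AbT l X ∨ ∀ s, s.Prime → 11 ≤ s → s ≠ p → s ∣ Nat.card X → PX s l X

theorem Rows7.congr {p : ℕ} {S S' : Type} [Group S] [Group S'] (e : S ≃* S') (h : Rows7 p S') : Rows7 p S where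
  three s h1 h2 h3 h4 := wz_congr e (h.three s h1 h2 h3 (Nat.card_congr e.toEquiv ▸ h4))
  both h1 h2 h3 h4 := (h.both h1 h2 (Nat.card_congr e.toEquiv ▸ h3) (Nat.card_congr e.toEquiv ▸ h4)).imp (wz_congr e)
    (Or.imp (wz_congr e) (And.imp (AbT.congr e) (AbT.congr e)))
  big l h1 h2 := (h.big l h1 h2).imp (AbT.congr e) fun h3 s h4 h5 h6 h7 =>
    px_congr e (h3 s h4 h5 h6 (Nat.card_congr e.toEquiv ▸ h7))

theorem e7_rows (r : ℕ) [Fact r.Prime] (F : Type) [Field F] [Fintype F] [CharP F r] : Rows7 r ↥(chevE7.group F) := by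
  obtain ⟨k, _, _, f, p, hpp, hkp, e, hk, hka, he0, hcF⟩ := H378.TorFin.exists_closure F
  have hkr : CharP k r := charP_of_injective_ringHom f.injective r
  obtain rfl : r = p := CharP.eq k hkr hkp
  have cs := CoxeterMatrix.E₇.toCoxeterSystem
  have hW := finite_W e7T cs
  have hcF' : Fintype.card F = r ^ e := by rw [← Nat.card_eq_fintype_card, hcF]
  have S := setup_untw e7T cs hk f he0 hcF' invC_E7 two_ne_zero
  have nd : ∀ t : ℕ, 2 < t → ¬ t ∣ Nat.gcd 2 (Nat.card F - 1) := fun t ht h =>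
    absurd (Nat.le_of_dvd two_pos (h.trans (Nat.gcd_dvd_left _ _))) (by omega)
  have h1 : (1 : ℤ) = 1 ∨ (1 : ℤ) = -1 := Or.inl rfl
  have hQ : ((r ^ e : ℕ) : ℤ) = 1 * (r ^ e : ℕ) := (one_mul _).symm
  have hc : ∀ {ε Q : ℤ}, ε = 1 ∨ ε = -1 → Q = ε * (r ^ e : ℕ) → Nat.gcd 2 (r ^ e - 1) * Nat.card ↥(chevE7.group F) =
      (r ^ e) ^ 63 * (([2, 6, 8, 10, 12, 14, 18].map fun i => Q ^ i - 1).prod).natAbs := by
    intro ε Q hε hQ
    have h2 : ([2, 6, 8, 10, 12, 14, 18].map fun i => Q ^ i - 1).prod =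
        ([2, 6, 8, 10, 12, 14, 18].map fun i => ((r ^ e : ℕ) : ℤ) ^ i - 1).prod := by
      simp only [List.map_cons, List.map_nil, List.prod_cons, List.prod_nil]
      rcases hε with rfl | rfl <;> rw [hQ] <;> ring
    rw [h2, natAbs_prod _ (pow_pos hpp.out.pos _), S1064.result hcF']
    simp only [List.map_cons, List.map_nil, List.prod_cons, List.prod_nil, mul_one]
    ring
  have f5 : ∀ {Q : ℤ}, ((5 : ℕ) : ℤ) ∣ Q - 1 → ∃ R, ([2, 6, 8, 10, 12, 14, 18].map fun i => Q ^ i - 1).prod =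
      (Q - 1) ^ 7 * ((5 : ℕ) * R) ∧ ¬ ((5 : ℕ) : ℤ) ∣ R := fun h => by
    obtain ⟨R, h4, h6⟩ := prod_two Nat.prime_five h [2, 6, 8, 12, 14, 18] (by decide) (pow_five h (i := 2) (by decide))
    refine ⟨R, Eq.trans ?_ h4, h6⟩
    simp only [List.map_cons, List.map_nil, List.prod_cons, List.prod_nil]
    ring
  have p7 : (7 : ℕ).Prime := by norm_num
  have f7 : ∀ {Q : ℤ}, ((7 : ℕ) : ℤ) ∣ Q - 1 → ∃ R, ([2, 6, 8, 10, 12, 14, 18].map fun i => Q ^ i - 1).prod =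
      (Q - 1) ^ 7 * ((7 : ℕ) * R) ∧ ¬ ((7 : ℕ) : ℤ) ∣ R := fun h => by
    obtain ⟨R, h4, h6⟩ := prod_two p7 h [2, 6, 8, 10, 12, 18] (by decide) (pow_seven h (i := 2) (by decide))
    refine ⟨R, Eq.trans ?_ h4, h6⟩
    simp only [List.map_cons, List.map_nil, List.prod_cons, List.prod_nil]
    ring
  have sg : ∀ {l : ℕ}, l.Prime → orderOf (((r ^ e : ℕ) : ℤ) : ZMod l) = 1 ∨ orderOf (((r ^ e : ℕ) : ℤ) : ZMod l) = 2 →
      ∃ ε Q : ℤ, (ε = 1 ∨ ε = -1) ∧ Q = ε * (r ^ e : ℕ) ∧ (l : ℤ) ∣ Q - 1 := fun hl h =>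
    let ⟨ε, Q, h2, h3, h4, _⟩ := exists_eps h1 hQ hl rfl h
    ⟨ε, Q, h2, h3, h4⟩
  have a5 : 5 ≠ r → AbT 5 ↥(chevE7.group F) ∨ ∃ ε Q : ℤ, (ε = 1 ∨ ε = -1) ∧ Q = ε * (r ^ e : ℕ) ∧ ((5 : ℕ) : ℤ) ∣ Q - 1 :=
    fun h5 => (ord_five (not_dvd_Q hpp.out Nat.prime_five h5 h1 hQ)).symm.imp (fun h => abT_of e7T cs S h1 hQ lists_E7
      (hasTor_E7 cs 1 h1) (hc h1 hQ) Nat.prime_five (by decide) h5 (nd 5 (by decide)) h (by decide) hasF_E7_4 (by decide))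
      (sg Nat.prime_five)
  have a7 : 7 ≠ r → AbT 7 ↥(chevE7.group F) ∨ ∃ ε Q : ℤ, (ε = 1 ∨ ε = -1) ∧ Q = ε * (r ^ e : ℕ) ∧ ((7 : ℕ) : ℤ) ∣ Q - 1 :=
    fun h7 => (ord_seven (not_dvd_Q hpp.out p7 h7 h1 hQ)).symm.imp (fun h => h.elim
      (fun h => abT_of e7T cs S h1 hQ lists_E7 (hasTor_E7 cs 1 h1) (hc h1 hQ) p7 (by decide) h7 (nd 7 (by decide)) h
        (by decide) hasF_E7_3 (by decide))
      fun h => abT_of e7T cs S h1 hQ lists_E7 (hasTor_E7 cs 1 h1) (hc h1 hQ) p7 (by decide) h7 (nd 7 (by decide)) h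
        (by decide) hasF_E7_6 (by decide)) (sg p7)
  have rg : ∀ {l s : ℕ}, l.Prime → s.Prime → l ≠ s → l ≠ r → 2 < l → s ∣ Nat.card ↥(chevE7.group F) → ∀ {ε Q : ℤ},
      ε = 1 ∨ ε = -1 → Q = ε * (r ^ e : ℕ) → (l : ℤ) ∣ Q - 1 → ¬ (s : ℤ) ∣ Q - 1 → WZ s l ↥(chevE7.group F) :=
    fun hl hs h2 h3 h4 h5 ε Q hε hQ h6 h7 =>
      wz_of_allD hs h5 (allD_reg e7T cs S hl hs h2 h3 (nd _ h4) h4.ne' hε hQ (hasTor_E7 cs ε hε _) h6 h7)
  refine ⟨fun s hs h3 hsr hd => ?_, fun h5 h7 d5 d7 => ?_, fun l hl hlr => ?_⟩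
  · obtain ⟨ε, Q, hε, hQ, h3Q⟩ := sg Nat.prime_three (ord_three (not_dvd_Q hpp.out Nat.prime_three h3 h1 hQ))
    by_cases hsQ : (s : ℤ) ∣ Q - 1
    · rcases hs with rfl | rfl
      · exact wz_of (wz_ck e7T cs S Nat.prime_three Nat.prime_five (by decide) h3 hsr (nd 3 (by decide)) (nd 5 (by decide))
          (by decide) hε hQ (hasTor_E7 cs ε hε _) h3Q hsQ lists_E7 count_E7_a (by decide) fix_E7_a (hc hε hQ)
          (f5 hsQ)).choose_spec
      · exact wz_of (wz_ck e7T cs S Nat.prime_three p7 (by decide) h3 hsr (nd 3 (by decide)) (nd 7 (by decide))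
          (by decide) hε hQ (hasTor_E7 cs ε hε _) h3Q hsQ lists_E7 count_E7_a (by decide) fix_E7_b (hc hε hQ)
          (f7 hsQ)).choose_spec
    · exact rg Nat.prime_three (by rcases hs with rfl | rfl <;> norm_num) (by omega) h3 (by decide) hd hε hQ h3Q hsQ
  · have key : ∀ {ε Q : ℤ}, ε = 1 ∨ ε = -1 → Q = ε * (r ^ e : ℕ) → ((5 : ℕ) : ℤ) ∣ Q - 1 → ((7 : ℕ) : ℤ) ∣ Q - 1 →
        WZ 5 7 ↥(chevE7.group F) := fun {ε Q} hε hQ h5Q h7Q =>
      wz_of (wz_ck e7T cs S p7 Nat.prime_five (by decide) h7 h5 (nd 7 (by decide)) (nd 5 (by decide)) (by decide) hε hQ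
        (hasTor_E7 cs ε hε _) h7Q h5Q lists_E7 count_E7_b (by decide) fix_E7_c (hc hε hQ) (f5 h5Q)).choose_spec
    rcases a5 h5 with h2 | ⟨ε, Q, hε, hQ, h5Q⟩
    · rcases a7 h7 with h3 | ⟨ε, Q, hε, hQ, h7Q⟩
      · exact .inr (.inr ⟨h2, h3⟩)
      · by_cases h5Q : ((5 : ℕ) : ℤ) ∣ Q - 1
        · exact .inl (key hε hQ h5Q h7Q)
        · exact .inl (rg p7 Nat.prime_five (by decide) h7 (by decide) d5 hε hQ h7Q h5Q)
    · by_cases h7Q : ((7 : ℕ) : ℤ) ∣ Q - 1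
      · exact .inl (key hε hQ h5Q h7Q)
      · exact .inr (.inl (rg Nat.prime_five p7 (by decide) h5 (by decide) d7 hε hQ h5Q h7Q))
  · rcases hl with rfl | rfl
    · exact (a5 hlr).imp_right fun ⟨ε, Q, hε, hQ, h⟩ s hs h2 h3 h4 => px_of e7T cs S hε hQ (hasTor_E7 cs ε hε _)
        Nat.prime_five hs (by omega) hlr h3 (nd 5 (by decide)) (nd s (by omega)) (by decide) (by omega) h h4 lists_E7
        count_E7_five (by omega)
    · exact (a7 hlr).imp_right fun ⟨ε, Q, hε, hQ, h⟩ s hs h2 h3 h4 => px_of e7T cs S hε hQ (hasTor_E7 cs ε hε _)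
        p7 hs (by omega) hlr h3 (nd 7 (by decide)) (nd s (by omega)) (by decide) (by omega) h h4 lists_E7
        count_E7_seven (by omega)

/-! ### `E₈` -/

theorem e8_seven (r : ℕ) [Fact r.Prime] (F : Type) [Field F] [Fintype F] [CharP F r] (h7 : 7 ≠ r) :
    AbT 7 ↥(chevE8.group F) ∨
      ∀ s, s.Prime → 11 ≤ s → s ≠ r → s ∣ Nat.card ↥(chevE8.group F) → PX s 7 ↥(chevE8.group F) := by
  obtain ⟨k, _, _, f, p, hpp, hkp, e, hk, hka, he0, hcF⟩ := H378.TorFin.exists_closure F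
  have hkr : CharP k r := charP_of_injective_ringHom f.injective r
  obtain rfl : r = p := CharP.eq k hkr hkp
  have cs := CoxeterMatrix.E₈.toCoxeterSystem
  have hW := finite_W e8T cs
  have hcF' : Fintype.card F = r ^ e := by rw [← Nat.card_eq_fintype_card, hcF]
  have S := setup_untw e8T cs hk f he0 hcF' invC_E8 one_ne_zero
  rw [Nat.gcd_one_left] at S
  have h1 : (1 : ℤ) = 1 ∨ (1 : ℤ) = -1 := Or.inl rfl
  have hQ : ((r ^ e : ℕ) : ℤ) = 1 * (r ^ e : ℕ) := (one_mul _).symm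
  have hc : 1 * Nat.card ↥(chevE8.group F) = (r ^ e) ^ 120 *
      (([2, 8, 12, 14, 18, 20, 24, 30].map fun i => ((r ^ e : ℕ) : ℤ) ^ i - 1).prod).natAbs := by
    rw [natAbs_prod _ (pow_pos hpp.out.pos _), one_mul, S1065.result hcF']
    simp only [List.map_cons, List.map_nil, List.prod_cons, List.prod_nil, mul_one]
    ring
  have p7 : (7 : ℕ).Prime := by norm_num
  rcases ord_seven (not_dvd_Q hpp.out p7 h7 h1 hQ) with h | h | h
  · obtain ⟨ε, Q, hε, hQ', h2, -⟩ := exists_eps h1 hQ p7 rfl h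
    exact .inr fun s hs h3 h4 h5 => px_of e8T cs S hε hQ' (hasTor_E8 cs ε hε _) p7 hs (by omega) h7 h4 p7.not_dvd_one
      hs.not_dvd_one (by decide) (by omega) h2 h5 lists_E8 count_E8_seven (by omega)
  · exact .inl (abT_of e8T cs S h1 hQ lists_E8 (hasTor_E8 cs 1 h1) hc p7 (by decide) h7 p7.not_dvd_one h (by decide)
      hasF_E8_3 (by decide))
  · exact .inl (abT_of e8T cs S h1 hQ lists_E8 (hasTor_E8 cs 1 h1) hc p7 (by decide) h7 p7.not_dvd_one h (by decide)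
      hasF_E8_6 (by decide))

/-! ### `³D₄` -/

theorem count_D4 : CountCk chevD4 4 alD4 [1, 0, 2, 3] 2 3 mS [1, 1, 1, 1] 6 := by decide +kernel

theorem norm_D4 : ∀ v ∈ rootL chevD4 4, fn 4 [-1, 2, -1, -1] (toFn 4 v) ^ 2 -
    fn 4 [-1, 2, -1, -1] (toFn 4 v) * fn 4 [0, 1, -2, 0] (toFn 4 v) + fn 4 [0, 1, -2, 0] (toFn 4 v) ^ 2 ∣ 3 := by
  decide +kernel

theorem aeval_three {l : ℕ} (R : Module.End ℤ (Fin l → ℤ)) (x : Fin l → ℤ) :
    Polynomial.aeval R (ofL [1, 1, 1]) x = ∑ i ∈ Finset.range 3, (R ^ i) x := by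
  rw [← sum_ofL, Finset.sum_range]
  refine Finset.sum_congr rfl fun i _ => ?_
  have h : ∀ i : Fin 3, ([1, 1, 1] : List ℤ).get i = 1 := by decide
  rw [h, one_smul]

open Cfsg.Agent.H129.TriD4 (tri) in
theorem d4_three (r : ℕ) [Fact r.Prime] (F : Type) [Field F] [Fintype F] [CharP F r] {q : ℕ} (hq : IsPrimePow q)
    (hF : Fintype.card F = q ^ 3) (h3 : 3 ≠ r) {s : ℕ} (hs : s.Prime) (h5 : 5 ≤ s) (hsr : s ≠ r)
    (hd : s ∣ Nat.card ↥(twistedD4 F q)) : PX s 3 ↥(twistedD4 F q) := by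
  obtain ⟨k, _, _, f, p, hpp, hkp, e', hk, hka, he0', hcF⟩ := H378.TorFin.exists_closure F
  have hkr : CharP k r := charP_of_injective_ringHom f.injective r
  obtain rfl : r = p := CharP.eq k hkr hkp
  obtain ⟨e, he0, hqe⟩ := exists_exp hpp.out hq three_ne_zero (by rw [← hcF, Nat.card_eq_fintype_card, hF])
  have cs := coxeterD4.toCoxeterSystem
  have hW := finite_W RGDTwD4.hp cs
  have S := setup_twD4 cs hk f he0 hqe hq hF
  have h1 : (1 : ℤ) = 1 ∨ (1 : ℤ) = -1 := Or.inl rfl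
  have hQ0 : ((r ^ e : ℕ) : ℤ) = 1 * (r ^ e : ℕ) := (one_mul _).symm
  obtain ⟨ε, Q, hε, hQ, h3Q, -⟩ := exists_eps h1 hQ0 Nat.prime_three rfl
    (ord_three (not_dvd_Q hpp.out Nat.prime_three h3 h1 hQ0))
  obtain ⟨w, hw⟩ := has_R cs 1 hε
  rw [RR1] at hw
  have hS := repS cs
  have hcomm : rep cs RGDTwD4.hp.isCartan (cs.wordProd [1, 0, 2, 3] ^ 2) * triE =
      triE * rep cs RGDTwD4.hp.isCartan (cs.wordProd [1, 0, 2, 3] ^ 2) := by
    refine end_ext fun i => ?_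
    rw [Module.End.mul_apply, Module.End.mul_apply, ← toFn_lin lenT.1 lenT.2 triE_single (length_bas i.1),
      ← toFn_lin lenS.1 lenS.2 hS (length_lc _ _ lenT.2), ← toFn_lin lenS.1 lenS.2 hS (length_bas i.1),
      ← toFn_lin lenT.1 lenT.2 triE_single (length_lc _ _ lenS.2), commS]
  have hs3 : (cs.wordProd [1, 0, 2, 3] ^ 2) ^ 3 ^ 1 = 1 := rep_injective cs RGDTwD4.hp.isCartan (by
    rw [map_pow, map_one]
    exact pow_one_of lenS hS itS)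
  have hθ := theta_powR RGDTwD4.hp cs hε hw triE_pow
  have hreg := regT_one (k := k) cs Nat.prime_three h3 (by norm_num) hε hQ h3Q hw
  have hc : ∀ x, rep cs RGDTwD4.hp.isCartan (cs.wordProd [1, 0, 2, 3] ^ 2) (theta RGDTwD4.hp cs w tri x) =
      theta RGDTwD4.hp cs w tri (rep cs RGDTwD4.hp.isCartan (cs.wordProd [1, 0, 2, 3] ^ 2) x) := fun x => by
    rw [hw, hw, map_zsmul, ← Module.End.mul_apply, hcomm, Module.End.mul_apply]
  by_cases hsQ : (s : ℤ) ∣ Q ^ 2 + Q + 1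
  · obtain ⟨w', hw'⟩ := has_R cs (cs.wordProd [0, 1, 0, 2, 1, 3, 1, 0]) hε
    have hNs := S.nsys RGDTwD4.hp cs
    obtain ⟨n', hn'⟩ := exists_rp cs hNs w'
    obtain ⟨z, hz⟩ := lang_all RGDTwD4.hp cs S.pos S.frob S.fr 1 n'
    rw [map_one, one_mul] at hz
    have c0 : (fn 4 [-1, 2, -1, -1]).comp (RR cs (cs.wordProd [0, 1, 0, 2, 1, 3, 1, 0])) =
        fn 4 [0, 1, -2, 0] - fn 4 [-1, 2, -1, -1] := by
      refine LinearMap.pi_ext' fun i => LinearMap.ext_ring ?_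
      have h : ∀ i : Fin 4, fn 4 [-1, 2, -1, -1] (toFn 4 (m3.getD i [])) =
        fn 4 [0, 1, -2, 0] (Pi.single i 1) - fn 4 [-1, 2, -1, -1] (Pi.single i 1) := by decide +kernel
      exact (congrArg _ (RR3 cs i)).trans (h i)
    have c1 : (fn 4 [0, 1, -2, 0]).comp (RR cs (cs.wordProd [0, 1, 0, 2, 1, 3, 1, 0])) = - fn 4 [-1, 2, -1, -1] := by
      refine LinearMap.pi_ext' fun i => LinearMap.ext_ring ?_
      have h : ∀ i : Fin 4, fn 4 [0, 1, -2, 0] (toFn 4 (m3.getD i [])) = - fn 4 [-1, 2, -1, -1] (Pi.single i 1) := by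
        decide +kernel
      exact (congrArg _ (RR3 cs i)).trans (h i)
    obtain ⟨t, ht, h2, h4, h6⟩ := exists_torsionL RGDTwD4.hp invC_D4 two_ne_zero (θ := theta RGDTwD4.hp cs w' tri)
      (q := r ^ e) (cast_ne (k := k) hs hsr) (Q • fn 4 [-1, 2, -1, -1] + fn 4 [0, 1, -2, 0]).toAddMonoidHom fun x => by
        have e0 := LinearMap.congr_fun c0 x
        have e1 := LinearMap.congr_fun c1 x
        rw [LinearMap.comp_apply] at e0 e1
        rw [LinearMap.sub_apply] at e0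
        rw [LinearMap.neg_apply] at e1
        simp only [hw', LinearMap.toAddMonoidHom_coe, LinearMap.add_apply, LinearMap.smul_apply, map_zsmul, smul_eq_mul,
          e0, e1]
        refine Dvd.dvd.trans hsQ ⟨-ε * fn 4 [-1, 2, -1, -1] x, ?_⟩
        have h7 : ((r ^ e : ℕ) : ℤ) = ε * Q := by rcases hε with rfl | rfl <;> rw [hQ] <;> ring
        rw [h7]
        ring
    obtain ⟨y, hy, hy1⟩ := S.exists_of_torsion RGDTwD4.hp cs hn' hz hs hs.not_dvd_one ht h2 (j := 1) (by rwa [pow_one])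
    refine ⟨y, ⟨1, hy1⟩, dvd_cls RGDTwD4.hp cs S Nat.prime_three hs (by omega) (by norm_num) w (by norm_num) hθ hreg hc hs3
      (pow_one s ▸ hy1) (z0 := z) (hy ▸ ht) (lt_of_le_of_lt ?_ (count_ck RGDTwD4.hp cs lists_D4 count_D4 le_rfl))⟩
    refine le_trans (le_of_eq ?_) (Nat.zero_le _)
    rw [Set.ncard_eq_zero ((finite_roots RGDTwD4.hp cs).subset fun a ha => ha.1), Set.eq_empty_iff_forall_notMem]
    rintro a ⟨ha, h7⟩
    obtain ⟨v, hv, -, rfl⟩ := exists_rootL RGDTwD4.hp cs ha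
    rw [hy, h6] at h7
    have h8 := norm_D4 v hv
    simp only [LinearMap.toAddMonoidHom_coe, LinearMap.add_apply, LinearMap.smul_apply, smul_eq_mul] at h7
    generalize fn 4 [-1, 2, -1, -1] (toFn 4 v) = α at h7 h8
    generalize fn 4 [0, 1, -2, 0] (toFn 4 v) = β at h7 h8
    have h9 : (s : ℤ) ∣ 3 := Dvd.dvd.trans (by
      rw [show α ^ 2 - α * β + β ^ 2 = (Q * α + β) * (α * Q ^ 2 + β) - (Q ^ 2 + Q + 1) * (α ^ 2 * (Q - 1) + α * β) by ring]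
      exact (h7.mul_right _).sub (hsQ.mul_right _)) h8
    have := Nat.le_of_dvd three_pos (show s ∣ 3 by exact_mod_cast h9)
    omega
  · have : Fact s.Prime := ⟨hs⟩
    obtain ⟨y, hy⟩ := exists_prime_orderOf_dvd_card' s hd
    have hy1 : y ^ s = 1 := by rw [← hy, pow_orderOf_eq_one]
    refine ⟨y, ⟨1, by rwa [pow_one]⟩, by_contra fun h2 => ?_⟩
    obtain ⟨t, ht, ⟨c, h4⟩, h6, h7, h8⟩ := core RGDTwD4.hp cs S Nat.prime_three hs (by omega) (by norm_num) w (by norm_num) hθ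
      hreg hc hs3 hy1 h2
    have hmc := isMC_cX RGDTwD4.hp ht
    have h9 : t = 1 := by
      refine cX_inj RGDTwD4.hp ht (one_mem _) fun i => ?_
      have h9 : ∑ j ∈ Finset.range 3, (rep cs RGDTwD4.hp.isCartan (cs.wordProd [1, 0, 2, 3] ^ 2) ^ j)
          (∑ j ∈ Finset.range 3, (triE ^ j) (sr i)) = 0 := by
        rw [← aeval_three, ← aeval_three, show (sr i : Fin 4 → ℤ) = toFn 4 (bas 4 i) from (toFn_bas i).symm,
          ← toFn_polyL lenT.1 lenT.2 triE_single _ _ (length_bas i.1),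
          ← toFn_polyL lenS.1 lenS.2 hS _ _ (length_polyL lenT.2 _ _ (length_bas i.1)), cyS, toFn_replicate]
      have h10 := kill_sum RGDTwD4.hp ht ((Nat.coprime_primes Nat.prime_three hs).2 (by omega)) h7 h8 h9
      have h0 := hmc.ne_zero (sr i)
      rw [hmc.sum, Finset.prod_congr rfl fun j _ => cX_R RGDTwD4.hp cs hε hw hQ ht h6 j (sr i), Finset.prod_range_succ,
        Finset.prod_range_succ, Finset.prod_range_one, ← zpow_add₀ h0, ← zpow_add₀ h0] at h10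
      have h11 : cX RGDTwD4.hp t (sr i) ^ (s : ℤ) = 1 := by rw [zpow_natCast, ← cX_pow RGDTwD4.hp ht, h7, cX_one]
      obtain ⟨a, b, hab⟩ : IsCoprime (s : ℤ) (Q ^ 0 + Q ^ 1 + Q ^ 2) :=
        (Nat.prime_iff_prime_int.1 hs).irreducible.coprime_iff_not_dvd.2 fun h => hsQ (h.trans (dvd_of_eq (by ring)))
      rw [cX_one, ← zpow_one (cX RGDTwD4.hp t (sr i)), ← hab, zpow_add₀ h0, mul_comm a, mul_comm b, zpow_mul, zpow_mul,
        h10, h11, one_zpow, one_zpow, one_mul]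
    rw [h9, mul_one, eq_comm, mul_eq_right, ← map_one (H129.TriD4.embT f hq hF)] at h4
    rw [S.inj h4, orderOf_one] at hy
    omega

end Cfsg.Agent.PQ.SS.CX
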