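import Cfsg.Agent.PQ.SS.Defs87
import Cfsg.Agent.PQ.SS.Prin

/-!
# PQ, defining characteristic: the tool (helper74)

* `PD r q S` : a character of degree prime to `r` and divisible by `q`; `dfn_of`;
* `W r t n S` : a character of degree `d` prime to `r` with `n ∣ d * t * r ^ a`; `W.pd`, `w_down`;
* `exists_chr` : the character of a label in general position; `w_lbl`.
-/

set_option autoImplicit false
set_option linter.unusedSectionVars false

namespace Cfsg.Agent.PQ.SS.Df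

open Cfsg Cfsg.Agent.DL Cfsg.Agent.DL.PP Cfsg.Agent.DL.Uni Cfsg.Agent.DL.Asm Cfsg.Agent.KZ Cfsg.Agent.KZ.Lie
  Cfsg.Agent.Characters.Core Cfsg.Agent.Blocks.Basic

/-- a character of degree prime to `r` and divisible by `q` -/
def PD (r q : ℕ) (S : Type) [Group S] : Prop :=
  ∃ ψ : IrrCharacter S, ¬ r ∣ charDegree (ψ : S → ℂ) ∧ q ∣ charDegree (ψ : S → ℂ)

theorem dfn_of {K : ℕ → (S : Type) → [Group S] → Prop} (h1 : ∀ (r : ℕ) (S : Type) [Group S], K r S → IsLieTypeChar r S)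
    (h2 : ∀ (r q : ℕ) (S : Type) [Group S] [Finite S], IsSimpleGroup S → ¬ IsMulCommutative S → r.Prime → q.Prime →
      q ≠ r → K r S → q ∣ Nat.card S → PD r q S) : Dfn K := fun r q S _ _ hs hn hr hq hne hK hd =>
  let ⟨ψ, h3, h4⟩ := h2 r q S hs hn hr hq hne hK hd
  NW.of_left fun _ hM => ⟨ψ, prin_of_not_dvd (h1 r S hK) hM h3, h3, h4⟩

/-- a character of degree `d` prime to `r` with `n ∣ d * t * r ^ a` -/
def W (r t n : ℕ) (S : Type) [Group S] : Prop :=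
  ∃ ψ : IrrCharacter S, ¬ r ∣ charDegree (ψ : S → ℂ) ∧ ∃ a, n ∣ charDegree (ψ : S → ℂ) * t * r ^ a

variable {r q t t' n n' u : ℕ} {S S' : Type} [Group S] [Group S']

theorem PD.congr (h : PD r q S) (e : S' ≃* S) : PD r q S' :=
  let ⟨ψ, h⟩ := h
  ⟨_, (Res.pull_deg e.toMonoidHom e.surjective ψ).symm ▸ h⟩

theorem W.congr (h : W r t n S) (e : S' ≃* S) : W r t n S' :=
  let ⟨ψ, h⟩ := h
  ⟨_, (Res.pull_deg e.toMonoidHom e.surjective ψ).symm ▸ h⟩

theorem W.mono (h : W r t n S) (ht : t ∣ t') (hn : n' ∣ n) : W r t' n' S :=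
  let ⟨ψ, h1, a, h2⟩ := h
  ⟨ψ, h1, a, hn.trans (h2.trans (Nat.mul_dvd_mul_right (Nat.mul_dvd_mul_left _ ht) _))⟩

theorem W.pd (h : W r t n S) (hr : r.Prime) (hq : q.Prime) (hne : q ≠ r) (ht : t ≠ 0) (h1 : t * q ∣ n * u)
    (h2 : ¬ q ∣ u) : PD r q S := by
  obtain ⟨ψ, h3, a, h4⟩ := h
  refine ⟨ψ, h3, ?_⟩
  have h5 := h1.trans (Nat.mul_dvd_mul_right h4 u)
  rw [mul_comm _ t, mul_assoc, mul_assoc, Nat.mul_dvd_mul_iff_left (Nat.pos_of_ne_zero ht)] at h5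
  refine (hq.dvd_mul.1 h5).resolve_right fun h6 => (hq.dvd_mul.1 h6).elim (fun h7 => hne ?_) h2
  exact (Nat.prime_dvd_prime_iff_eq hq hr).1 (hq.dvd_of_dvd_pow h7)

theorem W.pd' (h : W r t n S) (hr : r.Prime) (hq : q.Prime) (hne : q ≠ r) (h1 : q ∣ n) (h2 : ¬ q ∣ t) : PD r q S :=
  h.pd hr hq hne (fun e => h2 (e ▸ dvd_zero q)) (mul_comm n t ▸ Nat.mul_dvd_mul_left t h1) h2

/-- descent to a section -/
theorem w_down {Γ : Type} [Group Γ] [Finite Γ] (H : Subgroup Γ) [H.Normal] (π : H →* S) (hs : Function.Surjective π)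
    (χ : IrrCharacter Γ) (hz : ∀ z, π z = 1 → (∀ g : Γ, g * z = z * g) ∧ (χ : Γ → ℂ) z = (χ : Γ → ℂ) 1) {a : ℕ}
    (h1 : ¬ r ∣ charDegree (χ : Γ → ℂ)) (h2 : charDegree (χ : Γ → ℂ) * t * r ^ a = Nat.card Γ) :
    W r t (Nat.card H) S := by
  have := Fintype.ofFinite H
  obtain ⟨θ, hθ⟩ := Res.exists_under H χ
  obtain ⟨ψ, rfl⟩ := DGen.exists_push π hs (θ := θ) fun z h => by
    have h3 : classInner (fun n : H => (χ : Γ → ℂ) n) θ.1 =
        (starRingEnd ℂ) (θ.1 z / θ.1 1) * classInner (fun n : H => (χ : Γ → ℂ) n) θ.1 := by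
      rw [Characters.Core.classInner_def, mul_left_comm, Finset.mul_sum _ _ ((starRingEnd ℂ) _), ← Equiv.sum_comp (Equiv.mulLeft z)]
      refine congrArg _ (Finset.sum_congr rfl fun g _ => ?_)
      rw [Equiv.coe_mulLeft, Subgroup.coe_mul, irr_cen χ (hz z h).1, (hz z h).2, div_self (irr_one_ne_zero χ.2), one_mul,
        irr_cen θ (fun g => Subtype.ext ((hz z h).1 g)), map_mul, mul_left_comm]
    have h4 := congrArg (starRingEnd ℂ) ((mul_eq_right₀ (Res.over_iff.1 hθ)).1 h3.symm)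
    rw [Complex.conj_conj, map_one] at h4
    exact (div_eq_one_iff_eq (irr_one_ne_zero θ.2)).1 h4
  obtain ⟨⟨j, h3⟩, i, h4⟩ := Res.over_dvd hθ
  rw [Res.pull_deg] at h3 h4
  have h5 := charDegree_pos ψ.2
  rw [h3, Nat.mul_div_cancel_left _ h5] at h4
  refine ⟨ψ, fun h => h1 (h3 ▸ h.mul_right j), a, i, Nat.eq_of_mul_eq_mul_left (Nat.pos_of_ne_zero fun e : j = 0 => ?_) ?_⟩
  · rw [e, zero_mul] at h4
    exact Subgroup.index_ne_zero_of_finite h4
  · rw [mul_left_comm j (Nat.card H), ← h4, H.card_mul_index, ← h2, h3]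
    ring

variable {p : ℕ} [Fact p.Prime] {k : Type} [Field k] [CharP k p] {Y : Type} [Group Y] {N : Type} [Fintype N]
  [DecidableEq N] {ρ : Y →* GL N k} {F : MulAut Y} {G : Subgroup Y} [IsAlgClosed k] {D : Datum p ρ F G}

/-- a virtual character of norm one -/
theorem w_of {T : Subgroup Y} (hT : T ∈ tori D) {θ : Y → ℂ} (hθ : IsLin (T ⊓ GF F G) θ)
    (h1 : ip (GF F G) (R D T θ) (R D T θ) = 1) (H : Subgroup ↥(GF F G)) [H.Normal] (π : H →* S)
    (hs : Function.Surjective π) (hz : ∀ z, π z = 1 → (∀ y ∈ G, y * z = z * y) ∧ θ z = 1) :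
    W p (Nat.card ↥(T ⊓ GF F G)) (Nat.card H) S := by
  have := finite_GF D
  obtain ⟨St, hSt⟩ := St.stD D
  have Sy := sys' D
  obtain ⟨d, hd⟩ := hSt.card_dvd Sy hT
  have h2 : (eps (GF F G) (R D) St T • R D T θ) 1 = d := by
    refine (hSt.eps_degree Sy hT hθ.one).trans ?_
    rw [hd, Nat.cast_mul, mul_div_cancel_left₀ _ (Sy.cardT_ne T)]
  have h3 := irr_of_norm_one (hSt.gen_eps_smul Sy hT (Sy.gen T hT θ hθ)) (by
    rw [ip_smul_left, ip_smul_right, hSt.conj_eps Sy hT, h1, mul_one, hSt.eps_mul_self Sy hT]) (by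
    rw [h2, Complex.natCast_re]; exact d.cast_nonneg)
  have h4 : charDegree (res (GF F G) (eps (GF F G) (R D) St T • R D T θ)) = d := deg_of_eq h2
  refine w_down H π hs ⟨_, h3⟩ (fun z h => ⟨fun g => Subtype.ext ((hz z h).1 g g.2.1), ?_⟩)
    (a := (Nat.card ↥(GF F G)).factorization p) (fun h => not_dvd_pc' (GF F G) (hd ▸ (h4 ▸ h : p ∣ d).mul_left _)) ?_
  · obtain ⟨y, hy, w, hw, rfl⟩ := exists_y hT
    have h5 := R_central (D := D) ⟨central_mem (D := D) z.1.2.1 (hz z h).1 hy, z.1.2⟩ (hz z h).1 hθ G.one_mem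
    rw [mul_one, (hz z h).2, one_mul] at h5
    exact congrArg (_ * ·) h5
  · exact (congrArg (· * _ * _) h4).trans (by rw [mul_comm d, ← hd, mul_comm]; exact pc_mul_pc' p _)

/-- labels in general position -/
theorem w_lbl (f : Fr D) {w : D.W} {c : Lbl D} (hc : Fx D w c) (hg : ∀ v ∈ Lie.CW D w, Rel D v c c → v = 1)
    (H : Subgroup ↥(GF F G)) [H.Normal] (π : H →* S) (hs : Function.Surjective π)
    (hz : ∀ z, π z = 1 → (∀ y ∈ G, y * z = z * y) ∧ th f w c z = 1) : W p (ordT D w) (Nat.card H) S := by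
  have := finite_GF D
  have := Fintype.ofFinite ↥(GF F G)
  rw [← card_Tw]
  refine w_of (Tw_mem w) (th_spec f hc).1 ?_ H π hs hz
  rw [ip_eq_classInner]
  refine (RW_ip f hc hc).trans ?_
  rw [Nat.card_eq_one_iff_unique.2 ⟨⟨fun a b => Subtype.ext ((hg _ a.2.1 a.2.2).trans (hg _ b.2.1 b.2.2).symm)⟩,
    ⟨1, tc_one w, rel_one D c⟩⟩, Nat.cast_one]

/-- squares of labels are trivial on central involutions -/
theorem th_sq (f : Fr D) {w : D.W} {c : Lbl D} (hc : Fx D w c) {z : ↥(GF F G)} (hz : ∀ y ∈ G, y * z = z * y)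
    (h2 : z ^ 2 = 1) : th f w (c * c) z = 1 := by
  have := finite_GF D
  have := Fintype.ofFinite ↥(GF F G)
  have h1 : (z : Y) ∈ Lie.Tw D w ⊓ GF F G := ⟨central_mem z.2.1 hz (yw_mem D w), z.2⟩
  rw [th_mul hc hc _ h1, ← (th_spec f hc).1.mul _ h1 _ h1, ← sq, ← Subgroup.coe_pow, h2]
  exact (th_spec f hc).1.one

/-- characters in general position, trivial kernel -/
theorem w_gen {T : Subgroup Y} (hT : T ∈ tori D) {θ : Y → ℂ} (hθ : IsLin (T ⊓ GF F G) θ) (h1 : GenPos (GF F G) T θ)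
    (ι : S →* ↥(GF F G)) (hi : Function.Injective ι) (hn : ι.range.Normal) :
    W p (Nat.card ↥(T ⊓ GF F G)) (Nat.card S) S := by
  rw [Nat.card_congr (MonoidHom.ofInjective hi).toEquiv]
  refine w_of hT hθ ((sys' D).ip_R_genPos hT hθ h1) ι.range (MonoidHom.ofInjective hi).symm.toMonoidHom
    (MonoidHom.ofInjective hi).symm.surjective fun z hz => ?_
  rw [(MonoidHom.ofInjective hi).symm.map_eq_one_iff.1 hz]
  exact ⟨fun y _ => (mul_one y).trans (one_mul y).symm, hθ.one⟩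

/-- the order of a torus of exponent `n` -/
theorem card_T_dvd (D : Datum p ρ F G) {n : ℕ} (hn : n ≠ 0) (h : ∀ t ∈ D.T ⊓ GF F G, t ^ n = 1) :
    Nat.card ↥(D.T ⊓ GF F G) ∣ n ^ Fintype.card D.R := by
  have : NeZero n := ⟨hn⟩
  have h1 : ∀ t : ↥(D.T ⊓ GF F G), ∃ c : D.R → rootsOfUnity n k, D.τ (fun i => c i) = t := fun t => by
    obtain ⟨c, hc⟩ := (D.mem_T _).1 t.2.1
    refine ⟨fun i => ⟨c i, congrFun (D.τ_inj (?_ : D.τ (c ^ n) = D.τ 1)) i⟩, hc⟩
    rw [map_pow, hc, map_one, h _ t.2]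
  let φ : (D.R → rootsOfUnity n k) →* Y :=
    D.τ.comp (MonoidHom.mk' (fun c i => c i) fun _ _ => rfl)
  have h2 : D.T ⊓ GF F G ≤ φ.range := fun t ht => h1 ⟨t, ht⟩
  refine (Subgroup.card_dvd_of_le h2).trans ((Subgroup.card_range_dvd φ).trans ?_)
  rw [Nat.card_fun, Nat.card_eq_fintype_card (α := D.R)]
  refine pow_dvd_pow_of_dvd ?_ _
  rw [← IsCyclic.exponent_eq_card]
  exact Monoid.exponent_dvd_of_forall_pow_eq_one fun x => Subtype.ext x.2

end Cfsg.Agent.PQ.SS.Df
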