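import Cfsg.Agent.PQ.SS.DfCore
import Cfsg.Agent.KZ.Dat.Spm

/-!
# PQ, defining characteristic: cyclic tori of the classical groups (helper74)

* `Kx Q σ s` : the labels of the torus with the matrix `Q • spm σ s`; `card_cyc`, `lab_mem`, `gen_cyc`;
* `PkA`, `PkB` : a torus with a label in general position; `pkA1`, `pkA2`, `pkB`; `w_spm`.
-/

set_option autoImplicit false
set_option linter.unusedSectionVars false

namespace Cfsg.Agent.PQ.SS.Df

open Cfsg Cfsg.Agent.DL Cfsg.Agent.DL.PP Cfsg.Agent.KZ.Lie Cfsg.Agent.KZ.Dat Matrix Equiv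

/-! ### numbers -/

section Num

variable {Q : ℤ} {L d : ℕ}

theorem abs_pow_le (hQ : 2 ≤ |Q|) (e : ℤˣ) {j : ℕ} (h : d ≤ j) : |Q ^ d - e| ≤ |Q| ^ j + 1 := by
  have h1 := abs_sub (Q ^ d) e
  rw [abs_pow, Int.isUnit_iff_abs_eq.1 e.isUnit] at h1
  exact h1.trans (add_le_add_left (pow_le_pow_right₀ (by omega) h) 1)

theorem le_abs_pow (L : ℕ) (e : ℤˣ) : |Q| ^ L - 1 ≤ |Q ^ L * e - 1| := by
  have h1 := abs_sub_abs_le_abs_sub (Q ^ L * e) 1
  rwa [abs_mul, abs_pow, Int.isUnit_iff_abs_eq.1 e.isUnit, mul_one, abs_one] at h1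

theorem eq_zero_of_pow (hQ : 2 ≤ |Q|) {e : ℤˣ} (h : Q ^ d - e = 0) : d = 0 ∧ e = 1 := by
  have h1 := sub_eq_zero.1 h
  have h2 : d = 0 := by
    by_contra h3
    have h4 := congrArg abs h1
    rw [abs_pow, Int.isUnit_iff_abs_eq.1 e.isUnit] at h4
    exact (one_lt_pow₀ (show 1 < |Q| by omega) h3).ne' h4
  exact ⟨h2, Units.ext (by rw [← h1, h2, pow_zero, Units.val_one])⟩

theorem pow_ne (hQ : 2 ≤ |Q|) (d : ℕ) (e : ℤˣ) : Q ^ (d + 1) * e - 1 ≠ 0 := fun h =>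
  absurd (eq_zero_of_pow (d := d + 1) (e := e) hQ (by
    linear_combination (e : ℤ) * h - Q ^ (d + 1) * Int.units_coe_mul_self e)).1 d.succ_ne_zero

theorem ntA1 (hQ : 2 ≤ |Q|) (hL : 3 ≤ L) (h : ¬ (Q = -2 ∧ L = 3)) (hd : d < L)
    (h1 : ∑ i ∈ Finset.range L, Q ^ i ∣ Q ^ d - 1) : d = 0 := by
  have key : ∀ d, d + 2 ≤ L → ∑ i ∈ Finset.range L, Q ^ i ∣ Q ^ d - 1 → d = 0 := fun d hd h1 => by
    by_contra h2
    obtain ⟨j, rfl⟩ : ∃ j, L = j + 2 := ⟨L - 2, by omega⟩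
    have h3 : _ ≤ |Q ^ d - 1| :=
      Int.le_of_dvd (abs_pos.2 fun e => h2 (eq_zero_of_pow (e := 1) hQ e).1) ((abs_dvd_abs _ _).2 h1)
    have h4 := abs_pow_le hQ 1 (show d ≤ j by omega)
    have h5 := le_abs_pow (Q := Q) (j + 2) 1
    have h6 := abs_pow_le hQ 1 (le_refl 1)
    rw [Units.val_one, mul_one, ← geom_sum_mul Q, abs_mul, pow_add] at h5
    rw [Units.val_one] at h4
    rw [Units.val_one, pow_one, pow_one] at h6
    have h7 := h5.trans (mul_le_mul (h3.trans h4) h6 (abs_nonneg _) (by positivity))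
    have h8 : |Q| ≤ |Q| ^ j := le_self_pow₀ (by omega) (by omega)
    have h9 : |Q| = 2 := by
      by_contra h9
      have : 3 ≤ |Q| := by omega
      nlinarith [mul_le_mul_of_nonneg_left (show 5 ≤ |Q| ^ 2 - |Q| - 1 by nlinarith) (show 0 ≤ |Q| ^ j by positivity)]
    rw [h9] at h7
    have h10 : j < 3 := (pow_lt_pow_iff_right₀ (a := (2 : ℤ)) one_lt_two).1 (by omega)
    have h11 : d ≤ j := by omega
    have h12 : 1 ≤ j := by omega
    rcases (abs_eq (by norm_num)).1 h9 with rfl | rfl <;> interval_cases j <;> interval_cases d <;>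
      simp_all [Finset.sum_range_succ]
  by_cases h2 : d + 1 = L
  · subst h2
    refine absurd (key 1 (by omega) ?_) one_ne_zero
    rw [show Q ^ 1 - 1 = (∑ i ∈ Finset.range (d + 1), Q ^ i) * (Q - 1) - Q * (Q ^ d - 1) by rw [geom_sum_mul]; ring]
    exact dvd_sub (dvd_mul_right _ _) (h1.mul_left _)
  · exact key d (by omega) h1

theorem ntA2 (hQ : 2 ≤ |Q|) (hL : 2 ≤ L) (h : ¬ (Q = -2 ∧ L = 2)) (hd : d < L) (h1 : Q ^ L - 1 ∣ Q ^ d - 1) : d = 0 := by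
  by_contra h2
  obtain ⟨j, rfl⟩ : ∃ j, L = j + 1 := ⟨L - 1, by omega⟩
  have h3 : _ ≤ |Q ^ d - 1| :=
    Int.le_of_dvd (abs_pos.2 fun e => h2 (eq_zero_of_pow (e := 1) hQ e).1) ((abs_dvd_abs _ _).2 h1)
  have h4 := abs_pow_le hQ 1 (show d ≤ j by omega)
  have h5 := le_abs_pow (Q := Q) (j + 1) 1
  rw [Units.val_one, mul_one, pow_succ] at h5
  rw [Units.val_one] at h4
  have h8 : |Q| ≤ |Q| ^ j := le_self_pow₀ (by omega) (by omega)
  have h9 : |Q| = 2 := by nlinarith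
  rw [h9] at h4 h5
  have h10 : j < 2 := (pow_lt_pow_iff_right₀ (a := (2 : ℤ)) one_lt_two).1 (by omega)
  obtain rfl : j = 1 := by omega
  obtain rfl : d = 1 := by omega
  rcases (abs_eq (by norm_num)).1 h9 with rfl | rfl <;> simp_all

theorem ntB (hQ : 2 ≤ Q) (hL : 2 ≤ L) {ε e : ℤˣ} (h : ε = 1 → L = 2 → 4 ≤ Q) (hd : d < L)
    (h1 : Q ^ L * ε - 1 ∣ 2 * (Q ^ d - e)) : d = 0 ∧ e = 1 := by
  have h0 : |Q| = Q := abs_of_nonneg (by omega)
  refine eq_zero_of_pow (h0.symm ▸ hQ) (by_contra fun h2 => ?_)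
  obtain ⟨j, rfl⟩ : ∃ j, L = j + 1 := ⟨L - 1, by omega⟩
  have h4 := abs_pow_le (h0.symm ▸ hQ) e (show d ≤ j by omega)
  rw [h0] at h4
  have h8 : Q ≤ Q ^ j := le_self_pow₀ (by omega) (by omega)
  have h5 : |Q ^ (j + 1) * ε - 1| = Q ^ j * Q - ε := by
    rw [← pow_succ, show Q ^ (j + 1) * ε - 1 = ε * (Q ^ (j + 1) - ε) by
      rw [mul_sub, Int.units_coe_mul_self, mul_comm], abs_mul, Int.isUnit_iff_abs_eq.1 ε.isUnit, one_mul, abs_of_nonneg]
    have : Q ≤ Q ^ (j + 1) := le_self_pow₀ (by omega) (by omega)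
    rcases Int.units_eq_one_or ε with rfl | rfl <;> simp <;> omega
  have h6 : j = 1 ∨ Q ^ 2 ≤ Q ^ j := (by omega : j = 1 ∨ 2 ≤ j).imp_right (pow_le_pow_right₀ (by omega))
  by_cases h7 : Q = 2
  · subst h7
    have h3 := Int.le_of_dvd (abs_pos.2 h2) ((abs_dvd_abs _ _).2 (IsCoprime.dvd_of_dvd_mul_left
      ⟨-1, 2 ^ j * ε, by ring⟩ h1))
    rw [h5] at h3
    rcases Int.units_eq_one_or ε with rfl | rfl
    · rcases h6 with rfl | h6
      · exact absurd (h rfl rfl) (by decide)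
      · rw [Units.val_one] at h3
        omega
    · rw [Units.val_neg, Units.val_one] at h3
      omega
  have h3 := Int.le_of_dvd (abs_pos.2 (mul_ne_zero two_ne_zero h2)) ((abs_dvd_abs _ _).2 h1)
  rw [h5, abs_mul, abs_two] at h3
  have h9 := mul_le_mul_of_nonneg_left (show 3 ≤ Q by omega) (show 0 ≤ Q ^ j by omega)
  rcases Int.units_eq_one_or ε with rfl | rfl
  · rw [Units.val_one] at h3
    rcases h6 with rfl | h6
    · have := mul_le_mul_of_nonneg_left (h rfl rfl) (show 0 ≤ Q ^ 1 by omega)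
      have := h rfl rfl
      omega
    · nlinarith
  · rw [Units.val_neg, Units.val_one] at h3
    omega

theorem pw_eq {N c : ℤ} (hQ : IsCoprime N Q) {e : ℤˣ} (hd : ∀ d ≤ L, N ∣ c * (Q ^ d - e) → d = 0 ∧ e = 1) {a b : ℕ}
    (ha : a ≤ L) (hb : b ≤ L) (h : N ∣ c * (Q ^ a * e - Q ^ b)) : a = b ∧ e = 1 := by
  rcases le_total a b with h1 | h1 <;> obtain ⟨d, rfl⟩ := Nat.exists_eq_add_of_le h1
  · refine (hd d (by omega) ((hQ.pow_right (n := a)).dvd_of_dvd_mul_left (dvd_neg.1 ?_))).imp_left fun h => by omega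
    exact (by ring : c * (Q ^ a * e - Q ^ (a + d)) = -(Q ^ a * (c * (Q ^ d - e)))) ▸ h
  · refine (hd d (by omega) ((hQ.pow_right (n := b)).dvd_of_dvd_mul_left (Units.dvd_mul_left.1
      (?_ : N ∣ (e : ℤ) * _)))).imp_left fun h => by omega
    convert h using 1
    linear_combination (-c * Q ^ b) * Int.units_coe_mul_self e

end Num

/-! ### labels -/

section Lab

variable {R : Type} [Fintype R] [DecidableEq R] {Q : ℤ}

theorem tr_iff {σ : Perm R} {s : R → ℤˣ} {c : R → ℂˣ} :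
    (∀ v, chr ((Q • spm σ s) *ᵥ v) c = chr v c) ↔ ∀ j, c (σ j) ^ (Q * s j) = c j := by
  have key : ∀ v, chr ((Q • spm σ s) *ᵥ v) c = chr v fun j => c (σ j) ^ (Q * s j) := fun v => by
    rw [chr_apply, chr_apply, ← Equiv.prod_comp σ]
    refine Finset.prod_congr rfl fun j _ => ?_
    rw [smul_mulVec, Pi.smul_apply, spm_mulVec, smul_eq_mul, ← mul_assoc, _root_.zpow_mul]
  refine ⟨fun h j => ?_, fun h v => by rw [key, funext h]⟩
  have := h (Pi.single j 1)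
  rwa [key, chr_single, chr_single] at this

/-- the labels of a torus -/
def Kx (Q : ℤ) (σ : Perm R) (s : R → ℤˣ) : Subgroup (R → ℂˣ) where
  carrier := {c | ∀ j, c (σ j) ^ (Q * s j) = c j}
  one_mem' _ := _root_.one_zpow _
  mul_mem' ha hb j := by rw [Pi.mul_apply, mul_zpow, ha, hb, Pi.mul_apply]
  inv_mem' ha j := by rw [Pi.inv_apply, _root_.inv_zpow, ha, Pi.inv_apply]

theorem card_two {A : Type*} [Group A] (φ ψ : A →* ℂˣ) (inj : ∀ x, φ x = 1 → ψ x = 1 → x = 1) {N N' : ℤ} (hN : N ≠ 0)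
    (hN' : N' ≠ 0) (h : ∀ x, φ x ^ N = 1) (h' : ∀ x, ψ x ^ N' = 1) : Nat.card A ∣ (N * N').natAbs := by
  have : NeZero N.natAbs := ⟨Int.natAbs_ne_zero.2 hN⟩
  have : NeZero N'.natAbs := ⟨Int.natAbs_ne_zero.2 hN'⟩
  rw [Int.natAbs_mul, ← Complex.card_rootsOfUnity N.natAbs, ← Complex.card_rootsOfUnity N'.natAbs, ← Nat.card_prod]
  exact Subgroup.card_dvd_of_injective ((φ.codRestrict _ fun x => pow_natAbs_eq_one.2 (h x)).prod
    (ψ.codRestrict _ fun x => pow_natAbs_eq_one.2 (h' x))) ((injective_iff_map_eq_one _).2 fun x hx =>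
      inj x (congrArg (·.1.1) hx) (congrArg (·.2.1) hx))

/-- type `A`: a torus of order dividing `t` with a label in general position -/
def PkA (R : Type) [Fintype R] [DecidableEq R] (Q t : ℤ) : Prop :=
  ∃ σ : Perm R, ∃ c ∈ Kx Q σ 1, Nat.card (Kx Q σ 1) ∣ t.natAbs ∧ Function.Injective c ∧ ∏ i, c i = 1

/-- types `B`, `C`, `D` -/
def PkB (R : Type) [Fintype R] [DecidableEq R] (Q : ℤ) (ev : Prop) (δ : ℤˣ) (t : ℤ) : Prop :=
  ∃ (σ : Perm R) (s : R → ℤˣ), ∃ c ∈ Kx Q σ s, ∏ i, s i = δ ∧ Nat.card (Kx Q σ s) ∣ t.natAbs ∧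
    ∀ (π : Perm R) (s' : R → ℤˣ), (ev → ∏ i, s' i = 1) → c * c ∈ Kx 1 π s' → π = 1 ∧ s' = 1

variable {n : ℕ} {l : Fin (n + 1)} {ε η : ℤˣ}

/-- the signs -/
def sgn (l : Fin (n + 1)) (ε η : ℤˣ) (i : Fin (n + 1)) : ℤˣ := if i < l then 1 else if i = l then ε else η

theorem sgn_one : sgn l 1 1 = 1 := funext fun i => by simp [sgn]

theorem last_of (hl : n ≤ l + 1) {i : Fin (n + 1)} (h : l < i) : i = Fin.last n := by
  have := i.2
  rw [Fin.lt_def] at h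
  exact Fin.ext (by rw [Fin.val_last]; omega)

theorem prod_sgn (hl : n ≤ l + 1) : ∏ i, sgn l ε η i = ε * if (l : ℕ) = n then 1 else η := by
  split_ifs with h
  · rw [mul_one, Finset.prod_eq_single (f := sgn l ε η) l (fun i _ hi => if_pos (lt_of_le_of_ne (by
      have := i.2; rw [Fin.le_def]; omega) hi)) (by simp)]
    simp [sgn]
  · have h1 : l < Fin.last n := Fin.lt_last_iff_ne_last.2 fun e => h (by rw [e, Fin.val_last])
    rw [Finset.prod_eq_mul (f := sgn l ε η) l (Fin.last n) h1.ne (fun i _ hi => if_pos (lt_of_le_of_ne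
      (not_lt.1 fun h2 => hi.2 (last_of hl h2)) hi.1)) (by simp) (by simp)]
    simp [sgn, h1.ne', h1.not_gt]

theorem cyc_pow {c : Fin (n + 1) → ℂˣ} (hc : c ∈ Kx Q l.cycleRange (sgn l ε η)) (d : ℕ) (i : Fin (n + 1))
    (h : i + d = l) : c i = c l ^ Q ^ d := by
  induction d generalizing i with
  | zero => rw [pow_zero, zpow_one, Fin.ext h]
  | succ d ih =>
    have h1 : i < l := by rw [Fin.lt_def]; omega
    rw [← hc i, ih _ (by rw [Fin.coe_cycleRange_of_lt h1]; omega), sgn, if_pos h1, Units.val_one, mul_one,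
      ← _root_.zpow_mul, pow_succ]

theorem card_cyc (hQ : 2 ≤ |Q|) (hl : n ≤ l + 1) : Nat.card (Kx Q l.cycleRange (sgn l ε η)) ∣
    ((Q ^ (l + 1 : ℕ) * ε - 1) * if (l : ℕ) = n then 1 else Q * η - 1).natAbs := by
  have h0 := pow_ne hQ
  have h1 : ∀ c : Kx Q l.cycleRange (sgn l ε η), c.1 l ^ (Q ^ (l + 1 : ℕ) * ε - 1) = 1 := fun c => by
    have h := c.2 l
    rw [Fin.cycleRange_self, cyc_pow c.2 l 0 (zero_add _), sgn, if_neg (lt_irrefl _), if_pos rfl, ← _root_.zpow_mul,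
      ← mul_assoc, ← pow_succ] at h
    rw [_root_.zpow_sub, h, zpow_one, mul_inv_cancel]
  have h2 : ∀ c : Kx Q l.cycleRange (sgn l ε η), c.1 l = 1 → ∀ i ≤ l, c.1 i = 1 := fun c h i hi => by
    rw [cyc_pow c.2 (l - i) i (Nat.add_sub_cancel' hi), h, _root_.one_zpow]
  split_ifs with h
  · exact card_two ((Pi.evalMonoidHom (fun _ => ℂˣ) l).comp (Subgroup.subtype _)) 1 (fun c h3 _ => Subtype.ext (funext fun i =>
      h2 c h3 i (by have := i.2; rw [Fin.le_def]; omega))) (h0 _ _) one_ne_zero h1 fun _ => zpow_one _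
  · have h3 : l < Fin.last n := Fin.lt_last_iff_ne_last.2 fun e => h (by rw [e, Fin.val_last])
    refine card_two ((Pi.evalMonoidHom (fun _ => ℂˣ) l).comp (Subgroup.subtype _))
      ((Pi.evalMonoidHom (fun _ => ℂˣ) (Fin.last n)).comp (Subgroup.subtype _)) (fun c h4 h5 => Subtype.ext (funext fun i =>
        (le_or_gt i l).elim (h2 c h4 i) fun h6 => (last_of hl h6).symm ▸ h5)) (h0 _ _) (pow_one Q ▸ h0 0 η) h1 fun c => ?_
    have h4 := c.2 (Fin.last n)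
    rw [Fin.cycleRange_of_gt h3, sgn, if_neg h3.not_gt, if_neg h3.ne'] at h4
    show c.1 (Fin.last n) ^ _ = 1
    rw [_root_.zpow_sub, h4, zpow_one, mul_inv_cancel]

/-- the exponents of the label -/
def xv (Q : ℤ) (l : Fin (n + 1)) (y : ℤ) (i : Fin (n + 1)) : ℤ := if i ≤ l then Q ^ (l - i : ℕ) else y

theorem lab_mem {ζ : ℂˣ} {y : ℤ} (h1 : ζ ^ (Q ^ (l + 1 : ℕ) * ε - 1) = 1) (h2 : ζ ^ (y * (Q * η - 1)) = 1) :
    (fun i => ζ ^ xv Q l y i) ∈ Kx Q l.cycleRange (sgn l ε η) := fun i => by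
  show (ζ ^ _) ^ _ = ζ ^ _
  rw [← _root_.zpow_mul, ← mul_inv_eq_one, ← _root_.zpow_sub, sgn]
  rcases lt_trichotomy i l with h | rfl | h
  · have h3 := Fin.coe_cycleRange_of_lt h
    have h4 := Fin.lt_def.1 h
    rw [if_pos h, xv, xv, if_pos h.le, if_pos (by rw [Fin.le_def]; omega), h3, Units.val_one, mul_one, ← pow_succ,
      show (l - (i + 1) + 1 : ℕ) = l - i by omega, sub_self, zpow_zero]
  · rw [if_neg (lt_irrefl _), if_pos rfl, Fin.cycleRange_self, xv, xv, if_pos le_rfl, if_pos (Fin.zero_le _), Nat.sub_self,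
      Fin.val_zero, Nat.sub_zero, ← mul_assoc, ← pow_succ, pow_zero, h1]
  · rw [if_neg h.not_gt, if_neg h.ne', Fin.cycleRange_of_gt h, xv, if_neg h.not_ge, ← mul_sub_one, h2]

theorem gen_cyc {N c y : ℤ} (hQ : IsCoprime N Q) (hl : n ≤ l + 1) {π : Perm (Fin (n + 1))} {s : Fin (n + 1) → ℤˣ}
    (hd : ∀ j, ∀ d ≤ (l : ℕ), N ∣ c * (Q ^ d - s j) → d = 0 ∧ s j = 1)
    (hy : (l : ℕ) ≠ n → ∀ j, ∀ d ≤ (l : ℕ), ¬ N ∣ c * (y * s j - Q ^ d))
    (h : ∀ j, N ∣ c * (xv Q l y (π j) * s j - xv Q l y j)) : π = 1 ∧ ∀ j ≤ l, s j = 1 := by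
  have key : ∀ j ≤ l, π j = j ∧ s j = 1 := fun j hj => by
    have h1 := h j
    rw [xv, xv, if_pos hj] at h1
    split_ifs at h1 with h2
    · refine (pw_eq hQ (hd j) (Nat.sub_le _ _) (Nat.sub_le _ _) h1).imp_left fun h3 => Fin.ext ?_
      rw [Fin.le_def] at hj h2
      omega
    · exact absurd h1 (hy (fun e => h2 (by have := (π j).2; rw [Fin.le_def]; omega)) j _ (Nat.sub_le _ _))
  refine ⟨Equiv.ext fun j => (le_or_gt j l).elim (fun h1 => (key j h1).1) fun h1 => ?_, fun j hj => (key j hj).2⟩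
  rcases le_or_gt (π j) l with h2 | h2
  · exact π.injective (key _ h2).1
  · exact (last_of hl h2).trans (last_of hl h1).symm

theorem exists_root {N : ℤ} (hN : N ≠ 0) : ∃ ζ : ℂˣ, ∀ a : ℤ, ζ ^ a = 1 ↔ N ∣ a := by
  have h := Complex.isPrimitiveRoot_exp _ (Int.natAbs_ne_zero.2 hN)
  exact ⟨_, fun a => ((h.isUnit_unit (Int.natAbs_ne_zero.2 hN)).zpow_eq_one_iff_dvd a).trans Int.natAbs_dvd⟩

theorem prod_zpow (ζ : ℂˣ) (x : R → ℤ) : ∏ i, ζ ^ x i = ζ ^ ∑ i, x i := by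
  induction (Finset.univ : Finset R) using Finset.cons_induction with
  | empty => simp
  | cons j t hj ih => rw [Finset.prod_cons, Finset.sum_cons, ih, _root_.zpow_add]

theorem pkA_of {N y : ℤ} (hQ : 2 ≤ |Q|) (hl : n ≤ l + 1) (h1 : N ∣ Q ^ (l + 1 : ℕ) - 1) (h2 : N ∣ y * (Q - 1))
    (h3 : N ∣ ∑ i, xv Q l y i) (hd : ∀ d ≤ (l : ℕ), N ∣ Q ^ d - 1 → d = 0)
    (hy : (l : ℕ) ≠ n → ∀ d ≤ (l : ℕ), ¬ N ∣ y - Q ^ d) :
    PkA (Fin (n + 1)) Q ((Q ^ (l + 1 : ℕ) - 1) * if (l : ℕ) = n then 1 else Q - 1) := by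
  obtain ⟨ζ, hζ⟩ := exists_root (N := N) fun e => Nat.succ_ne_zero _ (eq_zero_of_pow (e := 1) hQ (zero_dvd_iff.1 (e ▸ h1))).1
  have h4 := card_cyc (ε := 1) (η := 1) hQ hl
  have h5 := lab_mem (Q := Q) (l := l) (ε := 1) (η := 1) (y := y) ((hζ _).2 (by simpa using h1)) ((hζ _).2 (by simpa using h2))
  rw [sgn_one] at h4 h5
  refine ⟨_, _, h5, by simpa using h4, fun i j h => ?_, by rw [prod_zpow, hζ]; exact h3⟩
  have h6 := (hζ _).1 ((_root_.zpow_sub _ _ _).trans (mul_inv_eq_one.2 h))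
  obtain ⟨u, hu⟩ := h1
  have h7 := (gen_cyc (Q := Q) (N := N) (c := 1) (y := y) (π := swap i j) (s := 1) ⟨-u, Q ^ (l : ℕ), by
    linear_combination hu⟩ hl (fun _ d h7 h8 => ⟨hd d h7 (by simpa using h8), rfl⟩)
    (fun h7 _ d h8 h9 => hy h7 d h8 (by simpa using h9)) fun a => ?_).1
  · exact swap_eq_one_iff.1 h7
  · rw [one_mul, Pi.one_apply, Units.val_one, mul_one, swap_apply_def]
    split_ifs with h7 h8
    · exact h7 ▸ dvd_sub_comm.1 h6
    · exact h8 ▸ h6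
    · rw [sub_self]
      exact dvd_zero N

/-- the Coxeter torus -/
theorem pkA1 (hQ : 2 ≤ |Q|) (hn : 2 ≤ n) (h : ¬ (Q = -2 ∧ n = 2)) : PkA (Fin (n + 1)) Q (Q ^ (n + 1) - 1) := by
  have := pkA_of (l := Fin.last n) (y := 0) hQ (Nat.le_succ n) (Dvd.intro _ (geom_sum_mul Q (n + 1))) (by simp) ?_
    (fun d h1 => ntA1 hQ (by omega) (fun e => h ⟨e.1, by omega⟩) (Nat.lt_succ_of_le h1)) fun h => absurd rfl h
  · rwa [Fin.val_last, if_pos rfl, mul_one] at this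
  · rw [← Finset.sum_range_reflect, ← Fin.sum_univ_eq_sum_range fun i => Q ^ (n + 1 - 1 - i)]
    exact (Finset.sum_congr rfl fun i _ => (if_pos (Fin.le_last i)).symm).dvd

/-- the second torus -/
theorem pkA2 (hQ : 2 ≤ |Q|) (hn : 1 ≤ n) (h : ¬ (Q = -2 ∧ n = 1)) :
    PkA (Fin (n + 2)) Q ((Q ^ (n + 1) - 1) * (Q - 1)) := by
  have h0 : ∀ d ≤ n, Q ^ (n + 1) - 1 ∣ Q ^ d - 1 → d = 0 := fun d h1 =>
    ntA2 hQ (by omega) (fun e => h ⟨e.1, by omega⟩) (Nat.lt_succ_of_le h1)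
  have := pkA_of (l := (⟨n, by omega⟩ : Fin (n + 1 + 1))) (N := Q ^ (n + 1) - 1) (y := -∑ i ∈ Finset.range (n + 1), Q ^ i)
    hQ le_rfl dvd_rfl (by rw [neg_mul, geom_sum_mul]; exact dvd_rfl.neg_right) ?_ h0
    fun _ d _ h1 => one_ne_zero (h0 1 hn ?_)
  · rwa [if_neg (Nat.succ_ne_self n).symm] at this
  · rw [Fin.sum_univ_castSucc, xv, if_neg (show ¬ Fin.last (n + 1) ≤ ⟨n, _⟩ from Nat.not_succ_le_self n), ← Finset.sum_range_reflect,
      ← Fin.sum_univ_eq_sum_range fun i => Q ^ (n + 1 - 1 - i)]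
    refine Dvd.intro 0 ((mul_zero _).trans (add_neg_eq_zero.2 (Finset.sum_congr rfl fun i _ => ?_)).symm)
    exact if_pos (Fin.le_last i)
  · refine (IsCoprime.pow_right (n := d) ⟨-1, Q ^ n, by ring⟩).dvd_of_dvd_mul_left ?_
    have h2 := dvd_add (h1.mul_right (Q - 1)) dvd_rfl
    rw [sub_mul, neg_mul, geom_sum_mul] at h2
    exact dvd_neg.1 (by convert h2 using 1; ring)

theorem pkB (hQ : 2 ≤ Q) (hl : n ≤ l + 1) (h1 : 1 ≤ (l : ℕ)) (h : ε = 1 → (l : ℕ) = 1 → 4 ≤ Q) {ev : Prop}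
    (hev : (l : ℕ) ≠ n → ev) : PkB (Fin (n + 1)) Q ev (ε * if (l : ℕ) = n then 1 else η)
      ((Q ^ (l + 1 : ℕ) * ε - 1) * if (l : ℕ) = n then 1 else Q * η - 1) := by
  have hd : ∀ d ≤ (l : ℕ), ∀ e : ℤˣ, Q ^ (l + 1 : ℕ) * ε - 1 ∣ 2 * (Q ^ d - e) → d = 0 ∧ e = 1 := fun d h2 e =>
    ntB hQ (by omega) (fun a b => h a (by omega)) (Nat.lt_succ_of_le h2)
  obtain ⟨ζ, hζ⟩ := exists_root (N := Q ^ (l + 1 : ℕ) * ε - 1) (pow_ne (hQ.trans (le_abs_self Q)) _ _)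
  have hc : IsCoprime (Q ^ (l + 1 : ℕ) * ε - 1) Q := ⟨-1, Q ^ (l : ℕ) * ε, by ring⟩
  refine ⟨_, _, _, lab_mem (y := 0) ((hζ _).2 dvd_rfl) (by rw [zero_mul, zpow_zero]), prod_sgn hl,
    card_cyc (hQ.trans (le_abs_self Q)) hl, fun π s h2 h3 => ?_⟩
  have h4 := gen_cyc (c := 2) (y := 0) (π := π) (s := s) hc hl (fun j d h4 => hd d h4 _) (fun _ j d _ h4 => ?_) fun j => ?_
  · refine ⟨h4.1, funext fun j => (le_or_gt j l).elim (h4.2 j) fun h5 => ?_⟩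
    have h6 := h2 (hev fun e => by have := j.2; rw [Fin.lt_def] at h5; omega)
    rwa [Finset.prod_eq_single j (fun i _ hi => h4.2 i (not_lt.1 fun h7 =>
      hi ((last_of hl h7).trans (last_of hl h5).symm))) (by simp)] at h6
  · rw [zero_mul, zero_sub, mul_neg, dvd_neg] at h4
    exact absurd (hd 0 (Nat.zero_le _) (-1) (((hc.pow_right (n := d)).dvd_of_dvd_mul_right h4).mul_right _)).2 (by decide)
  · have h4 := h3 j
    simp only [Pi.mul_apply, ← _root_.zpow_add, ← _root_.zpow_mul] at h4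
    rw [← mul_inv_eq_one, ← _root_.zpow_sub, hζ] at h4
    convert h4 using 1
    ring

end Lab

/-! ### data -/

variable {p : ℕ} [Fact p.Prime] {k : Type} [Field k] [CharP k p] {Y : Type} [Group Y] {N : Type} [Fintype N]
  [DecidableEq N] {ρ : Y →* GL N k} {F : MulAut Y} {G : Subgroup Y} [IsAlgClosed k] {D : Datum p ρ F G}
  {S S' : Type} [Group S] [Group S'] {Q t : ℤ}

theorem fx_iff {w : D.W} {σ : Perm D.R} {s : D.R → ℤˣ} (hw : D.Wm w * D.Mx = Q • spm σ s) (c : Lbl D) :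
    Fx D w c ↔ c ∈ Kx Q σ s := by
  rw [Fx, hw]
  exact tr_iff

theorem w_spm (f : Fr D) {w : D.W} {σ : Perm D.R} {s : D.R → ℤˣ} (hw : D.Wm w * D.Mx = Q • spm σ s) {c : Lbl D}
    (hc : c ∈ Kx Q σ s) (hg : ∀ v, ∃ π s', D.Wm v = spm π s' ∧ (c ∈ Kx 1 π s' → π = 1 ∧ s' = 1))
    (H : Subgroup ↥(GF F G)) [H.Normal] (π : H →* S) (hs : Function.Surjective π)
    (hz : ∀ z, π z = 1 → (∀ y ∈ G, y * z = z * y) ∧ th f w c z = 1) : W p (Nat.card (Kx Q σ s)) (Nat.card H) S := by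
  rw [← Nat.card_congr (Equiv.subtypeEquivRight (fx_iff hw)), card_Fx]
  refine w_lbl f ((fx_iff hw c).2 hc) (fun v _ h => ?_) H π hs hz
  obtain ⟨π, s', h2, h3⟩ := hg v
  rw [PP.Rel, h2, ← one_smul ℤ (spm π s')] at h
  rw [(h3 (tr_iff.1 h)).1, (h3 (tr_iff.1 h)).2, spm_one, ← D.Wm_one] at h2
  exact D.Wm_injective h2

variable (F G S) in
/-- `S` is a quotient of a normal subgroup of `G ^ F` by central involutions -/
def Cz : Prop := ∃ (H : Subgroup ↥(GF F G)) (π : H →* S), H.Normal ∧ Function.Surjective π ∧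
  ∀ z, π z = 1 → (∀ y ∈ G, y * z = z * y) ∧ z ^ 2 = 1

theorem wB {ev : Prop} {δ : ℤˣ} (ex : ∀ σ s, ∏ i, s i = δ → ∃ w, D.Wm w * D.Mx = Q • spm σ s)
    (wm : ∀ v, ∃ π s, (ev → ∏ i, s i = 1) ∧ D.Wm v = spm π s) (cz : Cz F G S) (pk : PkB D.R Q ev δ t) :
    W p t.natAbs (Nat.card S) S := by
  obtain ⟨σ, s, c, h1, h2, h3, h4⟩ := pk
  obtain ⟨H, π, h5, h6, h7⟩ := cz
  obtain ⟨w, hw⟩ := ex σ s h2
  obtain ⟨f⟩ := nonempty_fr D
  refine (w_spm f hw (mul_mem h1 h1) (fun v => ?_) H π h6 fun z hz => ⟨(h7 z hz).1, th_sq f ((fx_iff hw c).2 h1)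
    (h7 z hz).1 (congrArg Subtype.val (h7 z hz).2)⟩).mono h3 (Subgroup.card_dvd_of_surjective π h6)
  obtain ⟨π, s', h8, h9⟩ := wm v
  exact ⟨π, s', h9, h4 π s' h8⟩

end Cfsg.Agent.PQ.SS.Df
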