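import Cfsg.Agent.H684.OQ.Main
import Cfsg.Agent.H264.CD
import Cfsg.Agent.ODD.PS.Dat

/-!
# PQ, principal series: the degree of the semisimple character of a weight (helper81)

* `An w x x'` : the number of `y` in the cell of `w` with `y⁻¹ x y ∈ x' U`; `An_one`, `An_mul`;
* `Dl` : a duality between weights and elements of `T`; `Dl.deg` : `χ 1 * |{y | y⁻¹ x y ∈ x U}| = |Y|`.
-/

set_option autoImplicit false
set_option linter.unusedSectionVars false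
set_option maxHeartbeats 400000

open Cfsg

namespace Cfsg.Agent.PQ.SS.Ps

open CoxeterSystem Cfsg.Agent.ChevalleyStructure.CoxeterGeom Cfsg.Agent.Tits.Roots Cfsg.Agent.Tits.Core
  Cfsg.Agent.Tits.Exchange Cfsg.Agent.Nodes.Reps Cfsg.Agent.Nodes.BNOf Cfsg.Agent.Nodes.StabComb
  Cfsg.Agent.Nodes.Bruhat Cfsg.Agent.Nodes.OppDec Cfsg.Agent.Nodes.LeviDec Cfsg.Agent.H684.OQ Cfsg.Agent.H381.OQ

variable {I W Y : Type} [Fintype I] [DecidableEq I] [Group W] [Finite W] [Group Y] [Finite Y]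
  {M : CoxeterMatrix I} {cs : CoxeterSystem M W} {A : I → I → ℤ} {h : IsCartan M A} {p : ℕ} {T : Subgroup Y}
  {n : I → Y} {X : (I → ℤ) → Subgroup Y}

/-- diagram automorphisms -/
theorem exists_aut (cs : CoxeterSystem M W) (σ : Equiv.Perm I) (hσ : ∀ i j, M (σ i) (σ j) = M i j) :
    ∃ e : W ≃* W, (∀ i, e (cs.simple i) = cs.simple (σ i)) ∧ ∀ w, cs.length (e w) = cs.length w := by
  have key : ∀ τ : Equiv.Perm I, (∀ i j, M (τ i) (τ j) = M i j) →
      ∃ f : W →* W, (∀ i, f (cs.simple i) = cs.simple (τ i)) ∧ ∀ w, cs.length (f w) ≤ cs.length w := fun τ hτ => by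
    have h1 : M.IsLiftable fun i => cs.simple (τ i) := fun i j => by
      rw [← hτ]
      exact cs.simple_mul_simple_pow _ _
    refine ⟨cs.lift ⟨_, h1⟩, fun i => cs.lift_apply_simple h1 i, fun w => ?_⟩
    obtain ⟨ω, h2, rfl⟩ := cs.exists_isReduced w
    have h3 : ∀ l : List I, cs.lift ⟨_, h1⟩ (cs.wordProd l) = cs.wordProd (l.map τ) := fun l => by
      induction l with
      | nil => simp
      | cons a l ih => rw [List.map_cons, cs.wordProd_cons, cs.wordProd_cons, map_mul, ih, cs.lift_apply_simple h1]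
    rw [h3, h2]
    exact (cs.length_wordProd_le _).trans (List.length_map _).le
  obtain ⟨f, f1, f2⟩ := key σ hσ
  obtain ⟨g, g1, g2⟩ := key σ⁻¹ fun i j => by simpa using (hσ (σ⁻¹ i) (σ⁻¹ j)).symm
  have h1 : g.comp f = MonoidHom.id W := cs.ext_simple fun i => by simp [f1, g1]
  have h2 : f.comp g = MonoidHom.id W := cs.ext_simple fun i => by simp [f1, g1]
  refine ⟨MonoidHom.toMulEquiv f g h1 h2, f1, fun w => le_antisymm (f2 w) ?_⟩
  have h3 := g2 (f w)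
  rwa [show g (f w) = w from DFunLike.congr_fun h1 w] at h3

variable (R : RGD cs h p T n X)

include R

/-- the number of elements of a cell which conjugate `x` into `x' U` -/
noncomputable def An (w : W) (x x' : Y) : ℕ :=
  Nat.card {y : Y // Cell R.nsys cs h X w y ∧ x'⁻¹ * (y⁻¹ * x * y) ∈ UU cs h X}

theorem conj_U {b u : Y} (hb : b ∈ RGD.B cs h T X) (hu : u ∈ UU cs h X) : b⁻¹ * u * b ∈ UU cs h X := by
  simpa using (Subgroup.mem_normalizer_iff.1 (R.B_le_normalizer_U (inv_mem hb)) u).1 hu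

theorem An_one (hc : ∀ a ∈ T, ∀ b ∈ T, a * b = b * a) {x x' : Y} (hx : x ∈ T) (hx' : x' ∈ T) [Decidable (x = x')] :
    An R 1 x x' = if x = x' then Nat.card (RGD.B cs h T X) else 0 := by
  have key : ∀ y ∈ RGD.B cs h T X, x⁻¹ * (y⁻¹ * x * y) ∈ UU cs h X := fun y hy => by
    obtain ⟨t, ht, u, hu, rfl⟩ := R.mem_B.1 hy
    have e : x⁻¹ * ((t * u)⁻¹ * x * (t * u)) = x⁻¹ * u⁻¹ * x * u := by
      have : t⁻¹ * x * t = x := by rw [mul_assoc, hc x hx t ht, inv_mul_cancel_left]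
      calc _ = x⁻¹ * u⁻¹ * (t⁻¹ * x * t) * u := by group
        _ = _ := by rw [this]
    rw [e]
    exact mul_mem (conj_U R (RGD.T_le_B hx) (inv_mem hu)) hu
  split_ifs with e
  · subst e
    exact Nat.card_congr (Equiv.subtypeEquivRight fun y =>
      ⟨fun hy => hy.1.mem_of_one, fun hy => ⟨cell_one_of_mem hy, key y hy⟩⟩)
  · refine Nat.card_eq_zero.2 (.inl ⟨fun y => e ?_⟩)
    have h1 : x'⁻¹ * x ∈ UU cs h X ⊓ T := by
      refine Subgroup.mem_inf.2 ⟨?_, mul_mem (inv_mem hx') hx⟩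
      have := mul_mem y.2.2 (inv_mem (key y y.2.1.mem_of_one))
      rwa [show x'⁻¹ * ((y : Y)⁻¹ * x * y) * (x⁻¹ * ((y : Y)⁻¹ * x * y))⁻¹ = x'⁻¹ * x by group] at this
    rw [U_inf_T R, Subgroup.mem_bot] at h1
    exact (inv_mul_eq_one.1 h1).symm

section

variable {i : I} {w : W} (hl : cs.length w < cs.length (cs.simple i * w))
include hl

theorem len : cs.length (cs.simple i * w) = cs.length (cs.simple i) + cs.length w := by
  have h1 := cs.length_mul_le (cs.simple i) w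
  rw [cs.length_simple] at h1 ⊢
  omega

theorem eq_one_of_cell {u c : Y} (hu : u ∈ X (sr i)) (hc : Cell R.nsys cs h X w c)
    (hc' : Cell R.nsys cs h X w ((n i)⁻¹ * u * n i * c)) : u = 1 := by
  by_contra h0
  have hz : (n i)⁻¹ * u * n i ∈ X (-sr i) := by
    have := R.conj_mem' (rp_simple cs R.nsys i) (isRoot_sr cs h i) hu
    rwa [cs.inv_simple, rep_simple_sr] at this
  have h1 : (n i)⁻¹ * u * n i ≠ 1 := fun e => h0 (by
    rw [show u = n i * ((n i)⁻¹ * u * n i) * (n i)⁻¹ by group, e]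
    group)
  have h3 := Cell.unique R (Cell.mul_of_length R (len R hl) (cell_neg R i hz h1) hc) hc'
  rw [h3] at hl
  exact lt_irrefl _ hl

omit hl in
theorem cell_dec {g : Y} (hg : Cell R.nsys cs h X (cs.simple i * w) g) :
    ∃ u ∈ X (sr i), Cell R.nsys cs h X w ((n i)⁻¹ * u⁻¹ * g) := by
  obtain ⟨b₁, hb₁, k, hk, b₂, hb₂, rfl⟩ := hg
  have hk' : Rp cs R.nsys w ((n i)⁻¹ * k) := by
    have := (rp_simple cs R.nsys i).inv.mul hk
    rwa [cs.inv_simple, ← mul_assoc, cs.simple_mul_simple_self, one_mul] at this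
  obtain ⟨v, hv, x, hx, t, ht, rfl⟩ := R.mem_B' i hb₁
  have hv' : x⁻¹ * v * x ∈ RGD.Sup X (RGD.PosNe cs h i) := by
    have := (Subgroup.mem_normalizer_iff.1 (inv_mem (R.X_le_normalizer_V i hx)) v).1 hv
    rwa [inv_inv] at this
  have hv'' : (n i)⁻¹ * (x⁻¹ * v * x) * n i ∈ RGD.Sup X (RGD.PosNe cs h i) := by
    rw [← R.cj_n_V i, mem_cj] at hv'
    exact hv'
  have ht' : (n i)⁻¹ * t * n i ∈ T := by
    have := (Subgroup.mem_normalizer_iff.1 (inv_mem (R.nsys.norm i)) t).1 ht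
    rwa [inv_inv] at this
  exact ⟨x, hx, _, mul_mem (RGD.U_le_B (V_le_U i hv'')) (RGD.T_le_B ht'), _, hk', b₂, hb₂, by group⟩

theorem An_mul {x x' : Y} (hx : x ∈ T) (hx' : x' ∈ T) :
    An R (cs.simple i * w) x x' =
      Nat.card ↥(X (sr i) ⊓ Subgroup.centralizer {x}) * An R w ((n i)⁻¹ * x * n i) x' := by
  rw [An, An, ← Nat.card_prod]
  symm
  have hxn : ∀ u ∈ X (sr i), Cell R.nsys cs h X (cs.simple i) (u * n i) := fun u hu =>
    ⟨u, RGD.X_le_B (isRoot_sr cs h i) (sr_nonneg i) hu, n i, rp_simple cs R.nsys i, 1, one_mem _, by group⟩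
  refine Nat.card_eq_of_bijective (fun q => ⟨(q.1 : Y) * n i * q.2,
    Cell.mul_of_length R (len R hl) (hxn q.1 q.1.2.1) q.2.2.1, ?_⟩) ⟨?_, ?_⟩
  · have h1 : (q.1 : Y)⁻¹ * x * q.1 = x := by
      rw [mul_assoc, ← Subgroup.mem_centralizer_singleton_iff.1 q.1.2.2, inv_mul_cancel_left]
    rw [show ((q.1 : Y) * n i * q.2)⁻¹ * x * (q.1 * n i * q.2) =
      (q.2 : Y)⁻¹ * ((n i)⁻¹ * ((q.1 : Y)⁻¹ * x * q.1) * n i) * q.2 by group, h1]
    exact q.2.2.2
  · rintro ⟨u, c⟩ ⟨u', c'⟩ he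
    have e : (u : Y) * n i * c = u' * n i * c' := congrArg Subtype.val he
    have h1 := eq_one_of_cell R hl (mul_mem (inv_mem u'.2.1) u.2.1) c.2.1 (by
      rw [show (n i)⁻¹ * ((u' : Y)⁻¹ * u) * n i * c = (n i)⁻¹ * (u' : Y)⁻¹ * (u * n i * c) by group, e,
        show (n i)⁻¹ * (u' : Y)⁻¹ * (u' * n i * c') = c' by group]
      exact c'.2.1)
    have h3 : u = u' := Subtype.ext (inv_mul_eq_one.1 h1).symm
    subst h3
    exact Prod.ext rfl (Subtype.ext (mul_left_cancel e))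
  · rintro ⟨g, hg, hg'⟩
    obtain ⟨u, hu, hc⟩ := cell_dec R hg
    have ht' : (n i)⁻¹ * x * n i ∈ T := by
      have := (Subgroup.mem_normalizer_iff.1 (inv_mem (R.nsys.norm i)) x).1 hx
      rwa [inv_inv] at this
    have h1 : u⁻¹ * (x * u * x⁻¹) ∈ X (sr i) := by
      refine mul_mem (inv_mem hu) ?_
      have := R.tor _ (isRoot_sr cs h i) x hx
      rw [← this, mem_cj]
      simpa [mul_assoc] using hu
    have h2 := eq_one_of_cell R hl h1 (hc.mul_left (RGD.T_le_B ht')) (by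
      have := hc.mul_right (mul_mem (RGD.T_le_B hx') (RGD.U_le_B hg'))
      rwa [show (n i)⁻¹ * u⁻¹ * g * (x' * (x'⁻¹ * (g⁻¹ * x * g))) =
        (n i)⁻¹ * (u⁻¹ * (x * u * x⁻¹)) * n i * ((n i)⁻¹ * x * n i * ((n i)⁻¹ * u⁻¹ * g)) by group] at this)
    have h3 : u * x = x * u := by
      rw [inv_mul_eq_one] at h2
      rw [← mul_inv_eq_iff_eq_mul.1 h2.symm]
    refine ⟨⟨⟨u, hu, Subgroup.mem_centralizer_singleton_iff.2 h3⟩, ⟨_, hc, ?_⟩⟩, Subtype.ext ?_⟩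
    · rwa [show ((n i)⁻¹ * u⁻¹ * g)⁻¹ * ((n i)⁻¹ * x * n i) * ((n i)⁻¹ * u⁻¹ * g) = g⁻¹ * (u * x) * u⁻¹ * g by group, h3,
        show g⁻¹ * (x * u) * u⁻¹ * g = g⁻¹ * x * g by group]
    · show u * n i * ((n i)⁻¹ * u⁻¹ * g) = g
      group

end

theorem sum_An [Fintype W] (hG : GG cs h T X = ⊤) (x x' : Y) :
    ∑ w, An R w x x' = Nat.card {y : Y // x'⁻¹ * (y⁻¹ * x * y) ∈ UU cs h X} := by
  have hc : ∀ y : Y, ∃ w, Cell R.nsys cs h X w y := fun y => (mem_GG R).1 (hG ▸ Subgroup.mem_top y)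
  choose c hc using hc
  simp only [An]
  rw [← Nat.card_sigma]
  refine Nat.card_congr ⟨fun z => ⟨z.2.1, z.2.2.2⟩, fun y => ⟨c y, y, hc y, y.2⟩, fun z => ?_, fun y => rfl⟩
  obtain ⟨w, y, hy, hy'⟩ := z
  obtain rfl : c y = w := Cell.unique R (hc y) hy
  rfl

/-- **a duality** between weights and elements of the torus -/
structure Dl (σ : Equiv.Perm I) (r : (↥T →* ℂˣ) → Y → Prop) : Prop where
  cox : ∀ i j, M (σ i) (σ j) = M i j
  mem : ∀ {ν x}, r ν x → x ∈ T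
  step : ∀ {ν x} (i : I), r ν x → r (cjl (rp_simple cs R.nsys i).mem_normalizer ν) ((n (σ i))⁻¹ * x * n (σ i))
  inj : ∀ {ν x ν' x'}, r ν x → r ν' x' → (ν = ν' ↔ x = x')
  node : ∀ {ν x} (i : I), r ν x →
    (cjl (rp_simple cs R.nsys i).mem_normalizer ν = ν ∧ (∀ u ∈ X (sr i), u ≠ 1 → ν ⟨tx R i u, tx_mem R i u⟩ = 1) ∧
      Nat.card ↥(X (sr (σ i)) ⊓ Subgroup.centralizer {x}) = Nat.card (X (sr i))) ∨
    (cjl (rp_simple cs R.nsys i).mem_normalizer ν ≠ ν ∧ Nat.card ↥(X (sr (σ i)) ⊓ Subgroup.centralizer {x}) = 1)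

theorem cjl_mul {g k : Y} (hg : g ∈ Subgroup.normalizer (T : Set Y)) (hk : k ∈ Subgroup.normalizer (T : Set Y))
    (ν : ↥T →* ℂˣ) : cjl (mul_mem hg hk) ν = cjl hg (cjl hk ν) :=
  MonoidHom.ext fun t => congrArg ν (Subtype.ext (by
    show (g * k)⁻¹ * t * (g * k) = k⁻¹ * (g⁻¹ * t * g) * k
    group))

theorem cjl_T (hc : ∀ a ∈ T, ∀ b ∈ T, a * b = b * a) {g : Y} (hg : g ∈ T) (hg' : g ∈ Subgroup.normalizer (T : Set Y))
    (ν : ↥T →* ℂˣ) : cjl hg' ν = ν :=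
  MonoidHom.ext fun t => congrArg ν (Subtype.ext (by
    show g⁻¹ * t * g = t
    rw [mul_assoc, hc _ t.2 g hg, inv_mul_cancel_left]))

theorem fix_iff (hc : ∀ a ∈ T, ∀ b ∈ T, a * b = b * a) {w : W} {g : Y} (hg : Rp cs R.nsys w g) (ν : ↥T →* ℂˣ) :
    cjl hg.mem_normalizer ν = ν ↔ ∀ t (ht : t ∈ T) (ht' : g * t * g⁻¹ ∈ T), ν ⟨g * t * g⁻¹, ht'⟩ = ν ⟨t, ht⟩ := by
  refine ⟨fun e t ht ht' => ?_, fun e => MonoidHom.ext fun t => ?_⟩
  · rw [← DFunLike.congr_fun e ⟨_, ht'⟩]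
    refine congrArg ν (Subtype.ext ?_)
    show g⁻¹ * (g * t * g⁻¹) * g = t
    group
  · have h1 : g * (g⁻¹ * t * g) * g⁻¹ = t := by group
    refine (e _ (ODD.PS.conj_T' R hg t.2) (h1.symm ▸ t.2)).symm.trans (congrArg ν (Subtype.ext h1))

variable {R} {σ : Equiv.Perm I} {r : (↥T →* ℂˣ) → Y → Prop} (D : Dl R σ r) (hc : ∀ a ∈ T, ∀ b ∈ T, a * b = b * a)
  {E : Type} [AddCommGroup E] [Module ℂ E] {S S' : Y → Module.End ℂ E} {v : (↥T →* ℂˣ) → E} (H : HRep R S)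
  (V : WSys T S v)
  (hfix : ∀ i ν, cjl (rp_simple cs R.nsys i).mem_normalizer ν = ν →
    (∀ u ∈ X (sr i), u ≠ 1 → ν ⟨tx R i u, tx_mem R i u⟩ = 1) →
    ∃ α : ℂ, S (n i) (v ν) = α • v ν ∧ (1 + zet R i ν * α) * (Nat.card (X (sr i)) : ℂ) = 1)

include D hc H V hfix

theorem Dl.kappa {ν : ↥T →* ℂˣ} {x : Y} (hr : r ν x) (i : I) : ∃ k : ℂ, S (n i)⁻¹ (S (n i) (v ν)) = k • v ν ∧
    (Nat.card (X (sr i)) : ℂ) * k * Nat.card ↥(X (sr (σ i)) ⊓ Subgroup.centralizer {x}) = 1 := by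
  have hni := rp_simple cs R.nsys i
  have hq := card_ne (X (sr i))
  have h1 := H.sq R i (V.wt ν)
  rcases D.node i hr with ⟨h2, h3, h4⟩ | ⟨h2, h4⟩
  · obtain ⟨α, ha, hm⟩ := hfix i ν h2 h3
    refine ⟨(Nat.card (X (sr i)) : ℂ)⁻¹ * (1 + zet R i ν * α), H.inv_apply R i (V.wt ν) _ ?_, ?_⟩
    · rw [h1, h2, ha, smul_smul, show v ν + (zet R i ν * α) • v ν = (1 + zet R i ν * α) • v ν by rw [add_smul, one_smul],
        smul_smul]
      congr 1
      ring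
    · rw [h4, ← mul_assoc, mul_inv_cancel₀ hq, one_mul, hm]
  · refine ⟨(Nat.card (X (sr i)) : ℂ)⁻¹, H.inv_apply R i (V.wt ν) _ ?_, by rw [h4, mul_inv_cancel₀ hq, Nat.cast_one, one_mul]⟩
    have h5 : zet R i (cjl hni.mem_normalizer ν) = 0 := by
      by_contra h6
      have h7 := ODD.PS.cjl_of_zet R hc h6
      rw [← cjl_mul R, cjl_T R hc (R.sq_mem_T i)] at h7
      exact h2 h7.symm
    rw [h1, h5, zero_smul, add_zero]

open Classical in
theorem Dl.cell (H' : HRep R S') (hT : ∀ t ∈ T, S' t = S t)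
    (hd : ∀ i, IsUnit (S (n i)⁻¹ * S (n i)) ∧ S' (n i)⁻¹ * S' (n i) =
      ((Nat.card (X (sr i)) : ℂ)⁻¹ * (Nat.card (X (sr i)) : ℂ)⁻¹) • Ring.inverse (S (n i)⁻¹ * S (n i)))
    {e : W ≃* W} (he : ∀ i, e (cs.simple i) = cs.simple (σ i)) (hel : ∀ w, cs.length (e w) = cs.length w) (w : W) :
    ∀ (g : Y) (hg : Rp cs R.nsys w g) (ν : ↥T →* ℂˣ) (x : Y), r ν x →
      ∃ m : ℕ, qc R w • S' g⁻¹ (S' g (v ν)) = (m : ℂ) • v ν ∧ ∀ ν' x', r ν' x' →
        An R (e w)⁻¹ x x' = if cjl hg.mem_normalizer ν = ν' then Nat.card (RGD.B cs h T X) * m else 0 := by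
  classical
  induction hl : cs.length w generalizing w with
  | zero =>
    intro g hg nu x hr
    obtain rfl : w = 1 := cs.length_eq_zero_iff.1 hl
    have hg1 := hg.mem_of_one
    refine ⟨1, ?_, fun ν' x' hr' => ?_⟩
    · rw [qc_one, one_smul, hT _ hg1, hT _ (inv_mem hg1), V.wt nu g hg1, map_smul, V.wt nu _ (inv_mem hg1), smul_smul,
        Nat.cast_one, one_smul, show (⟨g⁻¹, inv_mem hg1⟩ : ↥T) = (⟨g, hg1⟩ : ↥T)⁻¹ from rfl, map_inv, Units.mul_inv,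
        one_smul]
    · rw [map_one, inv_one, An_one R hc (D.mem hr) (D.mem hr'), cjl_T R hc hg1, mul_one]
      exact if_congr (D.inj hr hr').symm rfl rfl
  | succ N ih =>
    intro g hg nu x hr
    obtain ⟨i, hi⟩ := cs.exists_rightDescent_of_ne_one (w := w) (fun h1 => by
      rw [h1, cs.length_one] at hl
      exact absurd hl (Nat.succ_ne_zero N).symm)
    have hi' := cs.isRightDescent_iff.1 hi
    have hni := rp_simple cs R.nsys i
    obtain ⟨w', rfl⟩ : ∃ w', w = w' * cs.simple i :=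
      ⟨w * cs.simple i, by rw [mul_assoc, cs.simple_mul_simple_self, mul_one]⟩
    rw [mul_assoc, cs.simple_mul_simple_self, mul_one] at hi'
    obtain ⟨g', rfl⟩ : ∃ g', g = g' * n i := ⟨g * (n i)⁻¹, (inv_mul_cancel_right _ _).symm⟩
    have hg' : Rp cs R.nsys w' g' := by
      have := hg.mul hni.inv
      rwa [mul_inv_cancel_right, mul_inv_cancel_right] at this
    have hlen : cs.length (w' * cs.simple i) = cs.length w' + cs.length (cs.simple i) := by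
      rw [cs.length_simple]; omega
    have e2 : S' (g' * n i)⁻¹ = S' (n i)⁻¹ * S' g'⁻¹ := by
      rw [← H'.mul hni.inv hg'.inv (by
        rw [← mul_inv_rev, cs.length_inv, cs.length_inv, cs.length_inv, hlen, add_comm]), mul_inv_rev]
    obtain ⟨d, hdv⟩ := V.span (cjl hni.mem_normalizer nu) (S' (n i) (v nu)) (fun t ht => by
      rw [← hT t ht]
      exact H'.weight R hni (fun t ht => by rw [hT t ht]; exact V.wt nu t ht) ht)
    obtain ⟨m', hm', hA⟩ := ih w' (by omega) _ hg' _ _ (D.step i hr)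
    obtain ⟨k, hk, hkm⟩ := D.kappa hc H V hfix hr i
    have hk0 : k ≠ 0 := by
      rintro rfl
      rw [mul_zero, zero_mul] at hkm
      exact zero_ne_one hkm
    have h5 : S' (n i)⁻¹ (S' (n i) (v nu)) =
        ((Nat.card (X (sr i)) : ℂ)⁻¹ * (Nat.card (X (sr i)) : ℂ)⁻¹ * k⁻¹) • v nu := by
      rw [← Module.End.mul_apply, (hd i).2, LinearMap.smul_apply, inverse_apply (hd i).1 hk0 hk, smul_smul]
    have h6 : qc R w' • S' g'⁻¹ (S' g' (S' (n i) (v nu))) = (m' : ℂ) • S' (n i) (v nu) := by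
      rw [hdv, map_smul, map_smul, smul_comm, hm', smul_comm]
    refine ⟨m' * Nat.card ↥(X (sr (σ i)) ⊓ Subgroup.centralizer {x}), ?_, fun ν' x' hr' => ?_⟩
    · rw [H'.mul hg' hni hlen, e2, qc_mul R hlen, Module.End.mul_apply, Module.End.mul_apply, mul_comm, ← smul_smul,
        ← map_smul, h6, map_smul, h5, qc_simple, smul_smul, smul_smul, Nat.cast_mul,
        eq_inv_of_mul_eq_one_right hkm]
      congr 1
      have hq0 := card_ne (X (sr i))
      field_simp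
    · rw [map_mul, he, mul_inv_rev, cs.inv_simple, An_mul R ?_ (D.mem hr) (D.mem hr'), hA ν' x' hr',
        ← cjl_mul R hg'.mem_normalizer hni.mem_normalizer]
      · split_ifs
        · ring
        · rfl
      · rw [← cs.inv_simple, ← mul_inv_rev, cs.length_inv, cs.length_inv, ← he, ← map_mul, hel, hel]
        omega

omit H V hfix in
/-- **the degree** -/
theorem Dl.deg [Fact p.Prime] [Nonempty I] (hG : GG cs h T X = ⊤) {lam : ↥T →* ℂˣ} {x : Y} (hr : r lam x) :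
    ∃ χ : Y → ℂ, IsIrrCharacter Y χ ∧ mB R lam χ = 1 ∧
      charDegree χ * Nat.card {y : Y // x⁻¹ * (y⁻¹ * x * y) ∈ UU cs h X} = Nat.card Y := by
  classical
  let _ := Fintype.ofFinite W
  let _ := Fintype.ofFinite Y
  let _ : Fintype ↥(RGD.B cs h T X) := Fintype.ofFinite _
  obtain ⟨n₀, hn₀⟩ := exists_rp cs R.nsys (w0 cs)
  obtain ⟨i₀⟩ := ‹Nonempty I›
  obtain ⟨f, hf⟩ : ∃ f : ↥(X (sr i₀)) →* ℂˣ, f ≠ 1 := by
    obtain ⟨u, hu, hu1⟩ := exists_ne_one R i₀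
    have : Nontrivial ↥(X (sr i₀)) := ⟨⟨⟨u, hu⟩, 1, fun h2 => hu1 (congrArg Subtype.val h2)⟩⟩
    exact exists_lin (R.pgrp' (isRoot_sr cs h i₀))
  obtain ⟨psi, hpsi, -⟩ := exists_psi R i₀ f hf
  obtain ⟨H', hT, -, hd⟩ := H40.OQ.dual R hc (hrep_SE R psi)
  have V : WSys T (SE psi) fun nu => wE R psi nu n₀ := ⟨fun nu t ht => SE_wE R psi nu n₀ ht,
    fun nu a ha => SE_span R hG hpsi nu hn₀ a ha, fun nu => wE_ne R psi nu hn₀⟩
  obtain ⟨e, he, hel⟩ := exists_aut cs σ D.cox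
  have hcell := D.cell hc (hrep_SE R psi) V (fun i ν h1 h2 =>
    ⟨_, SE_n R hpsi hn₀ i ν (cjl_fix R h1), alf_of_one R hpsi hn₀ i h1 h2⟩) H' hT hd he hel
  obtain ⟨φ, hφ, hφ1, hφ2⟩ := H40.OQ.exists_spherical R hG H' lam _ (V.ne lam)
    (fun t ht => by rw [hT t ht]; exact V.wt lam t ht) (fun w hw => V.span lam w fun t ht => by rw [← hT t ht]; exact hw t ht)
  choose s hs using fun w => exists_rp cs R.nsys w
  have hterm : ∀ w : W, (Nat.card ↥(RGD.B cs h T X) : ℂ) * (qc R w * (φ (s w) * φ (s w)⁻¹)) = An R (e w)⁻¹ x x := by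
    intro w
    obtain ⟨m, hm, hA⟩ := hcell w _ (hs w) lam x hr
    rw [hA lam x hr]
    split_ifs with hin
    · have h0 : cjl (hs w).inv.mem_normalizer lam = lam := by
        nth_rw 1 [← hin]
        rw [← cjl_mul R]
        exact cjl_T R hc (by simp) _ _
      rw [hφ1 w _ (hs w) ((fix_iff R hc (hs w) lam).1 hin), map_smul,
        hφ1 w⁻¹ _ (hs w).inv ((fix_iff R hc (hs w).inv lam).1 h0), smul_smul, smul_smul] at hm
      rw [← mul_assoc (qc R w), smul_left_injective ℂ (V.ne lam) hm, Nat.cast_mul]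
    · rw [hφ2 w _ (hs w) fun e => hin ((fix_iff R hc (hs w) lam).2 e), zero_mul, mul_zero, mul_zero, Nat.cast_zero]
  obtain ⟨χ, hχ, hdeg, hB⟩ := exists_irr hφ
  refine ⟨χ, hχ, by rw [mB, finsum_eq_sum_of_fintype, hB, inv_mul_cancel₀ (card_ne _)], ?_⟩
  rw [H40.OQ.sum_spherical R hG hφ s hs, Finset.mul_sum, Finset.sum_congr rfl fun w _ => hterm w,
    Blocks.Basic.irr_one_eq_charDegree hχ, ← Nat.cast_sum,
    show ∑ w, An R (e w)⁻¹ x x = ∑ w, An R w x x from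
      Fintype.sum_equiv (e.toEquiv.trans (Equiv.inv W)) _ _ fun _ => rfl, sum_An R hG] at hdeg
  exact_mod_cast hdeg

omit D hc H V hfix R in
/-- involutions of the torus -/
theorem card_inv [Fact p.Prime] (R : RGD cs h p T n X) (hp2 : p ≠ 2) {x : Y} (hx : x ∈ T) (h2 : x * x = 1) :
    ∃ j, Nat.card {y : Y // x⁻¹ * (y⁻¹ * x * y) ∈ UU cs h X} = Nat.card (Subgroup.centralizer ({x} : Set Y)) * p ^ j := by
  have h1 := H264.CD.card_mul_card (Subgroup.centralizer ({x} : Set Y)) (UU cs h X)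
  obtain ⟨k, hk⟩ := (IsPGroup.iff_card (p := p)).1 R.isPGroup_Upos
  have h3 : Nat.card ↥(Subgroup.centralizer ({x} : Set Y) ⊓ UU cs h X) ∣ p ^ k :=
    hk ▸ Subgroup.card_dvd_of_le inf_le_right
  obtain ⟨j, hj, e⟩ := (Nat.dvd_prime_pow Fact.out).1 h3
  refine ⟨k - j, Nat.eq_of_mul_eq_mul_right (Nat.pow_pos (n := j) (Fact.out : p.Prime).pos) ?_⟩
  rw [mul_assoc, ← pow_add, Nat.sub_add_cancel hj, ← hk, ← h1, e]
  refine congrArg (· * _) (Nat.card_congr (Equiv.subtypeEquivRight fun y => ⟨fun hy => ?_, ?_⟩))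
  · obtain ⟨u, hu⟩ : ∃ u, u = x⁻¹ * (y⁻¹ * x * y) := ⟨_, rfl⟩
    have h4 : y⁻¹ * x * y = x * u := by rw [hu, mul_inv_cancel_left]
    rw [← hu] at hy
    have h5 : x * u * (x * u) = 1 := by
      rw [← h4, show y⁻¹ * x * y * (y⁻¹ * x * y) = y⁻¹ * (x * x) * y by group, h2, mul_one, inv_mul_cancel]
    have h6 : u ^ p ^ k = 1 := by
      have := pow_card_eq_one' (x := (⟨u, hy⟩ : UU cs h X))
      rw [hk] at this
      exact congrArg Subtype.val this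
    obtain ⟨m, hm⟩ := ((Fact.out : p.Prime).odd_of_ne_two hp2).pow (n := k)
    have h7 : SemiconjBy x u u⁻¹ := by
      show x * u = u⁻¹ * x
      rw [eq_inv_mul_iff_mul_eq, ← mul_left_cancel_iff (a := x), h2, ← h5]
      group
    have h8 := h7.pow_right (m + 1)
    have h9 : u ^ (m + 1) * u ^ (m + 1) = u := by
      rw [← pow_add, show m + 1 + (m + 1) = 2 * m + 1 + 1 by ring, ← hm, pow_succ, h6, one_mul]
    refine ⟨y * (u ^ (m + 1))⁻¹, Subgroup.mem_centralizer_singleton_iff.2 ?_, u ^ (m + 1), pow_mem hy _, by simp⟩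
    have h10 : x * y = y * (x * u) := by rw [← h4]; group
    rw [← mul_assoc, h10, mul_assoc, ← inv_pow, ← h8.eq, mul_assoc y, inv_pow, mul_assoc x,
      eq_mul_inv_iff_mul_eq.2 h9 |>.symm]
  · rintro ⟨c, hc, u, hu, rfl⟩
    have h4 : c * x = x * c := Subgroup.mem_centralizer_singleton_iff.1 hc
    show x⁻¹ * ((c * u)⁻¹ * x * (c * u)) ∈ UU cs h X
    rw [show x⁻¹ * ((c * u)⁻¹ * x * (c * u)) = x⁻¹ * u⁻¹ * c⁻¹ * (x * c) * u by group, ← h4,
      show x⁻¹ * u⁻¹ * c⁻¹ * (c * x) * u = x⁻¹ * u⁻¹ * x * u by group]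
    exact mul_mem (conj_U R (RGD.T_le_B hx) (inv_mem hu)) hu

omit D hc H V hfix R in
/-- the principal `2`-block -/
theorem mem_two (hI : In p cs h T n X) (hp : p.Prime) (hp2 : p ≠ 2) {lam : ↥T →* ℂˣ} (hl2 : ∀ t, lam t * lam t = 1)
    (hlo : letI := actN hI.rgd; Odd (Nat.card (MulAction.orbit ↥(NN cs hI.rgd.nsys) lam))) {χ : Y → ℂ}
    (hχ : IsIrrCharacter Y χ) (hm : mB hI.rgd lam χ = 1) {M2 : Ideal AlgInt} (hM : IsPModular 2 M2) :
    (⟨χ, hχ⟩ : IrrCharacter Y) ∈ principalBlock M2 Y ∧ ¬ 2 ∣ charDegree χ := by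
  have hfact : Fact (Nat.Prime 2) := ⟨Nat.prime_two⟩
  have hfactp : Fact p.Prime := ⟨hp⟩
  have R := hI.rgd
  letI := actN R
  have hUodd : Odd (Nat.card ↥(RGD.Sup X (RGD.Pos cs h))) := by
    obtain ⟨k, hk⟩ := (IsPGroup.iff_card (p := p)).1 (R.isPGroup_Upos)
    rw [hk]
    exact (hp.odd_of_ne_two hp2).pow
  have hval : ∀ g ∈ T, Odd (orderOf g) → ∃ z : ℂ, IsIntegral ℤ z ∧
      χ g = (Nat.card ↥(RGD.Sup X (RGD.Pos cs h)) * Nat.card (MulAction.orbit ↥(NN cs R.nsys) lam) : ℕ) + 2 * z :=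
    fun g hg ho => value R hI.top hI.nofix hI.comm hχ hl2 hm hg ho
  obtain ⟨z₁, hz₁, e₁⟩ := hval 1 (one_mem _) (by rw [orderOf_one]; exact odd_one)
  have h2 : ¬ 2 ∣ charDegree χ := by
    rintro ⟨m, hm2⟩
    have h3 : (((Nat.card ↥(RGD.Sup X (RGD.Pos cs h)) * Nat.card (MulAction.orbit ↥(NN cs R.nsys) lam) : ℕ) : ℤ) : ℂ) =
        2 * ((m : ℂ) - z₁) := by
      have h4 : ((charDegree χ : ℕ) : ℂ) = 2 * m := by rw [hm2]; push_cast; ring
      rw [← Blocks.Basic.irr_one_eq_charDegree hχ, e₁] at h4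
      rw [Int.cast_natCast, mul_sub, ← h4]
      ring
    have hmi : IsIntegral ℤ (m : ℂ) := by simpa using isIntegral_algebraMap (R := ℤ) (A := ℂ) (x := (m : ℤ))
    exact (Nat.not_even_iff_odd.2 (hUodd.mul hlo)) (even_iff_two_dvd.2 (by exact_mod_cast two_dvd_of (hmi.sub hz₁) h3))
  refine ⟨H493.RatB.mem_of_value hM (isPGroup_twoT (T := T) (hc := hI.comm)) ⟨χ, hχ⟩ h2 fun y hy hoy => ?_, h2⟩
  have hoy' : Odd (orderOf y) := Nat.odd_iff.2 (by omega)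
  obtain ⟨z₂, hz₂, e₂⟩ := hval y (mem_T_of_cent R hI.top hI.nofix (hc := hI.comm) hI.faith hy hoy') hoy'
  have e3 : χ 1 - χ y = ((2 : ℕ) : ℂ) * (z₁ - z₂) := by
    rw [e₁, e₂]
    push_cast
    ring
  show MemLocalIdeal M2 (χ 1 - χ y)
  rw [e3]
  exact Blocks.LocalRing.memLocalIdeal_mul_right hM ((Blocks.LocalRing.memLocalIdeal_natCast_iff hM 2).2 dvd_rfl)
    (Blocks.LocalRing.memLocalRing_of_isIntegral hM (hz₁.sub hz₂))

end Cfsg.Agent.PQ.SS.Ps
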