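import Cfsg.Agent.PQ.SS.PsA
import Cfsg.Agent.ODD.PX.Chev
import Cfsg.Agent.H148.GG.Anti
import Cfsg.Agent.H441.GS.Chain

/-!
# PQ, principal series: the character of an involution of the split torus (helper81)

`exists_inv` : an involution `x` and a member of the principal `2`-block of odd degree, the degree is the class size of `x` up to
a power of the characteristic.
-/

set_option autoImplicit false
set_option linter.unusedSectionVars false
set_option maxHeartbeats 400000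

open Cfsg

namespace Cfsg.Agent.PQ.SS.Ps

open Matrix CoxeterSystem Cfsg.Agent.ChevalleyStructure.CoxeterGeom Cfsg.Agent.Tits.Roots Cfsg.Agent.Nodes.Reps
  Cfsg.Agent.Nodes.BNOf Cfsg.Agent.Nodes.Bruhat Cfsg.Agent.H684.OQ Cfsg.Agent.H381.OQ Cfsg.Agent.H310.OQ
  Cfsg.Agent.ODD.Cv Cfsg.Agent.Nodes.RGDLib

/-- signs -/
def sg (K : Type) [Ring K] : ℤˣ →* Kˣ := Units.map (Int.castRingHom K).toMonoidHom

theorem sg_neg (K : Type) [Ring K] : sg K (-1) = -1 := Units.ext (by simp [sg])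

theorem sg_inj {K : Type} [Field K] (h2 : (2 : K) ≠ 0) : Function.Injective (sg K) :=
  (injective_iff_map_eq_one _).2 fun η h => (Int.units_eq_one_or η).resolve_right fun e => h2 (by
    rw [e, sg_neg] at h
    have := congrArg Units.val h
    rw [Units.val_neg, Units.val_one] at this
    linear_combination -this)

theorem zpow_even (η : ℤˣ) {a : ℤ} (h : Even a) : η ^ a = 1 := by
  obtain ⟨m, rfl⟩ := h
  rw [_root_.zpow_add, Int.units_mul_self]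

theorem prod_zp {ι : Type} (s : Finset ι) (η : ℤˣ) (f : ι → ℤ) : ∏ j ∈ s, η ^ f j = η ^ ∑ j ∈ s, f j := by
  induction s using Finset.cons_induction with
  | empty => simp
  | cons a s ha ih => rw [Finset.prod_cons, Finset.sum_cons, ih, _root_.zpow_add]

variable {I W Y : Type} [Fintype I] [DecidableEq I] [Group W] [Finite W] [Group Y] [Finite Y]
  {M : CoxeterMatrix I} {cs : CoxeterSystem M W} {A : I → I → ℤ} {h : IsCartan M A} {p : ℕ} {K : Type} [Field K]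
  {T : Subgroup Y} {X : (I → ℤ) → Subgroup Y} {Φ : I → SpecialLinearGroup (Fin 2) K →* Y}

/-- `x` acts on the simple root groups by the signs `ε` -/
def Ac (T : Subgroup Y) (Φ : I → SpecialLinearGroup (Fin 2) K →* Y) (x : Y) (ε : I → ℤˣ) : Prop :=
  x ∈ T ∧ ∀ j t, x * Φ j (uu t) * x⁻¹ = Φ j (uu ((sg K (ε j) : K) * t))

theorem Ac.one : Ac T Φ 1 1 := ⟨one_mem _, fun j t => by simp⟩

theorem Ac.mul {x y : Y} {ε δ : I → ℤˣ} (hx : Ac T Φ x ε) (hy : Ac T Φ y δ) : Ac T Φ (x * y) (ε * δ) :=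
  ⟨mul_mem hx.1 hy.1, fun j t => by
    rw [show x * y * Φ j (uu t) * (x * y)⁻¹ = x * (y * Φ j (uu t) * y⁻¹) * x⁻¹ by group, hy.2, hx.2, Pi.mul_apply, map_mul,
      Units.val_mul, mul_assoc]⟩

/-- the data -/
structure Pd (S : InS p cs h T X (k := fun _ => K) Φ) (C : I → I → ℤ) (σ : Equiv.Perm I) (B : I → I → ℤ) : Prop where
  two : (2 : K) ≠ 0
  act : ∀ i j (c : Kˣ) t, Φ j (dd c) * Φ i (uu t) * (Φ j (dd c))⁻¹ = Φ i (uu (((c ^ C j i : Kˣ) : K) * t))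
  cox : ∀ i j, M (σ i) (σ j) = M i j
  par : ∀ i j, Even (C (σ i) (σ j) + C j i)
  odd : ∀ i, ∃ j, ¬ Even (C j i)
  inv : ∀ i l, Even (∑ j, B i j * C j l + if l = i then 1 else 0)
  cen : Subgroup.center Y = ⊥

variable {S : InS p cs h T X (k := fun _ => K) Φ} {C B : I → I → ℤ} {σ : Equiv.Perm I} (P : Pd S C σ B) {x y : Y}
  {ε δ : I → ℤˣ}

include P

theorem Pd.uu_inj {i : I} {s t : K} (e : Φ i (uu s) = Φ i (uu t)) : s = t :=
  sub_eq_zero.1 (S.inj i _ (by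
    rw [← mul_left_inj (Φ i (uu t)), ← map_mul, uu_mul, sub_add_cancel, e, one_mul]))

theorem Pd.cardX (i : I) : Nat.card (X (sr i)) = Nat.card K :=
  (Nat.card_eq_of_bijective (fun t : K => (⟨_, S.uu_mem i t⟩ : X (sr i)))
    ⟨fun _ _ e => P.uu_inj (congrArg Subtype.val e), fun u =>
      let ⟨t, e⟩ := (S.u i u).1 u.2
      ⟨t, Subtype.ext e.symm⟩⟩).symm

theorem Pd.dd (i : I) (η : ℤˣ) : Ac T Φ (Φ i (dd (sg K η))) fun j => η ^ C i j :=
  ⟨S.d i _, fun j t => by rw [P.act, map_zpow]⟩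

theorem Pd.eq_one (hx : Ac T Φ x 1) : x = 1 := by
  have h1 : ∀ i, ∀ u ∈ X (sr i), x * u = u * x := fun i u hu => by
    obtain ⟨t, rfl⟩ := (S.u i u).1 hu
    simpa [mul_inv_eq_iff_eq_mul] using hx.2 i t
  have h2 : G1 cs h X ≤ Subgroup.centralizer {x} := RGD.Sup_le fun a ha => H441.GS.X_le_of_simple S.inp.rgd (fun i =>
    ⟨fun u hu => Subgroup.mem_centralizer_singleton_iff.2 (h1 i u hu).symm, fun u hu =>
      Subgroup.mem_centralizer_singleton_iff.2 (H148.GG.comm_neg S.inp.rgd hx.1 (h1 i) u hu).symm⟩) ha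
  rw [← Subgroup.mem_bot, ← P.cen, Subgroup.mem_center_iff]
  exact fun g => Subgroup.mem_centralizer_singleton_iff.1 (h2 (S.gen ▸ Subgroup.mem_top g))

theorem Pd.sq (hx : Ac T Φ x ε) (hy : Ac T Φ y ε) : x * y = 1 :=
  P.eq_one ((funext fun j => Int.units_mul_self (ε j) : ε * ε = 1) ▸ hx.mul hy)

theorem Pd.eq_iff (hx : Ac T Φ x ε) (hy : Ac T Φ y δ) : ε = δ ↔ x = y := by
  refine ⟨fun e => ?_, fun e => funext fun j => sg_inj P.two (Units.ext ?_)⟩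
  · subst e
    exact mul_left_cancel ((P.sq hx hx).trans (P.sq hx hy).symm)
  · subst e
    simpa using P.uu_inj ((hx.2 j 1).symm.trans (hy.2 j 1))

theorem Pd.swap (i : I) (hx : x ∈ T) : (Φ i ww)⁻¹ * x * Φ i ww = Φ i ww * x * (Φ i ww)⁻¹ := by
  have h1 : x * (Φ i ww * Φ i ww) = Φ i ww * Φ i ww * x := S.inp.comm _ hx _ (S.inp.rgd.sq_mem_T i)
  rw [show (Φ i ww)⁻¹ * x * Φ i ww = (Φ i ww)⁻¹ * (x * (Φ i ww * Φ i ww)) * (Φ i ww)⁻¹ by group, h1]
  group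

theorem Pd.conj (i : I) (hx : Ac T Φ x ε) : Ac T Φ ((Φ i ww)⁻¹ * x * Φ i ww) (ε * fun j => ε i ^ C i j) := by
  rw [P.swap i hx.1, ODD.PX.conj_of_act S hx.1 (a := sg K (ε i)) (by simpa using hx.2 i 1), ← map_inv,
    Int.units_inv_eq_self]
  exact hx.mul (P.dd i _)

theorem Pd.total (ε : I → ℤˣ) : ∃ x, Ac T Φ x ε := by
  let H : Submonoid (I → ℤˣ) :=
    { carrier := {ε | ∃ x, Ac T Φ x ε}
      one_mem' := ⟨1, Ac.one⟩
      mul_mem' := fun ⟨x, hx⟩ ⟨y, hy⟩ => ⟨x * y, hx.mul hy⟩ }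
  show ε ∈ H
  rw [← Finset.univ_prod_mulSingle ε]
  refine prod_mem fun i _ => ?_
  rcases Int.units_eq_one_or (ε i) with e | e <;> rw [e]
  · rw [Pi.mulSingle_one]
    exact one_mem H
  · have h1 : Pi.mulSingle i (-1) = ∏ j, fun l => ((-1 : ℤˣ) ^ B i j) ^ C j l := funext fun l => by
      have h2 := zpow_even (-1) (P.inv i l)
      rw [_root_.zpow_add, mul_eq_one_iff_eq_inv, Int.units_inv_eq_self] at h2
      rw [Finset.prod_apply, Finset.prod_congr rfl fun j _ => (_root_.zpow_mul _ _ _).symm, prod_zp,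
        h2, Pi.mulSingle_apply]
      split_ifs <;> simp
    rw [h1]
    exact prod_mem fun j _ => ⟨_, P.dd j _⟩

variable {γ : Kˣ} (hγ : ∀ c, c ∈ Subgroup.zpowers γ)

include hγ

theorem Pd.ext {ν ν' : ↥T →* ℂˣ} (e : ∀ i, ν ⟨_, S.d i γ⟩ = ν' ⟨_, S.d i γ⟩) : ν = ν' := by
  refine MonoidHom.ext fun t => ?_
  have h1 : T ≤ (ν.eqLocus ν').map T.subtype := (S.tor_gen (ω := fun _ => γ) fun _ => hγ).trans
    ((Subgroup.closure_le _).2 (by rintro _ ⟨i, rfl⟩; exact ⟨⟨_, S.d i γ⟩, e i, rfl⟩))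
  obtain ⟨s, hs, e'⟩ := h1 t.2
  exact (Subtype.ext e' : s = t) ▸ hs

omit hγ in
theorem Pd.cjl_d (i j : I) (ν : ↥T →* ℂˣ) : cjl (rp_simple cs S.inp.rgd.nsys i).mem_normalizer ν ⟨_, S.d j γ⟩ =
    ν ⟨_, S.d j γ⟩ * ν ⟨_, S.d i γ⟩ ^ (-C j i) := by
  rw [← map_zpow, ← map_mul]
  refine congrArg ν (Subtype.ext ?_)
  show (Φ i ww)⁻¹ * Φ j (H310.OQ.dd γ) * Φ i ww = Φ j (H310.OQ.dd γ) * Φ i (H310.OQ.dd γ) ^ (-C j i)
  rw [P.swap i (S.d j γ), ODD.PX.conj_of_act S (S.d j γ) (a := γ ^ C j i) (by simpa using P.act i j γ 1), ← map_zpow,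
    ← map_zpow, _root_.zpow_neg]

theorem Pd.dl : Dl S.inp.rgd σ fun ν x => ∃ ε, Ac T Φ x ε ∧ ∀ i, ν ⟨_, S.d i γ⟩ = sg ℂ (ε (σ i)) where
  cox := P.cox
  mem := fun ⟨_, h1, _⟩ => h1.1
  step := fun i ⟨ε, h1, h2⟩ => ⟨_, P.conj (σ i) h1, fun j => by
    rw [P.cjl_d, h2, h2, ← map_zpow, ← map_mul, Pi.mul_apply, _root_.zpow_neg,
      ← eq_inv_of_mul_eq_one_left ((_root_.zpow_add _ _ _).symm.trans (zpow_even _ (P.par i j)))]⟩
  inj := fun ⟨ε, h1, h2⟩ ⟨δ, h3, h4⟩ => by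
    rw [← P.eq_iff h1 h3]
    refine ⟨fun e => funext fun j => ?_, fun e => P.ext hγ fun i => by rw [h2, h4, e]⟩
    obtain ⟨i, rfl⟩ := σ.surjective j
    exact sg_inj two_ne_zero (by rw [← h2, ← h4, e])
  node := fun {ν x} i ⟨ε, h1, h2⟩ => by
    rcases Int.units_eq_one_or (ε (σ i)) with e | e
    · have h3 : ν ⟨_, S.d i γ⟩ = 1 := by rw [h2, e, map_one]
      refine .inl ⟨P.ext hγ fun j => by rw [P.cjl_d, h3, _root_.one_zpow, mul_one], fun u hu hu1 => ?_, ?_⟩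
      · obtain ⟨c, hc⟩ := S.tx_mem' i hu hu1
        obtain ⟨m, rfl⟩ := hγ c
        rw [show (⟨tx S.inp.rgd i u, tx_mem S.inp.rgd i u⟩ : T) = ⟨_, S.d i γ⟩ ^ m from
          Subtype.ext (hc.trans (by simp)), map_zpow, h3, _root_.one_zpow]
      · refine (congrArg (fun H : Subgroup Y => Nat.card H) (inf_eq_left.2 fun u hu => ?_)).trans
          ((P.cardX _).trans (P.cardX _).symm)
        obtain ⟨t, rfl⟩ := (S.u _ u).1 hu
        have h4 := h1.2 (σ i) t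
        rw [e, map_one, Units.val_one, one_mul, mul_inv_eq_iff_eq_mul] at h4
        exact Subgroup.mem_centralizer_singleton_iff.2 h4.symm
    · refine .inr ⟨fun h3 => ?_, Subgroup.card_eq_one.2 (eq_bot_iff.2 fun u hu => ?_)⟩
      · obtain ⟨j, hj⟩ := P.odd i
        have h4 := P.cjl_d (γ := γ) i j ν
        rw [h3, h2 i, e, left_eq_mul, ← map_zpow, ← map_one (sg ℂ)] at h4
        have h5 := sg_inj two_ne_zero h4
        rw [(Int.not_even_iff_odd.1 hj).neg.neg_one_zpow] at h5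
        exact absurd h5 (by decide)
      · obtain ⟨t, rfl⟩ := (S.u _ u).1 hu.1
        have h4 := h1.2 (σ i) t
        rw [← Subgroup.mem_centralizer_singleton_iff.1 hu.2, mul_inv_cancel_right, e, sg_neg] at h4
        have h5 := P.uu_inj h4
        have h6 : t = 0 := (mul_eq_zero.1 (show 2 * t = 0 by
          rw [Units.val_neg, Units.val_one] at h5
          linear_combination h5)).resolve_left P.two
        rw [h6, uu_zero, map_one]
        exact one_mem _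

omit hγ in
/-- **the character of an involution** -/
theorem Pd.exists_inv [Nonempty I] (hp : p.Prime) (hp2 : p ≠ 2) {M2 : Ideal AlgInt} (hM : IsPModular 2 M2) :
    ∃ x : Y, orderOf x = 2 ∧ ∃ θ ∈ principalBlock M2 Y, ¬ 2 ∣ charDegree (θ : Y → ℂ) ∧
      ∃ j, charDegree (θ : Y → ℂ) * p ^ j = (Subgroup.centralizer ({x} : Set Y)).index := by
  have : Fact p.Prime := ⟨hp⟩
  have : Fact (Nat.Prime 2) := ⟨Nat.prime_two⟩
  obtain ⟨i⟩ := id ‹Nonempty I›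
  have := S.finite i
  obtain ⟨γ, hγ⟩ := IsCyclic.exists_generator (α := Kˣ)
  obtain ⟨lam, h1, h2, h3⟩ := exists_lam S.inp.rgd S.inp.nofix S.inp.comm i
  have h4 : ∀ i, ∃ η, lam ⟨_, S.d i γ⟩ = sg ℂ η := fun i => by
    rcases mul_self_eq_one_iff.1 (congrArg Units.val (h2 ⟨_, S.d i γ⟩)) with e | e
    exacts [⟨1, Units.ext (by rw [e, map_one]; rfl)⟩, ⟨-1, Units.ext (by rw [e, sg_neg]; rfl)⟩]
  choose η hη using h4
  obtain ⟨x, hx⟩ := P.total (η ∘ σ.symm)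
  have hr : ∃ ε, Ac T Φ x ε ∧ ∀ i, lam ⟨_, S.d i γ⟩ = sg ℂ (ε (σ i)) := ⟨_, hx, fun i => by simp [hη]⟩
  obtain ⟨χ, h5, h6, h7⟩ := (P.dl hγ).deg S.inp.comm S.inp.top hr
  obtain ⟨h8, h9⟩ := mem_two S.inp hp hp2 h2 h3 h5 h6 hM
  obtain ⟨j, hj⟩ := card_inv S.inp.rgd hp2 hx.1 (P.sq hx hx)
  refine ⟨x, orderOf_eq_prime (by rw [pow_two, P.sq hx hx]) fun e => h1 ?_, ⟨χ, h5⟩, h8, h9, j, ?_⟩
  · exact ((P.dl hγ).inj hr ⟨1, Ac.one, fun i => by simp⟩).2 e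
  · rw [hj, ← (Subgroup.centralizer {x}).card_mul_index] at h7
    exact Nat.eq_of_mul_eq_mul_left Nat.card_pos (by rw [← h7]; ring)

end Cfsg.Agent.PQ.SS.Ps
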